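import Cfsg.Agent.Lib.LocalEven.SolvTwo.TransferStep
import Cfsg.Agent.Lib.PLocal.OffenderCoprime
import Cfsg.Agent.Lib.PGroups.Basic

/-!
The two maximal local subgroups of the subgroup generated by the elements of odd order.
-/

set_option autoImplicit false
set_option linter.unusedSectionVars false
set_option linter.unusedVariables false
set_option linter.style.haveILetI false

namespace CfsgLib.LocalEven.SolvTwo

open Subgroup Cfsg CfsgLib.PLocal CfsgLib.Techniques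
open Equiv Equiv.Perm
open scoped commutatorElement

/-- The subgroup generated by the elements of odd order. -/
def oddGen (G : Type*) [Group G] : Subgroup G := closure {g : G | Odd (orderOf g)}

theorem kleinPerm_facts :
    (∀ σ : Perm (Fin 4), σ * σ = 1 → sign σ = 1 → σ * σ = 1 ∧ (σ = 1 ∨ ∀ i, σ i ≠ i)) ∧
    (∀ σ : Perm (Fin 4), σ * σ = 1 ∧ (σ = 1 ∨ ∀ i, σ i ≠ i) → sign σ = 1) ∧
    (∀ σ : Perm (Fin 4), σ * σ = 1 → (∀ h, σ * (h * σ * h⁻¹) = h * σ * h⁻¹ * σ) →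
      σ * σ = 1 ∧ (σ = 1 ∨ ∀ i, σ i ≠ i)) ∧
    (∀ σ : Perm (Fin 4), (∀ τ, (τ * τ = 1 ∧ (τ = 1 ∨ ∀ i, τ i ≠ i)) → σ * τ = τ * σ) →
      σ * σ = 1 ∧ (σ = 1 ∨ ∀ i, σ i ≠ i)) := by
  refine ⟨?_, ?_, ?_, ?_⟩ <;> decide +kernel

theorem card_kleinPerm : Nat.card kleinPerm = 4 := by
  rw [Nat.card_congr (Equiv.subtypeEquivRight (fun g => mem_kleinPerm (g := g))), Nat.card_eq_fintype_card,
    perm_four_facts.2.2.1]

variable {G : Type*} [Group G] [Finite G]

theorem oddGen_normal : (oddGen G).Normal :=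
  ⟨fun x hx g => by
    have : (oddGen G).map (MulAut.conj g).toMonoidHom ≤ oddGen G := by
      rw [oddGen, MonoidHom.map_closure]
      refine closure_mono ?_
      rintro _ ⟨y, hy, rfl⟩
      show Odd (orderOf (MulAut.conj g y))
      rw [MulEquiv.orderOf_eq]
      exact hy
    exact this (mem_map_of_mem _ hx)⟩

variable {B P₁ P₂ : Subgroup G}

local notation "E₁" => Cfsg.pCoreOf 2 P₁
local notation "E₂" => Cfsg.pCoreOf 2 P₂
local notation "Zz" => (Cfsg.pCoreOf 2 P₁ ⊓ Cfsg.pCoreOf 2 P₂)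
local notation "HH" => oddGen G

/-- A pair at the highest level, with its shape. -/
structure Crit (B P₁ P₂ : Subgroup G) : Prop where
  hp : Pair B P₁ P₂
  sh : Shape B P₁ P₂
  good : Good G (nu B)

theorem Crit.symm (cr : Crit B P₁ P₂) : Crit B P₂ P₁ := ⟨cr.hp.symm, cr.sh.symm, cr.good⟩

/-- Elements of `P₁` in its centre and in `oddGen G` are trivial. -/
theorem Crit.fix_H (h : Hyp G) (cr : Crit B P₁ P₂) {x : G} (hx : x ∈ P₁)
    (hxc : x ∈ centralizer (P₁ : Set G)) (hxH : x ∈ HH) : x = 1 := by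
  have hxE : x ∈ E₁ := cr.hp.amal.s₁.centralizer_core
    ⟨hx, centralizer_le (SetLike.coe_subset_coe.2 (map_subtype_le _)) hxc⟩
  have hxZ : x ∈ Zz := cr.sh.centre.le
    ⟨cr.sh.le₁ hxE, centralizer_le (SetLike.coe_subset_coe.2 cr.hp.f₁.le) hxc⟩
  have h1 := cr.hp.card_fix cr.sh
  rcases cr.sh.cardZ with h2 | h4
  · have : Zz ⊓ centralizer (P₁ : Set G) = ⊥ := Subgroup.card_eq_one.1 (by omega)
    exact mem_bot.1 (this ▸ ⟨hxZ, hxc⟩)
  · obtain ⟨c, hc, hc1, hcP⟩ := cr.hp.fix_ne cr.sh h4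
    have hD : zpowers c = Zz ⊓ centralizer (P₁ : Set G) := by
      refine Subgroup.eq_of_le_of_card_ge (zpowers_le.2 ⟨hc, hcP⟩) ?_
      have : orderOf c = 2 := orderOf_eq_prime (by rw [pow_two]; exact sq_of_el cr.sh.el₁ hc.1) hc1
      rw [Nat.card_zpowers]; omega
    rcases mem_zpowers_invol (sq_of_el cr.sh.el₁ hc.1) (hD.ge ⟨hxZ, hxc⟩) with e | e
    · exact e
    · exact absurd (e ▸ hxH) (Four.not_mem_odd h ⟨cr.hp, cr.sh, cr.good, h4, hc, hc1, hcP⟩)

/-- The action on four points, with the core over the four-group. -/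
theorem Crit.model (cr : Crit B P₁ P₂) : ∃ φ : P₁ →* Perm (Fin 4), Function.Surjective φ ∧
    (∀ x : P₁, φ x = 1 ↔ (x : G) ∈ centralizer (P₁ : Set G)) ∧
      ∀ x : P₁, φ x ∈ kleinPerm ↔ (x : G) ∈ E₁ := by
  obtain ⟨φ, hφ, hker⟩ := cr.sh.act₁
  have hle : (E₁).subgroupOf P₁ ≤ kleinPerm.comap φ := by
    intro x hx
    rw [mem_subgroupOf] at hx
    have h2 : φ x * φ x = 1 := by
      rw [← map_mul, show x * x = 1 from Subtype.ext (sq_of_el cr.sh.el₁ hx), map_one]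
    refine mem_kleinPerm.2 (kleinPerm_facts.2.2.1 (φ x) h2 fun k => ?_)
    obtain ⟨y, rfl⟩ := hφ k
    have hy : ((y * x * y⁻¹ : P₁) : G) ∈ E₁ :=
      conj_mem_of_mem_normalizer (le_normalizer_pCoreOf' P₁ y.2) hx
    have := congrArg φ (show x * (y * x * y⁻¹) = y * x * y⁻¹ * x from
      Subtype.ext (isElementaryAbelian_comm cr.sh.el₁ hx hy))
    simpa only [map_mul, map_inv] using this
  have heq : (E₁).subgroupOf P₁ = kleinPerm.comap φ := by
    refine Subgroup.eq_of_le_of_card_ge hle ?_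
    rw [show Nat.card ↥((E₁).subgroupOf P₁) = Nat.card ↥(E₁) from
      Nat.card_congr (subgroupOfEquivOfLe (map_subtype_le _)).toEquiv]
    have h1 := (kleinPerm.comap φ).card_mul_index
    rw [index_comap_of_surjective _ hφ] at h1
    have h2 := kleinPerm.card_mul_index
    rw [card_kleinPerm, Nat.card_perm, Nat.card_fin, show Nat.factorial 4 = 24 from rfl] at h2
    have h3 : kleinPerm.index = 6 := by omega
    rw [h3] at h1
    have h4 := cr.hp.amal.s₁.card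
    have h5 := cr.hp.amal.s₁.card_core
    omega
  exact ⟨φ, hφ, hker, fun x => (mem_comap.symm.trans (by rw [← heq])).trans mem_subgroupOf⟩

/-- Even permutations are images of elements of `oddGen G`. -/
theorem even_lift {φ : P₁ →* Perm (Fin 4)} (hφ : Function.Surjective φ) {σ : Perm (Fin 4)}
    (hσ : sign σ = 1) : ∃ x : P₁, (x : G) ∈ HH ∧ φ x = σ := by
  suffices h : alternatingGroup (Fin 4) ≤ ((oddGen G).subgroupOf P₁).map φ by
    obtain ⟨x, hx, e⟩ := h (mem_alternatingGroup.2 hσ)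
    exact ⟨x, hx, e⟩
  rw [← closure_three_cycles_eq_alternating, closure_le]
  intro τ hτ
  obtain ⟨y, rfl⟩ := hφ τ
  have h3 : φ y ^ 3 = 1 := by
    rw [← (show orderOf (φ y) = 3 from IsThreeCycle.orderOf hτ)]
    exact pow_orderOf_eq_one _
  obtain ⟨k, m, hm, e⟩ := Nat.exists_eq_two_pow_mul_odd (orderOf_pos y).ne'
  have hz : Odd (orderOf ((y ^ 2 ^ k : P₁) : G)) := by
    rw [Subgroup.orderOf_coe]
    refine hm.of_dvd_nat (orderOf_dvd_of_pow_eq_one ?_)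
    rw [← pow_mul, ← e, pow_orderOf_eq_one]
  refine ⟨(y ^ 2 ^ k) ^ 2 ^ k, pow_mem (mem_subgroupOf.2 (subset_closure hz)) _, ?_⟩
  rw [map_pow, map_pow, ← pow_mul, pow_eq_pow_mod _ h3, ← mul_pow, Nat.pow_mod]
  simp

/-- An element of `E₂ ⊓ oddGen G` outside `E₁`. -/
theorem Crit.exists_odd (cr : Crit B P₁ P₂) : ∃ k, k ∈ E₂ ∧ k ∈ HH ∧ k ∉ E₁ := by
  by_contra hc
  push Not at hc
  obtain ⟨x, hx, hx1⟩ := cr.sh.symm.exists_elt
  obtain ⟨φ, hφ, hker, hk⟩ := cr.symm.model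
  set x' : P₂ := ⟨x, cr.hp.f₂.le (cr.sh.le₂ hx)⟩
  have hxk : φ x' ∈ kleinPerm := (hk x').2 hx
  obtain ⟨y, hyH, hye⟩ := even_lift hφ (kleinPerm_facts.2.1 _ (mem_kleinPerm.1 hxk))
  have hyE : (y : G) ∈ E₂ := (hk y).1 (hye ▸ hxk)
  have hd : ((y⁻¹ * x' : P₂) : G) ∈ centralizer (P₂ : Set G) := (hker _).1 (by
    rw [map_mul, map_inv, hye, inv_mul_cancel])
  have hdB : (y : G)⁻¹ * x ∈ B :=
    mul_mem (inv_mem (cr.sh.le₂ hyE)) (cr.sh.le₂ hx)
  have hdZ : (y : G)⁻¹ * x ∈ Zz := cr.sh.centre.le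
    ⟨hdB, centralizer_le (SetLike.coe_subset_coe.2 cr.hp.f₂.le) hd⟩
  exact hx1 (((Cfsg.pCoreOf 2 P₁).mul_mem_cancel_left (inv_mem (hc _ hyE hyH))).1 hdZ.1)

/-- `P₁ ⊓ oddGen G` maps bijectively onto the symmetric group. -/
theorem Crit.model_H (h : Hyp G) (cr : Crit B P₁ P₂) : ∃ φ : P₁ →* Perm (Fin 4),
    Function.Bijective (φ.comp (Subgroup.inclusion (inf_le_left : P₁ ⊓ HH ≤ P₁))) ∧
    (∀ x : P₁, φ x = 1 ↔ (x : G) ∈ centralizer (P₁ : Set G)) ∧
      ∀ x : P₁, φ x ∈ kleinPerm ↔ (x : G) ∈ E₁ := by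
  obtain ⟨φ, hφ, hker, hk⟩ := cr.model
  refine ⟨φ, ⟨(injective_iff_map_eq_one _).2 fun x hx => ?_, fun σ => ?_⟩, hker, hk⟩
  · exact Subtype.ext (cr.fix_H h x.2.1 ((hker _).1 hx) x.2.2)
  · obtain ⟨k, hk2, hkH, hk1⟩ := cr.exists_odd
    set k' : P₁ := ⟨k, cr.hp.f₁.le (cr.sh.le₂ hk2)⟩
    have hsq : φ k' * φ k' = 1 := by
      rw [← map_mul, show k' * k' = 1 from Subtype.ext (sq_of_el cr.sh.el₂ hk2), map_one]
    have hsign : sign (φ k') = -1 := (Int.units_eq_one_or _).resolve_left fun e =>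
      hk1 ((hk k').1 (mem_kleinPerm.2 (kleinPerm_facts.1 _ hsq e)))
    rcases Int.units_eq_one_or (sign σ) with e | e
    · obtain ⟨x, hx, hxe⟩ := even_lift hφ e
      exact ⟨⟨x, x.2, hx⟩, hxe⟩
    · obtain ⟨x, hx, hxe⟩ := even_lift hφ (σ := σ * φ k') (by rw [map_mul, e, hsign]; decide)
      refine ⟨⟨x * k, mul_mem x.2 k'.2, mul_mem hx hkH⟩, ?_⟩
      show φ (x * k') = σ
      rw [map_mul, hxe, mul_assoc, hsq, mul_one]

theorem Crit.equiv (h : Hyp G) (cr : Crit B P₁ P₂) :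
    Nonempty (↥(P₁ ⊓ HH) ≃* Perm (Fin 4)) := by
  obtain ⟨φ, hb, -, -⟩ := cr.model_H h
  exact ⟨MulEquiv.ofBijective _ hb⟩

theorem Crit.card_PH (h : Hyp G) (cr : Crit B P₁ P₂) : Nat.card ↥(P₁ ⊓ HH) = 24 := by
  obtain ⟨e⟩ := cr.equiv h
  rw [Nat.card_congr e.toEquiv, Nat.card_perm, Nat.card_fin]; rfl

theorem Crit.card_V (h : Hyp G) (cr : Crit B P₁ P₂) : Nat.card ↥(E₁ ⊓ HH) = 4 := by
  obtain ⟨φ, hb, -, hk⟩ := cr.model_H h
  have hle : E₁ ≤ P₁ := map_subtype_le _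
  let e : ↥(E₁ ⊓ HH) → kleinPerm := fun x => ⟨φ ⟨x, hle x.2.1⟩, (hk _).2 x.2.1⟩
  rw [← card_kleinPerm]
  refine Nat.card_eq_of_bijective e ⟨fun x y hxy => ?_, fun σ => ?_⟩
  · have := hb.1 (a₁ := (⟨x, hle x.2.1, x.2.2⟩ : ↥(P₁ ⊓ HH))) (a₂ := ⟨y, hle y.2.1, y.2.2⟩)
      (congrArg Subtype.val hxy)
    exact Subtype.ext (congrArg (fun z : ↥(P₁ ⊓ HH) => (z : G)) this)
  · obtain ⟨x, hx⟩ := hb.2 σ
    have hx' : (x : G) ∈ E₁ := (hk ⟨x, x.2.1⟩).1 (by
      show φ.comp (Subgroup.inclusion (inf_le_left : P₁ ⊓ HH ≤ P₁)) x ∈ kleinPerm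
      rw [hx]; exact σ.2)
    exact ⟨⟨x, hx', x.2.2⟩, Subtype.ext hx⟩

theorem Crit.card_BH (h : Hyp G) (cr : Crit B P₁ P₂) : Nat.card ↥(B ⊓ HH) = 8 := by
  haveI : Fact (Nat.Prime 2) := ⟨Nat.prime_two⟩
  have hp : IsPGroup 2 ↥(B ⊓ HH) := cr.hp.f₁.two.to_le inf_le_left
  obtain ⟨j, hj⟩ := IsPGroup.iff_card.1 hp
  have hd := Subgroup.card_dvd_of_le (inf_le_inf_right HH cr.hp.f₁.le)
  rw [cr.card_PH h, hj] at hd
  obtain ⟨k, hk2, hkH, hk1⟩ := cr.exists_odd
  have hlt : E₁ ⊓ HH < B ⊓ HH := lt_of_le_of_ne (inf_le_inf_right _ cr.sh.le₁) fun e =>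
    hk1 (e.ge (mem_inf.2 ⟨cr.sh.le₂ hk2, hkH⟩)).1
  have h4 := card_lt_of_lt hlt
  rw [cr.card_V h, hj] at h4
  have hj5 : j ≤ 4 := by
    by_contra hcon
    have := Nat.pow_le_pow_right (show 0 < 2 by norm_num) (not_le.1 hcon)
    have := Nat.le_of_dvd (by norm_num) hd
    simp only [Nat.succ_eq_add_one] at *
    omega
  interval_cases j <;> simp_all

theorem Crit.le_normalizer_V (cr : Crit B P₁ P₂) : P₁ ≤ normalizer ((E₁ ⊓ HH : Subgroup G) : Set G) := by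
  haveI := oddGen_normal (G := G)
  exact CfsgLib.Coprime.le_normalizer_inf_inf (le_normalizer_pCoreOf' P₁) le_normalizer_of_normal

/-- The normalizer of `E₁ ⊓ oddGen G` is `P₁`, its centralizer is `E₁`. -/
theorem Crit.local_V (h : Hyp G) (cr : Crit B P₁ P₂) :
    normalizer ((E₁ ⊓ HH : Subgroup G) : Set G) = P₁ ∧
      centralizer ((E₁ ⊓ HH : Subgroup G) : Set G) ≤ E₁ := by
  haveI : Fact (Nat.Prime 2) := ⟨Nat.prime_two⟩
  haveI := oddGen_normal (G := G)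
  obtain ⟨hp, sh, good⟩ := id cr
  set V := E₁ ⊓ HH with hV
  set X := normalizer (V : Set G) with hX
  have hV4 : Nat.card V = 4 := cr.card_V h
  have hVel : IsElementaryAbelian 2 V := isElementaryAbelian_of_le sh.el₁ inf_le_left
  have hV1 : V ≠ ⊥ := fun e => by rw [e, card_bot] at hV4; omega
  have hVp : IsPGroup 2 V := isPGroup_of_isElementaryAbelian hVel
  have hloc : IsTwoLocal X := ⟨V, hVp, hV1, rfl⟩
  have hPX : P₁ ≤ X := cr.le_normalizer_V
  obtain ⟨hsyl, hsylB⟩ := hp.sylow_cores h sh good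
  -- `B` is a Sylow subgroup of `X`
  have hBX : SylIn 2 B X := by
    obtain ⟨U, hU, hBU⟩ := exists_sylIn_ge hp.f₁.two (hp.f₁.le.trans hPX)
    rcases hBU.eq_or_lt with e | hlt
    · exact e ▸ hU
    exfalso
    obtain ⟨u, hu, huB⟩ := SetLike.exists_of_lt (lt_inf_normalizer' hU.isPGroup hlt)
    rcases sh.permute hu.2 with ⟨ea, -⟩ | ⟨ea, -⟩
    · have e := hsylB.eq_of_le
        (hU.isPGroup.to_le (inf_le_left : U ⊓ (normalizer (B : Set G) ⊓ normalizer (E₁ : Set G)) ≤ U))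
        (le_inf hBU hsylB.le) inf_le_right
      exact huB (e.le ⟨hu.1, hu.2, mem_normalizer_iff_cj.2 ea⟩)
    · have hVE : V ≤ Zz := by
        refine le_inf inf_le_left ?_
        rw [← mem_normalizer_iff_cj.1 (hU.le hu.1), ← ea]
        exact cj_mono inf_le_left
      have h1 := card_le_of_le hVE
      have h2 := hp.card_fix sh
      have h3 : Zz ≤ HH := by
        rw [← Subgroup.eq_of_le_of_card_ge hVE (by rcases sh.cardZ with hh | hh <;> omega)]
        exact inf_le_right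
      have h4 : Zz ⊓ centralizer (P₁ : Set G) = ⊥ := (eq_bot_iff_forall _).2 fun x hx =>
        cr.fix_H h (hp.f₁.le (sh.le₁ hx.1.1)) hx.2 (h3 hx.1)
      rw [h4, card_bot] at h2
      rcases sh.cardZ with hh | hh <;> omega
  -- `O₂(X) = E₁`
  set O := pCoreOf 2 X
  have hOB : O ≤ B := hBX.le_of_normal (isPGroup_pCoreOf' X) (map_subtype_le _) (le_normalizer_pCoreOf' X)
  have hOE : O ≤ E₁ := le_pCoreOf (isPGroup_pCoreOf' X) (hOB.trans hp.f₁.le)
    (hPX.trans (le_normalizer_pCoreOf' X))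
  have hEO : E₁ ≤ O := fun e he => local_centralizer_core h hloc
    ⟨hPX (map_subtype_le _ he), centralizer_le (SetLike.coe_subset_coe.2 hOE) (le_centralizer_self sh.el₁ he)⟩
  have hO : O = E₁ := le_antisymm hOE hEO
  have hXE : X ≤ normalizer ((E₁ : Subgroup G) : Set G) := by
    rw [← hO]; exact le_normalizer_pCoreOf' X
  set C := centralizer (V : Set G) with hC
  have hCX : C ≤ X := centralizer_le_normalizer _
  have hsq : ∀ x ∈ C, x * x ∈ E₁ := by
    intro x hx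
    refine hp.centralizer_core_le h sh good (mem_centralizer_iff.2 fun e he => ?_)
    have hxe : x * e * x⁻¹ ∈ E₁ := conj_mem_of_mem_normalizer (hXE (hCX hx)) he
    have hfix : ∀ v ∈ V, x * v * x⁻¹ = v := fun v hv => by
      rw [← mem_centralizer_iff.1 hx v hv, mul_inv_cancel_right]
    by_cases heV : e ∈ V
    · calc e * (x * x) = (e * x) * x := by group
        _ = (x * e) * x := by rw [mem_centralizer_iff.1 hx e heV]
        _ = x * (e * x) := by group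
        _ = x * (x * e) := by rw [mem_centralizer_iff.1 hx e heV]
        _ = _ := by group
    · have hidx : V.relIndex E₁ = 2 := by
        have h1 := relIndex_mul_relIndex ⊥ V E₁ bot_le inf_le_left
        simp only [relIndex_bot_left] at h1
        have h2 := card_lt_of_lt (lt_of_le_of_ne (inf_le_left : V ≤ E₁) fun e' => heV (e'.ge he))
        have h3 := sh.cardE₁
        rw [hV4] at h1 h2
        rcases sh.cardZ with hh | hh <;> omega
      set w := e * (x * e * x⁻¹) with hw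
      have hwV : w ∈ V := by
        have h3 := Subgroup.mul_mem_iff_of_index_two (H := V.subgroupOf E₁) hidx
          (a := ⟨e, he⟩) (b := ⟨_, hxe⟩)
        refine h3.2 ⟨fun hh => absurd hh heV, fun hh => absurd hh fun hh' : x * e * x⁻¹ ∈ V => heV ?_⟩
        have h4 := hfix _ hh'
        rw [show e = x * e * x⁻¹ from
          ((MulAut.conj x).injective (show MulAut.conj x (x * e * x⁻¹) = MulAut.conj x e from h4)).symm]
        exact hh'
      have hxe' : x * e * x⁻¹ = e * w := by rw [hw, ← mul_assoc, sq_of_el sh.el₁ he, one_mul]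
      have : x * x * e * (x * x)⁻¹ = e := by
        calc x * x * e * (x * x)⁻¹ = x * (x * e * x⁻¹) * x⁻¹ := by group
          _ = x * (e * w) * x⁻¹ := by rw [hxe']
          _ = (x * e * x⁻¹) * (x * w * x⁻¹) := by group
          _ = e * w * w := by rw [hxe', hfix w hwV]
          _ = e := by rw [mul_assoc, sq_of_el hVel hwV, mul_one]
      exact (mul_inv_eq_iff_eq_mul.1 this).symm
  have hC2 : IsPGroup 2 C := fun x => ⟨2, Subtype.ext (by
    show (x : G) ^ 2 ^ 2 = 1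
    rw [show (2 : ℕ) ^ 2 = 2 * 2 from rfl, pow_mul, sq, sq]
    exact sq_of_el sh.el₁ (hsq x x.2))⟩
  have hCE : C ≤ E₁ := hO ▸ le_pCoreOf hC2 hCX (CfsgLib.Coprime.le_normalizer_centralizer le_rfl)
  refine ⟨(Subgroup.eq_of_le_of_card_ge hPX ?_).symm, hCE⟩
  have hexp : ∀ z ∈ V, z ^ 2 = 1 := hVel.2
  have hA : Nat.card (MulAut V) ≤ 6 := card_mulAut_le (p := 2) (by rw [hV4]; norm_num) hexp
  set a := actHom X V le_rfl
  have h1 := a.ker.card_mul_index
  rw [index_ker] at h1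
  have h2 : Nat.card a.ker ≤ Nat.card ↥(E₁) := Nat.card_le_card_of_injective
    (fun x => ⟨((x : X) : G), hCE (actHom_eq_one_iff.1 (MonoidHom.mem_ker.1 x.2))⟩)
    fun x y hxy => by
      have := congrArg Subtype.val hxy
      exact Subtype.ext (Subtype.ext this)
  have h3 : Nat.card a.range ≤ 6 := (Subgroup.card_le_card_group _).trans hA
  have h4 : Nat.card X ≤ Nat.card ↥(E₁) * 6 := h1 ▸ Nat.mul_le_mul h2 h3
  have h5 := hp.amal.s₁.card
  have h6 := hp.amal.s₁.card_core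
  show Nat.card X ≤ Nat.card P₁
  omega

/-- `P₁ ⊓ oddGen G` normalises no other nontrivial `2`-subgroup of `oddGen G`. -/
theorem Crit.two_eq (h : Hyp G) (cr : Crit B P₁ P₂) {R : Subgroup G} (hR : IsPGroup 2 R) (hR1 : R ≠ ⊥)
    (hRH : R ≤ HH) (hn : P₁ ⊓ HH ≤ normalizer (R : Set G)) : R = E₁ ⊓ HH := by
  haveI : Fact (Nat.Prime 2) := ⟨Nat.prime_two⟩
  haveI := oddGen_normal (G := G)
  obtain ⟨hN, hC⟩ := cr.local_V h
  obtain ⟨φ, hb, hker, hk⟩ := cr.model_H h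
  set V := E₁ ⊓ HH with hV
  have hle : E₁ ≤ P₁ := map_subtype_le _
  have hVK : V ≤ P₁ ⊓ HH := inf_le_inf_right _ hle
  have hVp : IsPGroup 2 V := isPGroup_of_isElementaryAbelian (isElementaryAbelian_of_le cr.sh.el₁ inf_le_left)
  -- the intersection
  have hW : R ⊓ V ≠ ⊥ := by
    intro e
    set T := R ⊔ V with hT
    have hTp : IsPGroup 2 T := hR.to_sup_of_normal_left' hVp (hVK.trans hn)
    haveI : (R.subgroupOf T).Normal :=
      normal_subgroupOf_of_le_normalizer (sup_le le_normalizer (hVK.trans hn))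
    refine CfsgLib.PGroups.inf_center_ne_bot hTp (N := R.subgroupOf T)
      (fun e' => hR1 ?_) ((eq_bot_iff_forall _).2 fun z hz => ?_)
    · rw [subgroupOf_eq_bot, disjoint_iff, inf_eq_left.2 (le_sup_left : R ≤ T)] at e'
      exact e'
    · have hzC : (z : G) ∈ centralizer (V : Set G) := mem_centralizer_iff.2 fun v hv =>
        congrArg Subtype.val (mem_center_iff.1 hz.2 ⟨v, mem_sup_right hv⟩)
      exact Subtype.ext (mem_bot.1 (e.le ⟨hz.1, hC hzC, hRH hz.1⟩))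
  have hVR : V ≤ R := by
    have hd := Subgroup.card_dvd_of_le (inf_le_right : R ⊓ V ≤ V)
    rw [cr.card_V h] at hd
    have hle4 := Nat.le_of_dvd (by norm_num) hd
    have hne : Nat.card ↥(R ⊓ V) ≠ 1 := fun e => hW (Subgroup.card_eq_one.1 e)
    by_contra hcon
    have hlt := card_lt_of_lt (lt_of_le_of_ne (inf_le_right : R ⊓ V ≤ V) fun e => hcon (e.ge.trans inf_le_left))
    rw [cr.card_V h] at hlt
    have h2 : Nat.card ↥(R ⊓ V) = 2 := by
      have := Nat.card_pos (α := ↥(R ⊓ V))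
      interval_cases Nat.card ↥(R ⊓ V) <;> omega
    obtain ⟨⟨w, hw⟩, hw1⟩ := (ne_bot_iff_exists_ne_one).1 hW
    refine hw1 (Subtype.ext (cr.fix_H h (hle hw.2.1) ?_ hw.2.2))
    refine (hker ⟨w, hle hw.2.1⟩).1 (perm_four_facts.2.2.2 _ fun σ => ?_)
    obtain ⟨k, rfl⟩ := hb.2 σ
    have hm : (k : G) * w * (k : G)⁻¹ ∈ R ⊓ V :=
      ⟨conj_mem_of_mem_normalizer (hn k.2) hw.1,
        conj_mem_of_mem_normalizer (cr.le_normalizer_V k.2.1) hw.2⟩
    have hw' : w ≠ 1 := fun e => hw1 (Subtype.ext e)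
    rcases eq_of_card_two h2 hm hw hw' with e | e
    · exact absurd (conj_eq_one_iff.1 e) hw'
    · show φ _ * φ _ = φ _ * φ _
      rw [← map_mul, ← map_mul]
      exact congrArg φ (Subtype.ext (mul_inv_eq_iff_eq_mul.1 e).symm)
  refine le_antisymm ?_ hVR
  by_contra hcon
  have hlt : V < R := lt_of_le_not_ge hVR hcon
  have h2 := lt_inf_normalizer' hR hlt
  refine h2.not_ge (le_inf ?_ (inf_le_left.trans hRH))
  rw [hN]
  refine le_pCoreOf (hR.to_le inf_le_left) inf_le_right fun p hp => ?_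
  obtain ⟨k, hke⟩ := hb.2 (φ ⟨p, hp⟩)
  have hd : (k : G)⁻¹ * p ∈ centralizer (P₁ : Set G) := by
    refine (hker ((⟨k, k.2.1⟩ : P₁)⁻¹ * ⟨p, hp⟩)).1 ?_
    rw [map_mul, map_inv]
    exact inv_mul_eq_one.2 hke
  rw [show p = (k : G) * ((k : G)⁻¹ * p) by group]
  refine mul_mem ?_ (centralizer_le_normalizer _ (centralizer_le (SetLike.coe_subset_coe.2 inf_le_right) hd))
  exact CfsgLib.Coprime.le_normalizer_inf_inf hn (inf_le_left.trans le_normalizer) k.2

/-- `P₁ ⊓ oddGen G` is a maximal local subgroup of `oddGen G`. -/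
theorem Crit.maximal (h : Hyp G) (cr : Crit B P₁ P₂) :
    IsMaximalTwoLocal ((P₁ ⊓ HH).subgroupOf HH) := by
  haveI : Fact (Nat.Prime 2) := ⟨Nat.prime_two⟩
  obtain ⟨hN, -⟩ := cr.local_V h
  set V := E₁ ⊓ HH with hV
  have hVH : V ≤ HH := inf_le_right
  have hVp : IsPGroup 2 V := isPGroup_of_isElementaryAbelian (isElementaryAbelian_of_le cr.sh.el₁ inf_le_left)
  have he : normalizer ((V.subgroupOf HH : Subgroup HH) : Set HH) = (P₁ ⊓ HH).subgroupOf HH := by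
    rw [← subgroupOf_normalizer_eq hVH, hN, inf_subgroupOf_right]
  refine ⟨⟨V.subgroupOf HH, hVp.comap_subtype, fun e => ?_, he.symm⟩, ?_⟩
  · rw [subgroupOf_eq_bot, disjoint_iff, inf_eq_left.2 hVH] at e
    have := cr.card_V h
    rw [← hV, e, card_bot] at this
    omega
  rintro N ⟨T, hT, hT1, rfl⟩ hle
  have hTe : T = V.subgroupOf HH := by
    apply Subgroup.map_injective (oddGen G).subtype_injective
    rw [map_subgroupOf_eq_of_le hVH]
    refine cr.two_eq h (hT.map _) (fun e => hT1 ?_) (map_subtype_le _) ?_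
    · rwa [map_eq_bot_iff_of_injective _ (oddGen G).subtype_injective] at e
    · conv_lhs => rw [← map_subgroupOf_eq_of_le (inf_le_right : P₁ ⊓ HH ≤ HH)]
      exact (map_mono hle).trans (le_normalizer_map _)
  rw [hTe, he]

theorem exists_crit (hg : ¬ Good G (nu (⊥ : Subgroup G))) : ∃ B P₁ P₂ : Subgroup G, Crit B P₁ P₂ := by
  classical
  let s : Set (Subgroup G) := {B | ∃ P P', Pair B P P' ∧ nu (⊥ : Subgroup G) < nu B}
  have hbad : ∀ {B P P' : Subgroup G}, Fac B P → Fac B P' →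
      (¬ ∃ R : Subgroup G, R ≠ ⊥ ∧ R ≤ B ∧ P ≤ normalizer (R : Set G) ∧ P' ≤ normalizer (R : Set G)) →
      Pair B P P' := fun hP hP' hno => ⟨hP, hP', fun R hR h1 h2 => by_contra fun hR1 => hno ⟨R, hR1, hR, h1, h2⟩⟩
  have hs : s.Nonempty := by
    unfold Good at hg
    push Not at hg
    obtain ⟨B, P, P', hP, hP', hn, hno⟩ := hg
    exact ⟨B, P, P', hbad hP hP' (fun ⟨R, h1, h2, h3, h4⟩ => hno R h1 h2 h3 h4), hn⟩
  obtain ⟨B, ⟨P₁, P₂, hp, hn⟩, hmax⟩ := Set.exists_max_image s nu s.toFinite hs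
  refine ⟨B, P₁, P₂, hp, hp.amal.shape, fun B' P P' hP hP' hlt => ?_⟩
  by_contra hno
  exact absurd (hmax B' ⟨P, P', hbad hP hP' hno, hn.trans hlt⟩) (not_le.2 hlt)

/-- The main statement. -/
theorem exists_two_maximal (h : Hyp G) (hg : ¬ Good G (nu (⊥ : Subgroup G))) :
    ∃ M₁ M₂ : Subgroup (oddGen G), M₁ ≠ M₂ ∧ IsMaximalTwoLocal M₁ ∧ IsMaximalTwoLocal M₂ ∧
      Nonempty (M₁ ≃* Perm (Fin 4)) ∧ Nonempty (M₂ ≃* Perm (Fin 4)) ∧ Nat.card ↥(M₁ ⊓ M₂) = 8 := by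
  obtain ⟨B, P₁, P₂, cr⟩ := exists_crit hg
  set H := oddGen G
  have hc : Nat.card ↥((P₁ ⊓ H).subgroupOf H ⊓ (P₂ ⊓ H).subgroupOf H) = 8 := by
    show Nat.card ↥(((P₁ ⊓ H) ⊓ (P₂ ⊓ H)).subgroupOf H) = 8
    rw [← inf_inf_distrib_right, cr.hp.amal.inf_eq,
      Nat.card_congr (subgroupOfEquivOfLe (inf_le_right : B ⊓ H ≤ H)).toEquiv, cr.card_BH h]
  obtain ⟨e₁⟩ := cr.equiv h
  obtain ⟨e₂⟩ := cr.symm.equiv h
  refine ⟨_, _, fun e => ?_, cr.maximal h, cr.symm.maximal h,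
    ⟨(subgroupOfEquivOfLe inf_le_right).trans e₁⟩, ⟨(subgroupOfEquivOfLe inf_le_right).trans e₂⟩, hc⟩
  rw [← e, inf_idem, Nat.card_congr (subgroupOfEquivOfLe (inf_le_right : P₁ ⊓ H ≤ H)).toEquiv,
    cr.card_PH h] at hc
  omega

end CfsgLib.LocalEven.SolvTwo
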