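import Cfsg.Agent.Lib.PLocal.Thompson
import Cfsg.Agent.Lib.Techniques.SylIn
import Cfsg.Prelude.Def_CaseTheorems

/-!
The elementary abelian subgroups of largest order of a `2`-subgroup `U`: their intersection `Zi U`,
its centralizer in `U`, and the ordering of `2`-subgroups by these data.
-/

set_option autoImplicit false
set_option linter.unusedSectionVars false
set_option linter.style.haveILetI false

namespace CfsgLib.LocalEven.SolvTwo

open Subgroup Cfsg CfsgLib.PLocal CfsgLib.Techniques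

variable {G : Type*} [Group G] {G' : Type*} [Group G']

/-- The elementary abelian subgroups of largest order. -/
abbrev EA (U : Subgroup G) : Set (Subgroup G) := maxEAOf 2 U

/-- The Thompson subgroup. -/
abbrev Js (U : Subgroup G) : Subgroup G := thompsonSubgroupOf 2 U

/-- The intersection of the elementary abelian subgroups of largest order. -/
def Zi (U : Subgroup G) : Subgroup G := sInf (EA U)

/-- The centralizer of `Zi U` in `U`. -/
def Bm (U : Subgroup G) : Subgroup G := U ⊓ centralizer (Zi U : Set G)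

/-- `Ω₁(Z(U))`. -/
def Zc (U : Subgroup G) : Subgroup G := omegaOne 2 (U ⊓ centralizer (U : Set G))

theorem mem_Zi {U : Subgroup G} {x : G} : x ∈ Zi U ↔ ∀ A ∈ EA U, x ∈ A := Subgroup.mem_sInf

theorem Bm_le (U : Subgroup G) : Bm U ≤ U := inf_le_left

theorem el_Zc (U : Subgroup G) : IsElementaryAbelian 2 (Zc U) :=
  isElementaryAbelian_omegaOne (inf_centralizer_le_centralizer U)

theorem Zc_le (U : Subgroup G) : Zc U ≤ U ⊓ centralizer (U : Set G) := omegaOne_le _ _

theorem mem_Zc {U : Subgroup G} {x : G} (hx : x ∈ U) (h2 : x * x = 1) (hc : ∀ u ∈ U, u * x = x * u) :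
    x ∈ Zc U := mem_omegaOne ⟨hx, mem_centralizer_iff.2 hc⟩ (by rw [sq, h2])

theorem sq_of_el {V : Subgroup G} (hV : IsElementaryAbelian 2 V) {v : G} (hv : v ∈ V) : v * v = 1 := by
  have := hV.2 v hv; rwa [sq] at this

theorem inv_of_el {V : Subgroup G} (hV : IsElementaryAbelian 2 V) {v : G} (hv : v ∈ V) : v⁻¹ = v :=
  inv_eq_of_mul_eq_one_right (sq_of_el hV hv)

theorem Zc_ne_bot [Finite G] {U : Subgroup G} (hU : IsPGroup 2 U) (h : U ≠ ⊥) : Zc U ≠ ⊥ := by
  haveI : Fact (Nat.Prime 2) := ⟨Nat.prime_two⟩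
  refine omegaOne_ne_bot (hU.to_le inf_le_left) fun e => ?_
  haveI : Nontrivial U := (Subgroup.nontrivial_iff_ne_bot U).2 h
  haveI := hU.center_nontrivial
  obtain ⟨⟨⟨x, hxU⟩, hx⟩, hx1⟩ := exists_ne (1 : center U)
  refine hx1 (Subtype.ext (Subtype.ext (show x = 1 from mem_bot.1 (e ▸ ⟨hxU, ?_⟩))))
  exact mem_centralizer_iff.2 fun u hu => congrArg Subtype.val (mem_center_iff.1 hx ⟨u, hu⟩)

theorem Zc_le_of_mem [Finite G] {U A : Subgroup G} (hA : A ∈ EA U) : Zc U ≤ A := omegaOne_center_le hA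

theorem Zc_le_Zi [Finite G] (U : Subgroup G) : Zc U ≤ Zi U := le_sInf fun _ hA => Zc_le_of_mem hA

theorem Zi_le_of_mem {U A : Subgroup G} (hA : A ∈ EA U) : Zi U ≤ A := sInf_le hA

theorem Zi_le [Finite G] (U : Subgroup G) : Zi U ≤ U := by
  obtain ⟨A, hA⟩ := maxEAOf_nonempty 2 U
  exact (Zi_le_of_mem hA).trans hA.1

theorem el_Zi [Finite G] (U : Subgroup G) : IsElementaryAbelian 2 (Zi U) := by
  obtain ⟨A, hA⟩ := maxEAOf_nonempty 2 U
  exact isElementaryAbelian_of_le hA.2.1 (Zi_le_of_mem hA)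

theorem comm_Zi {U A : Subgroup G} (hA : A ∈ EA U) {x a : G} (hx : x ∈ Zi U) (ha : a ∈ A) :
    a * x = x * a := isElementaryAbelian_comm hA.2.1 ha (Zi_le_of_mem hA hx)

theorem mem_Bm_of_mem {U A : Subgroup G} (hA : A ∈ EA U) {a : G} (ha : a ∈ A) : a ∈ Bm U :=
  ⟨hA.1 ha, mem_centralizer_iff.2 fun _ hx => (comm_Zi hA hx ha).symm⟩

theorem Js_le_Bm (U : Subgroup G) : Js U ≤ Bm U := by
  rw [Js, thompsonSubgroupOf_eq_sSup]
  exact sSup_le fun A hA a ha => mem_Bm_of_mem hA ha

theorem le_Bm_of_centralizes {U : Subgroup G} [Finite G] {x : G} (hx : x ∈ Zc U) : x ∈ Bm U := by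
  obtain ⟨A, hA⟩ := maxEAOf_nonempty 2 U
  exact mem_Bm_of_mem hA (Zc_le_of_mem hA hx)

/-- An involution of `U` centralising the Thompson subgroup is in `Zi U`. -/
theorem mem_Zi_of [Finite G] {U : Subgroup G} {x : G} (hx : x ∈ U) (h2 : x * x = 1)
    (hc : ∀ A ∈ EA U, ∀ a ∈ A, a * x = x * a) : x ∈ Zi U :=
  mem_Zi.2 fun A hA => mem_of_max_of_commute hA hx (by rw [sq, h2]) (hc A hA)

theorem EA_eq_of_Js_le [Finite G] {U U' : Subgroup G} (hle : U' ≤ U) (hJ : Js U ≤ U') : EA U' = EA U := by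
  obtain ⟨A, hA⟩ := maxEAOf_nonempty 2 U
  rw [EA, maxEAOf_mono hle hA ((le_thompsonSubgroupOf hA).trans hJ)]
  ext B
  exact ⟨fun h => h.1, fun h => ⟨h, (le_thompsonSubgroupOf h).trans hJ⟩⟩

theorem Zi_congr {U U' : Subgroup G} (h : EA U' = EA U) : Zi U' = Zi U := by rw [Zi, Zi, h]

theorem Js_congr {U U' : Subgroup G} (h : EA U' = EA U) : Js U' = Js U := by
  rw [Js, Js, thompsonSubgroupOf_eq_sSup, thompsonSubgroupOf_eq_sSup]
  exact congrArg sSup h

theorem EA_Bm [Finite G] (U : Subgroup G) : EA (Bm U) = EA U := EA_eq_of_Js_le (Bm_le U) (Js_le_Bm U)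

/-! ### Transport -/

theorem EA_map {f : G →* G'} (hf : Function.Injective f) (P : Subgroup G) :
    EA (P.map f) = (fun A => A.map f) '' EA P := by
  ext B
  constructor
  · intro hB
    have hBr : B ≤ f.range := hB.1.trans (map_le_range f P)
    have e : (B.comap f).map f = B := map_comap_eq_self hBr
    refine ⟨B.comap f, ⟨(comap_mono hB.1).trans (le_of_eq (comap_map_eq_self_of_injective hf P)),
      (isElementaryAbelian_map_iff hf).1 (by rw [e]; exact hB.2.1), fun C hC hCe => ?_⟩, e⟩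
    have := hB.2.2 (C.map f) (map_mono hC) (isElementaryAbelian_map f hCe)
    rwa [← e, card_map_of_injective hf, card_map_of_injective hf] at this
  · rintro ⟨A, hA, rfl⟩
    exact map_mem_maxEAOf hf hA

theorem Zi_map [Finite G] {f : G →* G'} (hf : Function.Injective f) (U : Subgroup G) :
    (Zi U).map f = Zi (U.map f) := by
  ext y
  rw [mem_Zi, EA_map hf]
  constructor
  · rintro ⟨x, hx, rfl⟩ _ ⟨A, hA, rfl⟩
    exact mem_map_of_mem f (mem_Zi.1 hx A hA)
  · intro h
    obtain ⟨A, hA⟩ := maxEAOf_nonempty 2 U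
    obtain ⟨x, -, rfl⟩ := h _ ⟨A, hA, rfl⟩
    refine mem_map_of_mem f (mem_Zi.2 fun C hC => ?_)
    obtain ⟨x', hx', e⟩ := h _ ⟨C, hC, rfl⟩
    exact hf e ▸ hx'

theorem Bm_map [Finite G] {f : G →* G'} (hf : Function.Injective f) (U : Subgroup G) :
    (Bm U).map f = Bm (U.map f) := by
  rw [Bm, Bm, ← Zi_map hf]
  ext y
  constructor
  · rintro ⟨x, ⟨hx, hc⟩, rfl⟩
    refine ⟨mem_map_of_mem f hx, mem_centralizer_iff.2 ?_⟩
    rintro _ ⟨z, hz, rfl⟩
    rw [← map_mul, ← map_mul, mem_centralizer_iff.1 hc z hz]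
  · rintro ⟨⟨x, hx, rfl⟩, hc⟩
    refine mem_map_of_mem f ⟨hx, mem_centralizer_iff.2 fun z hz => hf ?_⟩
    rw [map_mul, map_mul, mem_centralizer_iff.1 hc _ (mem_map_of_mem f hz)]

theorem Js_map {f : G →* G'} (hf : Function.Injective f) (U : Subgroup G) :
    (Js U).map f = Js (U.map f) := map_thompsonSubgroupOf hf U

theorem conj_injective (g : G) : Function.Injective (MulAut.conj g).toMonoidHom := (MulAut.conj g).injective

theorem normalizer_le_normalizer_Js (U : Subgroup G) :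
    normalizer (U : Set G) ≤ normalizer (Js U : Set G) := fun g hg =>
  mem_normalizer_iff_cj.2 (by rw [cj, Js_map (conj_injective g), ← cj, mem_normalizer_iff_cj.1 hg])

/-- Elements normalizing the Thompson subgroup permute the members. -/
theorem EA_Js [Finite G] (U : Subgroup G) : EA (Js U) = EA U :=
  EA_eq_of_Js_le (thompsonSubgroupOf_le 2 U) le_rfl

theorem cj_Zi_of_mem [Finite G] {U : Subgroup G} {g : G} (hg : g ∈ normalizer (Js U : Set G)) :
    cj g (Zi U) = Zi U := by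
  have h : EA (Js U) = EA U := EA_Js U
  rw [← Zi_congr h, cj, Zi_map (conj_injective g), ← cj, mem_normalizer_iff_cj.1 hg]

theorem normalizer_Js_le_normalizer_Zi [Finite G] (U : Subgroup G) :
    normalizer (Js U : Set G) ≤ normalizer (Zi U : Set G) := fun _ hg =>
  mem_normalizer_iff_cj.2 (cj_Zi_of_mem hg)

theorem normalizer_le_normalizer_Bm [Finite G] (U : Subgroup G) :
    normalizer (U : Set G) ≤ normalizer (Bm U : Set G) := fun g hg =>
  mem_normalizer_iff_cj.2 (by rw [cj, Bm_map (conj_injective g), ← cj, mem_normalizer_iff_cj.1 hg])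

/-! ### The ordering -/

open Classical in
/-- The order of the elementary abelian subgroups of largest order and that of `J U`. -/
noncomputable def nu (U : Subgroup G) : ℕ :=
  (sSup ((fun A : Subgroup G => Nat.card A) '' EA U)) * (Nat.card G + 1) + Nat.card (Js U)

/-- `nu` refined by the order. -/
noncomputable def mu (U : Subgroup G) : ℕ := nu U * (Nat.card G + 1) + Nat.card U

variable [Finite G]

theorem nu_eq {U A : Subgroup G} (hA : A ∈ EA U) :
    nu U = Nat.card A * (Nat.card G + 1) + Nat.card (Js U) := by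
  have : (fun A : Subgroup G => Nat.card A) '' EA U = {Nat.card A} := by
    ext n
    constructor
    · rintro ⟨C, hC, rfl⟩
      exact le_antisymm (hA.2.2 C hC.1 hC.2.1) (hC.2.2 A hA.1 hA.2.1)
    · rintro rfl; exact ⟨A, hA, rfl⟩
  rw [nu, this, csSup_singleton]

theorem card_Js_lt (U : Subgroup G) : Nat.card (Js U) < Nat.card G + 1 := by
  have := Nat.le_of_dvd Nat.card_pos (Subgroup.card_subgroup_dvd_card (Js U)); omega

theorem card_lt_succ (U : Subgroup G) : Nat.card U < Nat.card G + 1 := by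
  have := Nat.le_of_dvd Nat.card_pos (Subgroup.card_subgroup_dvd_card U); omega

theorem nu_mono {U U' : Subgroup G} (h : U ≤ U') :
    nu U ≤ nu U' ∧ (nu U = nu U' → EA U' = EA U) := by
  obtain ⟨A, hA⟩ := maxEAOf_nonempty 2 U
  obtain ⟨A', hA'⟩ := maxEAOf_nonempty 2 U'
  have hle : Nat.card A ≤ Nat.card A' := hA'.2.2 A (hA.1.trans h) hA.2.1
  rw [nu_eq hA, nu_eq hA']
  have hJ := card_Js_lt U
  have hJ' := card_Js_lt U'
  set N := Nat.card G + 1
  rcases hle.lt_or_eq with hlt | heq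
  · have : (Nat.card A + 1) * N ≤ Nat.card A' * N := Nat.mul_le_mul_right _ hlt
    rw [Nat.succ_mul] at this
    exact ⟨by omega, fun e => by omega⟩
  · have hAU' : A ∈ EA U' := ⟨hA.1.trans h, hA.2.1, fun C hC hCe => (hA'.2.2 C hC hCe).trans heq.ge⟩
    have hsub : EA U = {B | B ∈ EA U' ∧ B ≤ U} := maxEAOf_mono h hAU' hA.1
    have hJle : Js U ≤ Js U' := by
      rw [Js, Js, thompsonSubgroupOf_eq_sSup, thompsonSubgroupOf_eq_sSup]
      exact sSup_le_sSup fun B hB => (hsub ▸ hB : B ∈ {B | B ∈ EA U' ∧ B ≤ U}).1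
    have := Subgroup.card_le_of_le hJle
    refine ⟨by rw [heq]; omega, fun e => ?_⟩
    rw [heq] at e
    have hJeq : Js U = Js U' := Subgroup.eq_of_le_of_card_ge hJle (by omega)
    exact (EA_eq_of_Js_le h (hJeq ▸ thompsonSubgroupOf_le 2 U)).symm

theorem mu_lt {U U' : Subgroup G} (h : nu U < nu U' ∨ nu U ≤ nu U' ∧ Nat.card U < Nat.card U') :
    mu U < mu U' := by
  unfold mu
  have h1 := card_lt_succ U
  set N := Nat.card G + 1
  rcases h with h | ⟨h, h'⟩
  · have : (nu U + 1) * N ≤ nu U' * N := Nat.mul_le_mul_right _ h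
    rw [Nat.succ_mul] at this
    omega
  · have := Nat.mul_le_mul_right N h
    omega

theorem mu_lt_of_lt {U U' : Subgroup G} (h : U < U') : mu U < mu U' :=
  mu_lt (Or.inr ⟨(nu_mono h.le).1, card_lt_of_lt h⟩)

theorem mu_mono {U U' : Subgroup G} (h : U ≤ U') : mu U ≤ mu U' := by
  rcases h.eq_or_lt with rfl | hlt
  · exact le_rfl
  · exact (mu_lt_of_lt hlt).le

theorem mu_le (U : Subgroup G) :
    mu U ≤ (Nat.card G + 1) * (Nat.card G + 1) * (Nat.card G + 1) := by
  obtain ⟨A, hA⟩ := maxEAOf_nonempty 2 U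
  have h0 := card_lt_succ U
  have h1 := card_lt_succ A
  have h2 := card_Js_lt U
  unfold mu
  rw [nu_eq hA]
  set N := Nat.card G + 1
  have h3 : (Nat.card A + 1) * N ≤ N * N := Nat.mul_le_mul_right _ h1
  rw [Nat.succ_mul] at h3
  have h4 : (Nat.card A * N + Nat.card (Js U) + 1) * N ≤ N * N * N := Nat.mul_le_mul_right _ (by omega)
  rw [Nat.succ_mul] at h4
  omega

theorem nu_bot_lt {U : Subgroup G} (hU : IsPGroup 2 U) (h : U ≠ ⊥) : nu (⊥ : Subgroup G) < nu U := by
  refine lt_of_le_of_ne (nu_mono bot_le).1 fun e => ?_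
  obtain ⟨A, hA⟩ := maxEAOf_nonempty 2 U
  have hA' : A ∈ EA (⊥ : Subgroup G) := (nu_mono bot_le).2 e ▸ hA
  have hA1 : A = ⊥ := le_bot_iff.1 hA'.1
  exact Zc_ne_bot hU h (le_bot_iff.1 (hA1 ▸ Zc_le_of_mem hA))

end CfsgLib.LocalEven.SolvTwo
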