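import Cfsg.Agent.Lib.LocalEven.SolvTwo.Pair

/-!
When `Z(B)` has order four: the Sylow subgroup above `B` and the classes of the fixed involution.
-/

set_option autoImplicit false
set_option linter.unusedSectionVars false
set_option linter.unusedVariables false
set_option linter.style.haveILetI false

namespace CfsgLib.LocalEven.SolvTwo

open Subgroup Cfsg CfsgLib.PLocal CfsgLib.Techniques
open scoped commutatorElement

variable {G : Type*} [Group G] [Finite G]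

/-- The data of the case `|Z(B)| = 4`. -/
structure Four (B P₁ P₂ : Subgroup G) (c : G) : Prop where
  hp : Pair B P₁ P₂
  sh : Shape B P₁ P₂
  good : Good G (nu B)
  four : Nat.card ↥(pCoreOf 2 P₁ ⊓ pCoreOf 2 P₂) = 4
  mem : c ∈ pCoreOf 2 P₁ ⊓ pCoreOf 2 P₂
  ne_one : c ≠ 1
  central : c ∈ centralizer (P₁ : Set G)

variable {B P₁ P₂ : Subgroup G} {c : G}

local notation "E₁" => Cfsg.pCoreOf 2 P₁
local notation "E₂" => Cfsg.pCoreOf 2 P₂
local notation "Zz" => (Cfsg.pCoreOf 2 P₁ ⊓ Cfsg.pCoreOf 2 P₂)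

theorem Four.sq (d : Four B P₁ P₂ c) : c * c = 1 := sq_of_el d.sh.el₁ d.mem.1

theorem Four.card_B (d : Four B P₁ P₂ c) : Nat.card B = 16 ∧ Nat.card ↥(E₁) = 8 := by
  have h1 := d.hp.amal.s₁.card_core
  have h2 := d.sh.cardE₁
  have h3 := d.four
  omega

theorem Four.ne₁₂ (d : Four B P₁ P₂ c) : E₁ ≠ E₂ := fun e => by
  obtain ⟨a, ha, ha'⟩ := d.sh.exists_elt
  exact ha' (e ▸ ha)

theorem Four.fix_E (h : Hyp G) (d : Four B P₁ P₂ c) {s : G} (hs : s ∈ normalizer (B : Set G))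
    (hsc : s * c * s⁻¹ = c) : cj s (E₁) = E₁ := by
  rcases d.sh.permute hs with ⟨e, -⟩ | ⟨e, -⟩
  · exact e
  exfalso
  have hf : Fac B (cj s P₁) := by
    have := d.hp.f₁.cj s
    rwa [mem_normalizer_iff_cj.1 hs] at this
  refine no_common_central h d.hp.f₁ hf ?_ (Pair.card_Z d.sh) (d.sh.le₁ d.mem.1) d.sq d.ne_one d.central ?_
  · rw [pCoreOf_cj, e]; exact d.sh.centre.ge.trans inf_le_right
  · refine mem_centralizer_iff.2 ?_
    rintro _ ⟨y, hy, rfl⟩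
    show s * y * s⁻¹ * c = c * (s * y * s⁻¹)
    rw [← hsc]
    calc s * y * s⁻¹ * (s * c * s⁻¹) = s * (y * c) * s⁻¹ := by group
      _ = s * (c * y) * s⁻¹ := by rw [mem_centralizer_iff.1 d.central y hy]
      _ = _ := by group

/-- A `2`-group normalising `B` and `E₁` lies in `B`. -/
theorem Four.inf_stab (h : Hyp G) (d : Four B P₁ P₂ c) {T : Subgroup G} (hT : IsPGroup 2 T) (hBT : B ≤ T) :
    T ⊓ (normalizer (B : Set G) ⊓ normalizer ((E₁ : Subgroup G) : Set G)) = B := by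
  haveI : Fact (Nat.Prime 2) := ⟨Nat.prime_two⟩
  obtain ⟨-, hs⟩ := d.hp.sylow_cores h d.sh d.good
  exact hs.eq_of_le (hT.to_le inf_le_left) (le_inf hBT hs.le) inf_le_right

theorem Four.centralizer_c (h : Hyp G) (d : Four B P₁ P₂ c) (S : Sylow 2 G) (hBS : B ≤ S) :
    (S : Subgroup G) ⊓ centralizer ({c} : Set G) = B := by
  haveI : Fact (Nat.Prime 2) := ⟨Nat.prime_two⟩
  have hBC : B ≤ (S : Subgroup G) ⊓ centralizer ({c} : Set G) := le_inf hBS fun b hb =>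
    mem_centralizer_singleton_iff.2 (d.sh.commute_Z d.mem hb)
  by_contra hne
  set C := (S : Subgroup G) ⊓ centralizer ({c} : Set G)
  have hlt : B < C := lt_of_le_of_ne hBC (Ne.symm hne)
  have h2 := lt_inf_normalizer' (S.2.to_le inf_le_left : IsPGroup 2 C) hlt
  refine h2.not_ge ?_
  conv_rhs => rw [← d.inf_stab h S.2 hBS]
  intro s hs
  refine ⟨hs.1.1, hs.2, mem_normalizer_iff_cj.2 (d.fix_E h hs.2 ?_)⟩
  rw [mem_centralizer_singleton_iff.1 hs.1.2, mul_inv_cancel_right]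

/-- The elements of `Z(B)`. -/
theorem Four.elems (d : Four B P₁ P₂ c) : ∃ e₁ e₂ c₂, e₁ ∈ E₁ ∧ e₁ ∉ E₂ ∧ e₂ ∈ E₂ ∧ e₂ ∉ E₁ ∧
    c₂ ∈ Zz ∧ c₂ ≠ 1 ∧ c₂ ∈ centralizer (P₂ : Set G) ∧
    (∀ x ∈ Zz, x = 1 ∨ x = ⁅e₁, e₂⁆ ∨ x = c ∨ x = c₂) ∧ ⁅e₁, e₂⁆ ≠ c ∧ ⁅e₁, e₂⁆ ≠ c₂ ∧ c ≠ c₂ ∧
      ⁅e₁, e₂⁆ = c * c₂ := by
  obtain ⟨e₁, h1, h1'⟩ := d.sh.exists_elt
  obtain ⟨e₂, h2, h2'⟩ := d.sh.symm.exists_elt
  have h4 := d.four
  obtain ⟨c₂, hc₂, hc₂1, hc₂P⟩ : ∃ c₂ ∈ Zz, c₂ ≠ 1 ∧ c₂ ∈ centralizer (P₂ : Set G) := by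
    rw [inf_comm] at h4 ⊢; exact d.hp.symm.fix_ne d.sh.symm h4
  exact ⟨e₁, e₂, c₂, h1, h1', h2, h2', hc₂, hc₂1, hc₂P,
    d.hp.Z_cases d.sh d.four h1 h1' h2 h2' d.mem d.ne_one d.central hc₂ hc₂1 hc₂P⟩

/-- An element swapping the cores moves `c` to the product with the commutator. -/
theorem Four.swap (h : Hyp G) (d : Four B P₁ P₂ c) {e₁ e₂ c₂ : G} (h1 : e₁ ∈ E₁) (h1' : e₁ ∉ E₂)
    (h2 : e₂ ∈ E₂) (h2' : e₂ ∉ E₁) (hall : ∀ x ∈ Zz, x = 1 ∨ x = ⁅e₁, e₂⁆ ∨ x = c ∨ x = c₂)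
    (hn1 : ⁅e₁, e₂⁆ ≠ c) {y : G} (hy : y ∈ normalizer (B : Set G)) (hsw : cj y (E₁) ≠ E₁) :
    y * c * y⁻¹ = c₂ := by
  obtain ⟨ea, eb⟩ := (d.sh.permute hy).resolve_left fun hh => hsw hh.1
  have hm : y * c * y⁻¹ ∈ Zz := ⟨eb ▸ conj_mem_cj.2 d.mem.2, ea ▸ conj_mem_cj.2 d.mem.1⟩
  rcases hall _ hm with e | e | e | e
  · exact absurd (conj_eq_one_iff.1 e) d.ne_one
  · have hfix := d.sh.fix_comm d.hp h1 h1' h2 h2' hy
    exact absurd (conj_injective y (show (MulAut.conj y).toMonoidHom c = (MulAut.conj y).toMonoidHom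
      ⁅e₁, e₂⁆ from e.trans hfix.symm)).symm hn1
  · exact absurd (d.fix_E h hy e) hsw
  · exact e

/-- Involutions with large centralizer in a `2`-group normalising `B` lie in `Z(B)`. -/
theorem Four.classify (h : Hyp G) (d : Four B P₁ P₂ c) {T : Subgroup G} (hT : IsPGroup 2 T) (hBT : B ≤ T)
    (hTn : T ≤ normalizer (B : Set G)) {x : G} (hx : x ∈ T) (hx2 : x * x = 1)
    (hcard : Nat.card B ≤ Nat.card ↥(T ⊓ centralizer ({x} : Set G))) : x ∈ Zz := by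
  haveI : Fact (Nat.Prime 2) := ⟨Nat.prime_two⟩
  have hstab := d.inf_stab h hT hBT
  have hmemB : ∀ s ∈ T, cj s (E₁) = E₁ → s ∈ B := fun s hs e =>
    hstab ▸ ⟨hs, hTn hs, mem_normalizer_iff_cj.2 e⟩
  set U := T ⊓ centralizer ({x} : Set G) with hU
  by_cases hxB : x ∈ B
  · by_contra hxZ
    have hUB : U ≤ B := by
      intro s hs
      have hsx : s * x * s⁻¹ = x := by rw [mem_centralizer_singleton_iff.1 hs.2, mul_inv_cancel_right]
      refine hmemB s hs.1 ?_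
      rcases d.sh.permute (hTn hs.1) with ⟨e, -⟩ | ⟨e, e'⟩
      · exact e
      exfalso
      rcases d.sh.invol x hxB hx2 with hh | hh
      · exact hxZ ⟨hh, hsx ▸ (e ▸ conj_mem_cj.2 hh : s * x * s⁻¹ ∈ E₂)⟩
      · exact hxZ ⟨hsx ▸ (e' ▸ conj_mem_cj.2 hh : s * x * s⁻¹ ∈ E₁), hh⟩
    have hUeq : U = B := Subgroup.eq_of_le_of_card_ge hUB hcard
    refine hxZ (d.sh.centre.le ⟨hxB, mem_centralizer_iff.2 fun b hb => ?_⟩)
    exact mem_centralizer_singleton_iff.1 (hUeq.ge hb).2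
  exfalso
  have hsw : cj x (E₁) ≠ E₁ := fun e => hxB (hmemB x hx e)
  obtain ⟨ea, -⟩ := (d.sh.permute (hTn hx)).resolve_left fun hh => hsw hh.1
  obtain ⟨e₁, e₂, c₂, h1, h1', h2, h2', -, -, -, hall, hn1, -, hne, -⟩ := d.elems
  have hxc := d.swap h h1 h1' h2 h2' hall hn1 (hTn hx) hsw
  set C₀ := U ⊓ B
  have hfixx : ∀ s ∈ U, x * s * x⁻¹ = s := fun s hs => by
    rw [← mem_centralizer_singleton_iff.1 hs.2, mul_inv_cancel_right]
  have hlt : C₀ ⊓ E₁ < Zz := by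
    refine lt_of_le_of_ne (fun s hs => ⟨hs.2, ?_⟩) fun e => hne ?_
    · rw [← hfixx s hs.1.1, ← ea]; exact conj_mem_cj.2 hs.2
    · have := hfixx c ((e.ge d.mem).1.1)
      rw [hxc] at this
      exact this.symm
  have h2c : Nat.card ↥(C₀ ⊓ E₁) ≤ 2 := by
    obtain ⟨j, hj⟩ := card_dvd_of_le hlt.le
    have hlt' := card_lt_of_lt hlt
    have h4 := d.four
    have h0 : 0 < Nat.card ↥(C₀ ⊓ E₁) := Nat.card_pos
    rcases Nat.lt_or_ge j 2 with h2 | h2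
    · interval_cases j <;> omega
    · have := Nat.mul_le_mul_left (Nat.card ↥(C₀ ⊓ E₁)) h2
      omega
  have hC₀n : C₀ ≤ normalizer ((E₁ : Subgroup G) : Set G) := inf_le_right.trans (d.sh.le_normalizer₁ d.hp)
  have hprod := CfsgLib.PLocal.card_sup_mul_card_inf C₀ (E₁) hC₀n
  obtain ⟨hB16, hE8⟩ := d.card_B
  have hsup : Nat.card ↥(C₀ ⊔ E₁) ≤ 16 := hB16 ▸ card_le_of_le (sup_le inf_le_right d.sh.le₁)
  have hC4 : Nat.card C₀ ≤ 4 := by
    have := Nat.mul_le_mul hsup h2c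
    rw [hprod, hE8] at this
    omega
  have hxU : x ∈ U := ⟨hx, mem_centralizer_singleton_iff.2 rfl⟩
  haveI : Finite U := inferInstance
  have h2U := S3Amalgam.card_eq_two_mul (inf_le_left : C₀ ≤ U) hxU (fun hh => hxB hh.2) fun s hs hsC => by
    refine ⟨mul_mem hs hxU, hmemB _ (mul_mem hs.1 hx) ?_⟩
    have hs' : cj s (E₁) ≠ E₁ := fun e => hsC ⟨hs, hmemB s hs.1 e⟩
    rw [cj_mul, ea, ((d.sh.permute (hTn hs.1)).resolve_left fun hh => hs' hh.1).2]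
  have h2U' : Nat.card U = 2 * Nat.card C₀ := h2U
  omega

/-- `B` is normal in every Sylow subgroup above it. -/
theorem Four.normal_sylow (h : Hyp G) (d : Four B P₁ P₂ c) (S : Sylow 2 G) (hBS : B ≤ S) :
    (S : Subgroup G) ≤ normalizer (B : Set G) := by
  haveI : Fact (Nat.Prime 2) := ⟨Nat.prime_two⟩
  by_contra hle
  set T := (S : Subgroup G) ⊓ normalizer (B : Set G) with hT
  have hTS : T < (S : Subgroup G) := lt_of_le_of_ne inf_le_left fun e => hle (e.ge.trans inf_le_right)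
  have hBT : B ≤ T := le_inf hBS le_normalizer
  have hBlt : B < T := lt_inf_normalizer' S.2 (lt_of_le_of_ne hBS fun e => hle (e ▸ le_normalizer))
  have hTp : IsPGroup 2 T := S.2.to_le inf_le_left
  obtain ⟨y, hy, hyT⟩ := SetLike.exists_of_lt (lt_inf_normalizer' S.2 hTS)
  have hyN : cj y T = T := mem_normalizer_iff_cj.1 hy.2
  have hcT : c ∈ T := hBT (d.sh.le₁ d.mem.1)
  have hCc := d.centralizer_c h S hBS
  set x := y * c * y⁻¹ with hx
  have hxT : x ∈ T := hyN ▸ conj_mem_cj.2 hcT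
  have hxZ : x ∈ Zz := by
    refine d.classify h hTp hBT inf_le_right hxT ?_ ?_
    · rw [hx, show y * c * y⁻¹ * (y * c * y⁻¹) = y * (c * c) * y⁻¹ by group, d.sq]; group
    · rw [← card_cj y B]
      refine card_le_of_le (le_inf (hyN ▸ cj_mono hBT) ?_)
      rintro _ ⟨b, hb, rfl⟩
      refine mem_centralizer_singleton_iff.2 ?_
      show y * b * y⁻¹ * x = x * (y * b * y⁻¹)
      calc y * b * y⁻¹ * (y * c * y⁻¹) = y * (b * c) * y⁻¹ := by group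
        _ = y * (c * b) * y⁻¹ := by rw [d.sh.commute_Z d.mem hb]
        _ = _ := by rw [hx]; group
  obtain ⟨s, hs, hsB⟩ := SetLike.exists_of_lt hBlt
  have hstab := d.inf_stab h hTp hBT
  have hssw : cj s (E₁) ≠ E₁ := fun e => hsB (hstab ▸ ⟨hs, hs.2, mem_normalizer_iff_cj.2 e⟩)
  obtain ⟨e₁, e₂, c₂, h1, h1', h2, h2', -, -, -, hall, hn1, -, hne, hprod⟩ := d.elems
  have hyS : y ∈ (S : Subgroup G) := hy.1
  rcases hall x hxZ with e | e | e | e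
  · exact d.ne_one (conj_eq_one_iff.1 e)
  · have hle' : cj y⁻¹ T ≤ B := by
      rintro _ ⟨t, ht, rfl⟩
      have hfix := d.sh.fix_comm d.hp h1 h1' h2 h2' ht.2
      rw [← hCc]
      refine mem_inf.2 ⟨mul_mem (mul_mem (inv_mem hyS) ht.1) (inv_mem (inv_mem hyS)), mem_centralizer_singleton_iff.2 ?_⟩
      show y⁻¹ * t * y⁻¹⁻¹ * c = c * (y⁻¹ * t * y⁻¹⁻¹)
      rw [← e] at hfix
      calc y⁻¹ * t * y⁻¹⁻¹ * c = y⁻¹ * (t * x * t⁻¹) * t * y := by rw [hx]; group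
        _ = y⁻¹ * x * t * y := by rw [hfix]
        _ = _ := by rw [hx]; group
    have := card_le_of_le hle'
    rw [card_cj] at this
    exact absurd (card_lt_of_lt hBlt) (not_lt.2 this)
  · exact hyT (hBT (hCc ▸ ⟨hyS, mem_centralizer_singleton_iff.2 (mul_inv_eq_iff_eq_mul.1 (hx ▸ e))⟩))
  · have hsc := d.swap h h1 h1' h2 h2' hall hn1 hs.2 hssw
    have hfix := d.sh.fix_comm d.hp h1 h1' h2 h2' hs.2
    have hsc2 : s * c₂ * s⁻¹ = c := by
      have hc₂Z : c₂ ∈ Zz := e ▸ hxZ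
      rw [hprod, show s * (c * c₂) * s⁻¹ = (s * c * s⁻¹) * (s * c₂ * s⁻¹) by group, hsc] at hfix
      have hcc : c * c₂ = c₂ * c := isElementaryAbelian_comm d.sh.el₁ d.mem.1 hc₂Z.1
      rw [hcc] at hfix
      exact mul_left_cancel hfix
    have : s * y ∈ B := hCc ▸ ⟨mul_mem hs.1 hyS, mem_centralizer_singleton_iff.2 (mul_inv_eq_iff_eq_mul.1 (by
      rw [show s * y * c * (s * y)⁻¹ = s * (y * c * y⁻¹) * s⁻¹ by group, ← hx, e, hsc2]))⟩
    exact hyT (by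
      have := mul_mem (inv_mem hs) (hBT this)
      rwa [inv_mul_cancel_left] at this)

/-- Conjugates of `c` in a Sylow subgroup whose centralizer contains a conjugate of `B`. -/
theorem Four.fixed_value (h : Hyp G) (d : Four B P₁ P₂ c) (S : Sylow 2 G) (hBS : B ≤ S) {g : G}
    (hg : ∀ b ∈ B, g⁻¹ * b * g ∈ (S : Subgroup G)) {e₁ e₂ c₂ : G} (h1 : e₁ ∈ E₁) (h1' : e₁ ∉ E₂)
    (h2 : e₂ ∈ E₂) (h2' : e₂ ∉ E₁) (hall : ∀ x ∈ Zz, x = 1 ∨ x = ⁅e₁, e₂⁆ ∨ x = c ∨ x = c₂)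
    (hn1 : ⁅e₁, e₂⁆ ≠ c) : g⁻¹ * c * g = c ∨ g⁻¹ * c * g = c₂ := by
  haveI : Fact (Nat.Prime 2) := ⟨Nat.prime_two⟩
  have hSB := d.normal_sylow h S hBS
  set x := g⁻¹ * c * g with hx
  have hle : cj g⁻¹ B ≤ (S : Subgroup G) := cj_le_iff.2 fun b hb => by simpa using hg b hb
  have hxS : x ∈ (S : Subgroup G) := hg c (d.sh.le₁ d.mem.1)
  have hxZ : x ∈ Zz := by
    refine d.classify h S.2 hBS hSB hxS ?_ ?_
    · rw [hx, show g⁻¹ * c * g * (g⁻¹ * c * g) = g⁻¹ * (c * c) * g by group, d.sq]; group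
    · rw [← card_cj g⁻¹ B]
      refine card_le_of_le (le_inf hle ?_)
      rintro _ ⟨b, hb, rfl⟩
      refine mem_centralizer_singleton_iff.2 ?_
      show g⁻¹ * b * g⁻¹⁻¹ * x = x * (g⁻¹ * b * g⁻¹⁻¹)
      calc g⁻¹ * b * g⁻¹⁻¹ * (g⁻¹ * c * g) = g⁻¹ * (b * c) * g := by group
        _ = g⁻¹ * (c * b) * g := by rw [d.sh.commute_Z d.mem hb]
        _ = _ := by rw [hx]; group
  rcases hall x hxZ with e | e | e | e
  · exact absurd ((conj_eq_one_iff (a := g⁻¹)).1 (by simpa [hx] using e)) d.ne_one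
  · exfalso
    have hS' : B ≤ ((g • S : Sylow 2 G) : Subgroup G) := by
      rw [coe_smul_sylow, ← cj_cj_inv g B]; exact cj_mono hle
    have hCc := d.centralizer_c h (g • S) hS'
    have hcen : ((g • S : Sylow 2 G) : Subgroup G) ≤ centralizer ({c} : Set G) := by
      rw [coe_smul_sylow]
      rintro _ ⟨s, hs, rfl⟩
      refine mem_centralizer_singleton_iff.2 ?_
      show g * s * g⁻¹ * c = c * (g * s * g⁻¹)
      have hfix := d.sh.fix_comm d.hp h1 h1' h2 h2' (hSB hs)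
      rw [← e] at hfix
      calc g * s * g⁻¹ * c = g * (s * x * s⁻¹) * s * g⁻¹ := by rw [hx]; group
        _ = g * x * s * g⁻¹ := by rw [hfix]
        _ = _ := by rw [hx]; group
    rw [inf_eq_left.2 hcen] at hCc
    have hSB' : (S : Subgroup G) = B := by
      refine (Subgroup.eq_of_le_of_card_ge hBS ?_).symm
      rw [← card_cj g (S : Subgroup G), ← coe_smul_sylow, hCc]
    have hgB : g ∈ normalizer (B : Set G) := by
      rw [mem_normalizer_iff_cj]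
      conv_rhs => rw [← hCc, coe_smul_sylow, hSB']
    have hfix := d.sh.fix_comm d.hp h1 h1' h2 h2' hgB
    rw [← e, hx, show g * (g⁻¹ * c * g) * g⁻¹ = c by group, ← hx, e] at hfix
    exact hn1 hfix.symm
  · exact Or.inl e
  · exact Or.inr e

end CfsgLib.LocalEven.SolvTwo
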