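import Cfsg.Agent.Lib.LocalEven.SolvTwo.Gen

/-!
The structure of the local subgroups, seen in the ambient group.
-/

set_option autoImplicit false
set_option linter.unusedSectionVars false
set_option linter.style.haveILetI false

namespace CfsgLib.LocalEven.SolvTwo

open Subgroup Cfsg CfsgLib.PLocal CfsgLib.Techniques
open scoped commutatorElement

/-- The hypotheses. -/
structure Hyp (G : Type*) [Group G] : Prop where
  even : Even (Nat.card G)
  char2 : ∀ T : Subgroup G, IsPGroup 2 T → T ≠ ⊥ → IsOfCharacteristicTwo ↥(normalizer (T : Set G))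
  solv : ∀ N : Subgroup G, IsTwoLocal N → Group.IsSolvable N
  cz : ∀ S : Sylow 2 G, centralizer (Zc (S : Subgroup G) : Set G) ≤ normalizer ((S : Subgroup G) : Set G)

/-- A `PreFac` all of whose centralizing involutions lie in `B`. -/
structure Fac {G : Type*} [Group G] (B P : Subgroup G) : Prop extends PreFac B P where
  sat : ∀ r : G, r * r = 1 → (∀ b ∈ B, b * r = r * b) → r ∈ B

variable {G : Type*} [Group G] [Finite G]

theorem Fac.cj {B P : Subgroup G} (h : Fac B P) (g : G) : Fac (cj g B) (cj g P) := by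
  refine ⟨h.toPreFac.map (conj_injective g), fun r hr hc => ?_⟩
  rw [mem_cj]
  refine h.sat _ ?_ fun b hb => ?_
  · rw [show g⁻¹ * r * g * (g⁻¹ * r * g) = g⁻¹ * (r * r) * g by group, hr]; group
  · have := hc _ (conj_mem_cj.2 hb)
    calc b * (g⁻¹ * r * g) = g⁻¹ * (g * b * g⁻¹ * r) * g := by group
      _ = g⁻¹ * (r * (g * b * g⁻¹)) * g := by rw [this]
      _ = _ := by group

theorem sylIn_inf (S : Sylow 2 G) {X U : Subgroup G} (hU : SylIn 2 U X) (hUS : U ≤ S) :
    (S : Subgroup G) ⊓ X = U := by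
  haveI : Fact (Nat.Prime 2) := ⟨Nat.prime_two⟩
  exact hU.eq_of_le (S.2.to_le inf_le_left) (le_inf hUS hU.le) inf_le_right

theorem normal_two_le {X U T : Subgroup G} (hU : SylIn 2 U X) (hT : IsPGroup 2 T)
    (hX : X = normalizer (T : Set G)) : T ≤ U := by
  haveI : Fact (Nat.Prime 2) := ⟨Nat.prime_two⟩
  exact hU.le_of_normal hT (hX ▸ le_normalizer) hX.le

/-- `Ω₁(Z(S))` lies in a Sylow subgroup of a local subgroup contained in `S`. -/
theorem Zc_le_sylIn {X U : Subgroup G} (hX : IsTwoLocal X) (hU : SylIn 2 U X) (S : Sylow 2 G)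
    (hUS : U ≤ S) : Zc (S : Subgroup G) ≤ U := by
  obtain ⟨T, hT, -, hXT⟩ := hX
  have hTU := normal_two_le hU hT hXT
  intro x hx
  have hxS := Zc_le _ hx
  rw [← sylIn_inf S hU hUS]
  refine ⟨hxS.1, hXT ▸ centralizer_le_normalizer _ ?_⟩
  exact centralizer_le (SetLike.coe_subset_coe.2 (hTU.trans hUS)) hxS.2

theorem Zc_le_Zc {X U : Subgroup G} (hX : IsTwoLocal X) (hU : SylIn 2 U X) (S : Sylow 2 G)
    (hUS : U ≤ S) : Zc (S : Subgroup G) ≤ Zc U := fun x hx =>
  mem_Zc (Zc_le_sylIn hX hU S hUS hx) (sq_of_el (el_Zc _) hx) fun u hu =>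
    mem_centralizer_iff.1 (Zc_le _ hx).2 u (hUS hu)

theorem sylow_ne_bot (h : Hyp G) (S : Sylow 2 G) : (S : Subgroup G) ≠ ⊥ := fun e => by
  haveI : Fact (Nat.Prime 2) := ⟨Nat.prime_two⟩
  have := S.not_dvd_index
  rw [e, Subgroup.index_bot] at this
  exact this (even_iff_two_dvd.1 h.even)

theorem exists_sylow_subtype {X U : Subgroup G} (hU : SylIn 2 U X) :
    ∃ U₁ : Sylow 2 X, (U₁ : Subgroup X).map X.subtype = U := by
  haveI : Fact (Nat.Prime 2) := ⟨Nat.prime_two⟩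
  obtain ⟨hle, hp, hnd⟩ := hU
  exact ⟨(hp.comap_subtype (K := X)).toSylow hnd, map_subgroupOf_eq_of_le hle⟩

theorem locData (h : Hyp G) {X : Subgroup G} (hX : IsTwoLocal X) : LocData X := by
  haveI : Fact (Nat.Prime 2) := ⟨Nat.prime_two⟩
  obtain ⟨T, hT, hT1, hXT⟩ := id hX
  refine ⟨h.solv _ hX, by subst hXT; exact h.char2 T hT hT1, fun U₁ k hk => ?_⟩
  set U := (U₁ : Subgroup X).map X.subtype with hUdef
  have hU : SylIn 2 U X := ⟨map_subtype_le _, U₁.2.map _, by
    rw [Subgroup.relIndex, Subgroup.subgroupOf, hUdef,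
      Subgroup.comap_map_eq_self_of_injective X.subtype_injective]
    exact U₁.not_dvd_index⟩
  obtain ⟨S, hUS⟩ := hU.isPGroup.exists_le_sylow
  have hkS : (k : G) ∈ normalizer ((S : Subgroup G) : Set G) := by
    refine h.cz S (mem_centralizer_iff.2 fun x hx => ?_)
    have hxU := Zc_le_sylIn hX hU S hUS hx
    have hx' : (⟨x, hU.le hxU⟩ : X) ∈ Zc (U₁ : Subgroup X) := by
      obtain ⟨y, hy, e⟩ := hxU
      have : (⟨x, hU.le ⟨y, hy, e⟩⟩ : X) = y := Subtype.ext e.symm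
      rw [this]
      refine mem_Zc hy (Subtype.ext ?_) fun u hu => Subtype.ext ?_
      · show (y : G) * y = 1
        rw [show (y : G) = x from e]; exact sq_of_el (el_Zc _) hx
      · show (u : G) * y = y * u
        rw [show (y : G) = x from e]
        exact mem_centralizer_iff.1 (Zc_le _ hx).2 u (hUS (mem_map_of_mem X.subtype hu))
    exact congrArg Subtype.val (mem_centralizer_iff.1 hk _ hx')
  have hkU : cj (k : G) U = U := by
    rw [← sylIn_inf S hU hUS, cj_inf, mem_normalizer_iff_cj.1 hkS, cj_eq_self_of_mem k.2]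
  refine mem_normalizer_iff.2 fun y => ?_
  have hy : ∀ z : X, (z : G) ∈ U ↔ z ∈ (U₁ : Subgroup X) := fun z =>
    ⟨fun ⟨w, hw, e⟩ => (Subtype.ext e : w = z) ▸ hw, fun hz => mem_map_of_mem X.subtype hz⟩
  rw [← SetLike.mem_coe, SetLike.mem_coe, ← hy, ← hy]
  show (y : G) ∈ U ↔ (k : G) * y * (k : G)⁻¹ ∈ U
  conv_rhs => rw [← hkU, conj_mem_cj]

theorem local_centralizer_Zi_le (h : Hyp G) {X U : Subgroup G} (hX : IsTwoLocal X) (hU : SylIn 2 U X) :
    X ⊓ centralizer (Zi U : Set G) ≤ normalizer (U : Set G) := by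
  obtain ⟨S, hUS⟩ := hU.isPGroup.exists_le_sylow
  intro k hk
  have hkS : k ∈ normalizer ((S : Subgroup G) : Set G) := h.cz S
    (centralizer_le (SetLike.coe_subset_coe.2 ((Zc_le_Zc hX hU S hUS).trans (Zc_le_Zi U))) hk.2)
  rw [mem_normalizer_iff_cj, ← sylIn_inf S hU hUS, cj_inf, mem_normalizer_iff_cj.1 hkS,
    cj_eq_self_of_mem hk.1]

/-- `N_X(J(U))` normalises `U ⊓ C(Zi U)`. -/
theorem normalizer_Js_le_Bm (h : Hyp G) {X U : Subgroup G} (hX : IsTwoLocal X) (hU : SylIn 2 U X) :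
    X ⊓ normalizer (Js U : Set G) ≤ normalizer (Bm U : Set G) := by
  haveI : Fact (Nat.Prime 2) := ⟨Nat.prime_two⟩
  intro n hn
  rw [mem_normalizer_iff_cj]
  have hBX : cj n (Bm U) ≤ X ⊓ centralizer (Zi U : Set G) := by
    refine le_inf ?_ ?_
    · conv_rhs => rw [← cj_eq_self_of_mem hn.1]
      exact cj_mono ((Bm_le U).trans hU.le)
    · rintro _ ⟨b, hb, rfl⟩
      refine mem_centralizer_iff.2 fun z hz => ?_
      have hz' : n⁻¹ * z * n ∈ Zi U := mem_cj.1 ((cj_Zi_of_mem hn.2).symm ▸ hz)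
      have := mem_centralizer_iff.1 hb.2 _ hz'
      show z * (n * b * n⁻¹) = n * b * n⁻¹ * z
      calc z * (n * b * n⁻¹) = n * (n⁻¹ * z * n * b) * n⁻¹ := by group
        _ = n * (b * (n⁻¹ * z * n)) * n⁻¹ := by rw [this]
        _ = _ := by group
  have hBp : IsPGroup 2 ↥(cj n (Bm U)) := isPGroup_cj (hU.isPGroup.to_le (Bm_le U))
  have hle : cj n (Bm U) ≤ U := by
    have hn' : cj n (Bm U) ≤ normalizer (U : Set G) := hBX.trans (local_centralizer_Zi_le h hX hU)
    have hsup : IsPGroup 2 ↥(U ⊔ cj n (Bm U)) := hU.isPGroup.to_sup_of_normal_left' hBp hn'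
    have := hU.eq_of_le hsup le_sup_left (sup_le hU.le (hBX.trans inf_le_left))
    exact le_sup_right.trans this.le
  exact Subgroup.eq_of_le_of_card_ge (le_inf hle (hBX.trans inf_le_right)) (card_cj _ _).ge

/-- The normal elementary abelian subgroup over `Zi U`. -/
theorem local_normal (h : Hyp G) {X U : Subgroup G} (hX : IsTwoLocal X) (hU : SylIn 2 U X) :
    ∃ N : Subgroup G, X ≤ normalizer (N : Set G) ∧ IsElementaryAbelian 2 N ∧ Zi U ≤ N ∧
      ∀ n ∈ N, ∀ A ∈ EA U, ∀ a ∈ A, ⁅n, a⁆ ∈ Zi U := by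
  obtain ⟨U₁, rfl⟩ := exists_sylow_subtype hU
  obtain ⟨N, hN, hel, hle, hc⟩ := exists_normal (locData h hX) U₁
  refine ⟨N.map X.subtype, ?_, isElementaryAbelian_map _ hel, ?_, ?_⟩
  · have := (le_normalizer_of_normal (H := N) (K := ⊤))
    calc X = (⊤ : Subgroup X).map X.subtype := by rw [← MonoidHom.range_eq_map, range_subtype]
      _ ≤ (normalizer (N : Set X)).map X.subtype := map_mono this
      _ ≤ _ := le_normalizer_map _
  · rw [← Zi_map X.subtype_injective]; exact map_mono hle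
  · rintro _ ⟨n, hn, rfl⟩ _ hA a ha
    rw [EA_map X.subtype_injective] at hA
    obtain ⟨A, hA', rfl⟩ := hA
    obtain ⟨a', ha', rfl⟩ := ha
    rw [← map_commutatorElement, ← Zi_map X.subtype_injective]
    exact mem_map_of_mem _ (hc n hn A hA' a' ha')

/-- Generation of a local subgroup. -/
theorem local_gen (h : Hyp G) {X U : Subgroup G} (hX : IsTwoLocal X) (hU : SylIn 2 U X) (M : Subgroup G)
    (hJ : X ⊓ normalizer (Js U : Set G) ≤ M) (hP : ∀ P, P ≤ X → PreFac (Bm U) P → P ≤ M) : X ≤ M := by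
  obtain ⟨U₁, rfl⟩ := exists_sylow_subtype hU
  rw [← subgroupOf_eq_top]
  refine generated (locData h hX) U₁ _ ?_ fun P hPP => ?_
  · intro y hy
    refine mem_subgroupOf.2 (hJ ⟨y.2, ?_⟩)
    rw [← Js_map X.subtype_injective]
    exact le_normalizer_map X.subtype (mem_map_of_mem X.subtype hy)
  · have h1 := hP (P.map X.subtype) (map_subtype_le P) (by
      rw [← Bm_map X.subtype_injective]
      exact hPP.map X.subtype_injective)
    exact fun y hy => mem_subgroupOf.2 (h1 (mem_map_of_mem X.subtype hy))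

theorem nu_Bm (U : Subgroup G) : nu (Bm U) = nu U := by
  obtain ⟨A, hA⟩ := maxEAOf_nonempty 2 U
  rw [nu_eq hA, nu_eq (EA_Bm U ▸ hA : A ∈ EA (Bm U)), Js_congr (EA_Bm U)]

/-! ### Consequences of the `Fac` record -/

variable {B P : Subgroup G}

theorem PreFac.not_le_normalizer (h : PreFac B P) : ¬ P ≤ normalizer (B : Set G) := by
  obtain ⟨k, hk, A, hA, a, ha, hnot, -⟩ := h.gen
  exact fun hle => hnot ((mem_normalizer_iff.1 (hle hk) a).1 (hA.1 ha))

theorem PreFac.ne_bot (h : PreFac B P) : B ≠ ⊥ := by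
  obtain ⟨k, -, A, hA, a, ha, hnot, -⟩ := h.gen
  intro e
  have ha1 : a = 1 := mem_bot.1 (e ▸ hA.1 ha)
  exact hnot (by rw [ha1]; simp)

theorem PreFac.finite_card (h : PreFac B P) : B.relIndex P = 3 := by
  have h1 := relIndex_mul_relIndex ⊥ B P bot_le h.le
  simp only [relIndex_bot_left] at h1
  rw [h.card, mul_comm 3] at h1
  exact Nat.eq_of_mul_eq_mul_left Nat.card_pos h1

theorem PreFac.sylIn (h : PreFac B P) : SylIn 2 B P :=
  ⟨h.le, h.two, by rw [h.finite_card]; norm_num⟩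

theorem PreFac.between (h : PreFac B P) {K : Subgroup G} (hBK : B ≤ K) (hKP : K ≤ P) : K = B ∨ K = P := by
  have h1 := relIndex_mul_relIndex B K P hBK hKP
  rw [h.finite_card] at h1
  rcases Nat.prime_three.eq_one_or_self_of_dvd _ (Dvd.intro _ h1) with e | e
  · exact Or.inl (le_antisymm (relIndex_eq_one.1 e) hBK)
  · rw [e] at h1
    have : K.relIndex P = 1 := by omega
    exact Or.inr (le_antisymm hKP (relIndex_eq_one.1 this))

theorem PreFac.normal_le (h : PreFac B P) {R : Subgroup G} (hR : IsPGroup 2 R) (hRP : R ≤ P)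
    (hn : P ≤ normalizer (R : Set G)) : R ≤ B := by
  haveI : Fact (Nat.Prime 2) := ⟨Nat.prime_two⟩
  exact h.sylIn.le_of_normal hR hRP hn

theorem PreFac.inf_centralizer_le (h : PreFac B P) :
    ∃ R : Subgroup G, R ≤ B ∧ R ≠ ⊥ ∧ P ≤ normalizer (R : Set G) := by
  obtain ⟨R, hRB, hPR, hC⟩ := h.core
  refine ⟨R, hRB, fun e => ?_, hPR⟩
  subst e
  obtain ⟨z, hz, -, -, g, hg, hgz⟩ := h.moves
  have : P ≤ ⊥ := fun y hy => hC ⟨hy, mem_centralizer_iff.2 fun r hr => by rw [mem_bot.1 hr, one_mul, mul_one]⟩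
  rw [mem_bot.1 (this hg), one_mul, mul_one] at hgz
  exact hgz rfl

theorem Fac.Zc_le (h : Fac B P) (S : Sylow 2 G) (hBS : B ≤ S) :
    Zc (S : Subgroup G) ≤ B ⊓ centralizer (B : Set G) := fun x hx => by
  have hc : ∀ b ∈ B, b * x = x * b := fun b hb => mem_centralizer_iff.1 (SolvTwo.Zc_le _ hx).2 b (hBS hb)
  exact ⟨h.sat x (sq_of_el (el_Zc _) hx) hc, mem_centralizer_iff.2 hc⟩

theorem Fac.not_le_centralizer_Zc (hG : Hyp G) (h : Fac B P) (S : Sylow 2 G) (hBS : B ≤ S) :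
    ¬ P ≤ centralizer (Zc (S : Subgroup G) : Set G) := by
  intro hle
  refine h.not_le_normalizer fun y hy => ?_
  have hyS := hG.cz S (hle hy)
  have hK : (S : Subgroup G) ⊓ P = B := by
    haveI : Fact (Nat.Prime 2) := ⟨Nat.prime_two⟩
    exact h.sylIn.eq_of_le (S.2.to_le inf_le_left) (le_inf hBS h.le) inf_le_right
  rw [mem_normalizer_iff_cj, ← hK, cj_inf, mem_normalizer_iff_cj.1 hyS, cj_eq_self_of_mem hy]

end CfsgLib.LocalEven.SolvTwo
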