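import Cfsg.Agent.Lib.LocalEven.SolvTwo.Struct

/-!
The subgroups `B ⊔ ⟨a'⟩` attached to the transvection groups, and generation.
-/

set_option autoImplicit false
set_option linter.unusedSectionVars false
set_option linter.style.haveILetI false

namespace CfsgLib.LocalEven.SolvTwo

open Subgroup Cfsg CfsgLib.PLocal CfsgLib.Techniques
open scoped commutatorElement

theorem eq_of_card_two {G : Type*} [Group G] [Finite G] {A : Subgroup G} (hA : Nat.card A = 2) {x y : G}
    (hx : x ∈ A) (hy : y ∈ A) (hy1 : y ≠ 1) : x = 1 ∨ x = y := by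
  obtain ⟨u, -, hu⟩ := (Nat.card_eq_two_iff' (1 : A)).1 hA
  by_cases hx1 : x = 1
  · exact Or.inl hx1
  · refine Or.inr (congrArg Subtype.val (a₁ := (⟨x, hx⟩ : A)) (a₂ := ⟨y, hy⟩) ?_)
    exact (hu _ fun h => hx1 (congrArg Subtype.val h)).trans (hu _ fun h => hy1 (congrArg Subtype.val h)).symm

theorem card_le_two_of_two_group {G : Type*} [Group G] [Finite G] {T E : Subgroup G} (hT : IsPGroup 2 T)
    (hTE : T ≤ E) (hE : Nat.card E = 6) : Nat.card T ≤ 2 := by
  haveI : Fact (Nat.Prime 2) := ⟨Nat.prime_two⟩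
  obtain ⟨k, hk⟩ := IsPGroup.iff_card.1 hT
  have hd := card_dvd_of_le hTE
  rw [hE, hk] at hd
  rw [hk]
  have : (2 ^ k).Coprime 3 := Nat.Coprime.pow_left k (by norm_num)
  exact Nat.le_of_dvd (by norm_num) (this.dvd_of_dvd_mul_right (show 2 ^ k ∣ 2 * 3 by simpa using hd))

theorem conj_factor {G : Type*} [Group G] [Finite G] {p : ℕ} [Fact p.Prime] {V H A : Subgroup G}
    (hh : FFGroup p V H) {x : G} (hx : x ∈ H) :
    (factor p H A).map (MulAut.conj x).toMonoidHom = factor p H (A.map (MulAut.conj x).toMonoidHom) := by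
  have hc : (coreIn p H).map (MulAut.conj x).toMonoidHom = coreIn p H :=
    map_conj_eq_of_mem (hh.le_normalizer_core hx)
  rw [factor, factor, factorCore, factorCore, Subgroup.map_sup, map_commutator, hc]

variable {X : Type*} [Group X] [Finite X] (hX : LocData X) (U : Sylow 2 X)

local notation "H₀" => Subgroup.map (toHol (Vc X)) (⊤ : Subgroup X)
local notation "hb" => holBase (Vc X)

include hX

theorem card_factor {t : Subgroup (Hol (Vc X))} (ht : Tr U t) : Nat.card ↥(factor 2 H₀ t) = 6 := by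
  haveI : Fact (Nat.Prime 2) := ⟨Nat.prime_two⟩
  rcases (Tr.ffMin hX U ht).isPlane_factor.card_eq_or with ⟨-, h⟩ | ⟨h, -⟩
  · exact h
  · norm_num at h

theorem exists_prefac {t : Subgroup (Hol (Vc X))} (ht : Tr U t) :
    ∃ g : X, ∃ a : X, g * a * g⁻¹ ∈ Bm (U : Subgroup X) ⊔ zpowers (g * a * g⁻¹) ∧
      factor 2 H₀ t = t ⊔ zpowers (toHol (Vc X) (g * a * g⁻¹)) ∧
      PreFac (Bm (U : Subgroup X)) (Bm (U : Subgroup X) ⊔ zpowers (g * a * g⁻¹)) := by
  haveI : Fact (Nat.Prime 2) := ⟨Nat.prime_two⟩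
  set f := toHol (Vc X) with hf
  obtain ⟨A, hA, htA, htc, -⟩ := id ht
  have hm := Tr.ffMin hX U ht
  set E := factor 2 H₀ t with hE
  have hE6 : Nat.card E = 6 := card_factor hX U ht
  have hP := hm.isPlane_factor
  -- the element `a`
  obtain ⟨⟨τ, hτ⟩, hτ1⟩ := (ne_bot_iff_exists_ne_one).1 hm.ne_bot
  have hτ1' : τ ≠ 1 := fun h => hτ1 (Subtype.ext h)
  obtain ⟨a, haA, rfl⟩ := htA hτ
  have htz : t = zpowers (f a) :=
    le_antisymm (le_of_mem_prime htc hτ hτ1' (mem_zpowers _)) (zpowers_le.2 hτ)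
  have ha2 : a * a = 1 := sq_of_el hA.2.1 haA
  -- the conjugate `a'`
  obtain ⟨x, hx, hxA⟩ := hm.exists_moved
  obtain ⟨g, -, hgx⟩ := (map_subtype_le _ hx : x ∈ H₀)
  have hEq : E = t ⊔ t.map (MulAut.conj x).toMonoidHom := (hm.factor_eq hx hxA).1
  set a' := g * a * g⁻¹ with ha'
  have ht' : t.map (MulAut.conj x).toMonoidHom = zpowers (f a') := by
    rw [htz, MonoidHom.map_zpowers]
    congr 1
    show x * f a * x⁻¹ = f a'
    rw [← hgx, ha', map_mul, map_mul, map_inv]
  have hEq' : E = t ⊔ zpowers (f a') := by rw [hEq, ht']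
  have hne : f a ≠ f a' := fun e => by
    have : E = t := by rw [hEq', ← e, ← htz, sup_idem]
    rw [this, htc] at hE6
    norm_num at hE6
  have hfa'1 : f a' ≠ 1 := fun e => hτ1' (by
    rw [ha', map_mul, map_mul, map_inv, conj_eq_one_iff] at e
    exact e)
  have ha'2 : a' * a' = 1 := by rw [ha', show g * a * g⁻¹ * (g * a * g⁻¹) = g * (a * a) * g⁻¹ by group, ha2]; group
  have haE : f a ∈ E := mem_sup_right hτ
  have ha'E : f a' ∈ E := hEq' ▸ mem_sup_right (mem_zpowers _)
  set B := Bm (U : Subgroup X) with hB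
  have hBp : IsPGroup 2 B := U.2.to_le (Bm_le _)
  have haB : a ∈ B := mem_Bm_of_mem hA haA
  -- the centre of the transvection
  have hm' : FFMin 2 hb H₀ (zpowers (f a')) := by
    rw [← ht']
    exact ⟨hm.grp, by
      rintro _ ⟨y, hy, rfl⟩
      exact mul_mem (mul_mem (map_subtype_le _ hx) (hm.le hy)) (inv_mem (map_subtype_le _ hx)),
      hm.trans.conj (hm.grp.le_norm (map_subtype_le _ hx))⟩
  obtain ⟨hct, hfixt⟩ := hm.trans.card_commutator hm.grp.elem
  obtain ⟨hct', -⟩ := hm'.trans.card_commutator hm.grp.elem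
  have hne0 : ⁅hb, t⁆ ≠ ⊥ := fun e => by rw [e, card_bot] at hct; norm_num at hct
  obtain ⟨⟨ζ, hζ⟩, hζ1⟩ := (ne_bot_iff_exists_ne_one).1 hne0
  have hζ1' : ζ ≠ 1 := fun h => hζ1 (Subtype.ext h)
  obtain ⟨z, rfl⟩ : ζ ∈ hb := (hfixt hζ).1
  have hzZ : (z : X) ∈ Zi (U : Subgroup X) := mem_Zi_of_fix hX U
    (member_trivQuot hX U hA ((commutator_mono le_rfl htA) hζ)).2
  have hza' : ¬ a' * (z : X) = z * a' := by
    intro h
    have h1 : (SemidirectProduct.inl z : Hol (Vc X)) ∈ centralizer (E : Set (Hol (Vc X))) := by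
      rw [hEq']
      refine le_centralizer_iff.1 (sup_le (le_centralizer_iff.1 (zpowers_le.2 (hfixt hζ).2)) ?_)
        (mem_zpowers _)
      rw [zpowers_le, mem_centralizer_iff]
      intro w hw
      obtain ⟨n, rfl⟩ := mem_zpowers_iff.1 hw
      exact ((show Commute (f a') (SemidirectProduct.inl z) from (inl_comm_iff a' z).2 h).zpow_right n).eq.symm
    refine hζ1' (mem_bot.1 (hP.inf_fix ▸ mem_inf.2 ⟨commutator_mono le_rfl le_sup_right hζ, (hfixt hζ).1, ?_⟩))
    exact h1
  have hzc : ⁅(z : X), a'⁆ ≠ 1 := fun h => hza' (commutatorElement_eq_one_iff_mul_comm.1 h).symm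
  have hcomm' : ∀ v : Vc X, ⁅(v : X), a'⁆ = 1 ∨ ⁅(v : X), a'⁆ = ⁅(z : X), a'⁆ := by
    intro v
    have h1 : ∀ w : Vc X, ⁅(SemidirectProduct.inl w : Hol (Vc X)), f a'⁆ ∈ ⁅hb, zpowers (f a')⁆ := fun w =>
      commutator_mem_commutator ⟨w, rfl⟩ (mem_zpowers _)
    have h2 : ⁅(SemidirectProduct.inl z : Hol (Vc X)), f a'⁆ ≠ 1 := fun h => hza'
      ((inl_comm_iff a' z).1 (commutatorElement_eq_one_iff_mul_comm.1 h).symm)
    rcases eq_of_card_two hct' (h1 v) (h1 z) h2 with h | h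
    · left
      rw [hf, inl_commutator, ← map_one (SemidirectProduct.inl (φ := MonoidHom.id (MulAut ↥(Vc X))))] at h
      exact congrArg Subtype.val (SemidirectProduct.inl_injective h)
    · right
      rw [hf, inl_commutator, inl_commutator] at h
      exact congrArg Subtype.val (SemidirectProduct.inl_injective h)
  -- `B` normalises the factor
  have hBZ : B ≤ centralizer ({(z : X)} : Set X) := fun b hb' =>
    mem_centralizer_singleton_iff.2 (mem_centralizer_iff.1 hb'.2 z hzZ).symm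
  have hnorm : B.map f ≤ normalizer (E : Set (Hol (Vc X))) := by
    rintro _ ⟨b, hb', rfl⟩
    have hbH : f b ∈ H₀ := mem_map_of_mem f (mem_top b)
    have hmb : FFMin 2 hb H₀ (t.map (MulAut.conj (f b)).toMonoidHom) := ⟨hm.grp, by
      rintro _ ⟨y, hy, rfl⟩
      exact mul_mem (mul_mem hbH (hm.le hy)) (inv_mem hbH), hm.trans.conj (hm.grp.le_norm hbH)⟩
    refine mem_of_map_conj_eq ?_
    rw [hE, conj_factor hm.grp hbH]
    rcases hm.dichotomy hmb with e | ⟨hd, -⟩
    · exact e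
    · exfalso
      refine hζ1' (mem_bot.1 (hd ▸ mem_inf.2 ⟨commutator_mono le_rfl le_sup_right hζ, ?_⟩))
      refine commutator_mono le_rfl le_sup_right ?_
      have e : ⁅hb, t.map (MulAut.conj (f b)).toMonoidHom⁆ = ⁅hb, t⁆.map (MulAut.conj (f b)).toMonoidHom :=
        (map_conj_commutator (hm.grp.le_norm hbH)).symm
      rw [e]
      refine ⟨SemidirectProduct.inl z, hζ, ?_⟩
      show f b * SemidirectProduct.inl z * (f b)⁻¹ = SemidirectProduct.inl z
      rw [(inl_comm_iff b z).2 (mem_centralizer_singleton_iff.1 (hBZ hb')), mul_inv_cancel_right]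
  -- modulo `O₂(X)`
  set C := centralizer (Vc X : Set X) with hC
  have hker : Qc X ≤ f.ker := by rw [hf, ker_toHol]; exact Qc_le_centralizer
  set π := QuotientGroup.mk' (Qc X)
  set φ := QuotientGroup.lift (Qc X) f hker with hφ
  have hφπ : ∀ y, φ (π y) = f y := fun y => QuotientGroup.lift_mk' _ _ y
  have hkmap : φ.ker = C.map π := by
    rw [hφ, QuotientGroup.ker_lift, hf, ker_toHol]
  have hkodd : Odd (Nat.card φ.ker) := by
    rw [hkmap, card_map_mk'_eq_relIndex, ← U_inf_centralizer hX U, Nat.odd_iff, ← Nat.two_dvd_ne_zero]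
    exact ((sylIn_top U).inf_normal le_top (le_normalizer_of_normal (H := C))).not_dvd
  have hUk : ∀ u ∈ (U : Subgroup X), ∀ k ∈ C.map π, π u * k = k * π u := by
    rintro u hu _ ⟨c, hc, rfl⟩
    rw [← map_mul, ← map_mul]
    refine (QuotientGroup.eq).2 ?_
    rw [← U_inf_centralizer hX U]
    refine mem_inf.2 ⟨?_, ?_⟩
    · rw [show (u * c)⁻¹ * (c * u) = (c⁻¹ * u⁻¹ * c) * u by group]
      exact mul_mem (conj_mem_of_mem_normalizer' (centralizer_Vc_le hX U hc) (inv_mem hu)) hu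
    · haveI : C.Normal := inferInstance
      rw [show (u * c)⁻¹ * (c * u) = c⁻¹ * (u⁻¹ * c * u) by group]
      exact mul_mem (inv_mem hc) (by simpa using Normal.conj_mem ‹_› c hc u⁻¹)
  have hcen : ∀ k ∈ φ.ker, ∀ y ∈ B.map π ⊔ zpowers (π a'), y * k = k * y := by
    intro k hk y hy
    rw [hkmap] at hk
    suffices h : B.map π ⊔ zpowers (π a') ≤ centralizer (C.map π : Set (X ⧸ Qc X)) from
      (mem_centralizer_iff.1 (h hy) k hk).symm
    refine sup_le ?_ (zpowers_le.2 (mem_centralizer_iff.2 ?_))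
    · rintro _ ⟨b, hb', rfl⟩
      exact mem_centralizer_iff.2 fun k' hk' => (hUk b (Bm_le _ hb') k' hk').symm
    · rintro _ ⟨c, hc, rfl⟩
      have hc' : g⁻¹ * c * g ∈ C := by
        have := (inferInstance : C.Normal).conj_mem c hc g⁻¹
        simpa using this
      have h := hUk a (hA.1 haA) _ (mem_map_of_mem π hc')
      simp only [map_mul, map_inv] at h ⊢
      rw [ha', map_mul, map_mul, map_inv]
      calc π c * (π g * π a * (π g)⁻¹) = π g * ((π g)⁻¹ * π c * π g * π a) * (π g)⁻¹ := by group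
        _ = π g * (π a * ((π g)⁻¹ * π c * π g)) * (π g)⁻¹ := by rw [← h]
        _ = _ := by group
  obtain ⟨s⟩ := hP.equiv
  obtain ⟨s'⟩ := slTwoTwo_equiv_perm
  obtain ⟨hinf, hbraid⟩ := pair_inf_ker φ (hBp.map π) (mem_map_of_mem π haB)
    (by rw [← map_mul, ha2, map_one]) (by rw [← map_mul, ha'2, map_one]) hkodd hcen (s.trans s')
    (by rw [hφπ]; exact haE) (by rw [hφπ]; exact ha'E) (by rw [hφπ, hφπ]; exact hne)
    (by rw [hφπ]; exact hτ1') (by rw [hφπ]; exact hfa'1)
    (by rw [Subgroup.map_map, hφ, QuotientGroup.lift_comp_mk']; exact hnorm)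
  set P := B ⊔ zpowers a' with hPdef
  have hBP : B ≤ P := le_sup_left
  have ha'P : a' ∈ P := mem_sup_right (mem_zpowers a')
  have hPC : P ⊓ C ≤ Qc X := fun y hy => by
    have h1 : π y ∈ B.map π ⊔ zpowers (π a') := by
      rw [← MonoidHom.map_zpowers, ← Subgroup.map_sup]
      exact mem_map_of_mem π hy.1
    have := hinf ▸ mem_inf.2 ⟨h1, (hkmap ▸ mem_map_of_mem π hy.2 : π y ∈ φ.ker)⟩
    exact (QuotientGroup.eq_one_iff y).1 (mem_bot.1 this)
  -- `P` fixes `F`
  set F := Zi (U : Subgroup X) ⊓ centralizer ({a'} : Set X) with hF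
  have hPF : P ≤ centralizer (F : Set X) := by
    refine sup_le (fun b hb' => centralizer_le (SetLike.coe_subset_coe.2 inf_le_left) hb'.2)
      (zpowers_le.2 (mem_centralizer_iff.2 fun y hy => ?_))
    exact mem_centralizer_singleton_iff.1 hy.2
  have hPQ : P ⊓ Qc X ≤ B := by
    intro y hy
    refine ⟨CfsgLib.Base.pCore_le_sylow U hy.2, mem_centralizer_iff.2 fun w hw => ?_⟩
    have hyV := Qc_le_centralizer hy.2
    obtain ⟨v, hv, e⟩ := commutator_Zi_Qc hX U hA haA g (Zi_le_Zi_Qc hX U hw)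
    have hzy : (z : X) * y = y * z := mem_centralizer_iff.1 hyV z z.2
    rcases hcomm' ⟨v, hv⟩ with h | h <;> rw [← e] at h
    · exact mem_centralizer_iff.1 (hPF hy.1) w ⟨hw, mem_centralizer_singleton_iff.2
        (commutatorElement_eq_one_iff_mul_comm.1 h)⟩
    · have hzw : (z : X)⁻¹ * w ∈ F := by
        refine mem_inf.2 ⟨mul_mem (inv_mem hzZ) hw, mem_centralizer_singleton_iff.2 ?_⟩
        change ⁅w, a'⁆ = ⁅(z : X), a'⁆ at h
        calc (z : X)⁻¹ * w * a' = (z : X)⁻¹ * ⁅w, a'⁆ * a' * w := by group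
          _ = (z : X)⁻¹ * ⁅(z : X), a'⁆ * a' * w := by rw [h]
          _ = _ := by group
      have h1 := mem_centralizer_iff.1 (hPF hy.1) _ hzw
      calc w * y = (z : X) * ((z : X)⁻¹ * w * y) := by group
        _ = (z : X) * (y * ((z : X)⁻¹ * w)) := by rw [h1]
        _ = (z : X) * y * ((z : X)⁻¹ * w) := by group
        _ = y * w := by rw [hzy]; group
  have hPCB : P ⊓ C = B ⊓ C := le_antisymm
    (le_inf (fun y hy => hPQ ⟨hy.1, hPC hy⟩) inf_le_right) (inf_le_inf_right _ hBP)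
  have hcard : Nat.card P = 3 * Nat.card B := by
    have hPm : P.map f = B.map f ⊔ E := by
      rw [hPdef, Subgroup.map_sup, MonoidHom.map_zpowers, hEq', ← sup_assoc,
        sup_eq_left.2 (htz ▸ zpowers_le.2 (mem_map_of_mem f haB) : t ≤ B.map f)]
    have hti : B.map f ⊓ E = t := by
      refine (Subgroup.eq_of_le_of_card_ge (le_inf (htz ▸ zpowers_le.2 (mem_map_of_mem f haB))
        le_sup_right) ?_).symm
      rw [htc]
      exact card_le_two_of_two_group ((hBp.map f).to_le inf_le_left) inf_le_right hE6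
    have h1 := CfsgLib.PLocal.card_sup_mul_card_inf (B.map f) E hnorm
    rw [hti, htc, hE6, ← hPm] at h1
    rw [card_map_toHol (V := Vc X) P, card_map_toHol (V := Vc X) B, hPCB]
    rw [← mul_assoc, show Nat.card (P.map f) = 3 * Nat.card (B.map f) by omega]
  -- `a'` as a conjugate inside `P`
  have haP : a ∈ P := hBP haB
  set h := a * a' with hh
  set a'' := h * a * h⁻¹ with ha''
  have hhP : h ∈ P := mul_mem haP ha'P
  have hq : a'⁻¹ * a'' ∈ P ⊓ Qc X := by
    refine mem_inf.2 ⟨mul_mem (inv_mem ha'P) (mul_mem (mul_mem hhP haP) (inv_mem hhP)), ?_⟩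
    rw [← QuotientGroup.eq_one_iff]
    show π (a'⁻¹ * a'') = 1
    have e : π (a * a' * a * (a * a')⁻¹) = π a' := by simpa only [map_mul, map_inv] using hbraid
    rw [map_mul π a'⁻¹ a'', map_inv π a', show π a'' = π a' from e, inv_mul_cancel]
  have hqB := hPQ hq
  have hnot : a'' ∉ B := by
    intro hm''
    have : a' ∈ B := by
      have := mul_mem hm'' (inv_mem hqB)
      rwa [show a'' * (a'⁻¹ * a'')⁻¹ = a' by group] at this
    have h2 : zpowers (f a') ≤ B.map f := zpowers_le.2 (mem_map_of_mem f this)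
    have hle : E ≤ B.map f := hEq' ▸ sup_le (htz ▸ zpowers_le.2 (mem_map_of_mem f haB)) h2
    have := card_le_two_of_two_group ((hBp.map f).to_le hle) le_rfl hE6
    omega
  refine ⟨g, a, ha'P, hEq', ⟨hBp, hBP, hcard, ⟨P ⊓ Qc X, hPQ, ?_, ?_⟩, ⟨z, ⟨Vc_le_U hX U z.2,
    mem_centralizer_iff.2 fun w hw => isElementaryAbelian_comm (el_Zi _) hw hzZ⟩, sq_of_el el_Vc z.2,
    fun b hb' => (mem_centralizer_singleton_iff.1 (hBZ hb')), a', ha'P, hza'⟩,
    h, hhP, A, EA_Bm (U : Subgroup X) ▸ hA, a, haA, hnot, ?_⟩⟩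
  · exact CfsgLib.Coprime.le_normalizer_inf_inf le_normalizer (le_top.trans (le_normalizer_of_normal (H := Qc X)))
  · rintro y ⟨hy, hyc⟩
    refine ⟨hy, hPC ⟨hy, mem_centralizer_iff.2 fun v hv => mem_centralizer_iff.1 hyc v ⟨?_, Vc_le hv⟩⟩⟩
    exact hBP ⟨Vc_le_U hX U hv, mem_centralizer_iff.2 fun w hw =>
      isElementaryAbelian_comm (el_Nz hX U) (mem_sup_left hw) (mem_sup_right hv)⟩
  · refine le_antisymm (sup_le le_sup_left (zpowers_le.2 ?_))
      (sup_le le_sup_left (zpowers_le.2 (mul_mem (mul_mem hhP haP) (inv_mem hhP))))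
    have := mul_mem (mem_sup_right (mem_zpowers a'') : a'' ∈ B ⊔ zpowers a'')
      (inv_mem (mem_sup_left hqB : a'⁻¹ * a'' ∈ B ⊔ zpowers a''))
    rwa [show a'' * (a'⁻¹ * a'')⁻¹ = a' by group] at this

/-- `X` is generated by `N(J(U))` and the subgroups `P`. -/
theorem generated (M : Subgroup X) (hJ : normalizer (Js (U : Subgroup X) : Set X) ≤ M)
    (hP : ∀ P, PreFac (Bm (U : Subgroup X)) P → P ≤ M) : M = ⊤ := by
  haveI : Fact (Nat.Prime 2) := ⟨Nat.prime_two⟩
  set f := toHol (Vc X) with hf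
  set J := Js (U : Subgroup X) with hJdef
  have hCM : f.ker ≤ M := by
    rw [hf, ker_toHol]
    exact ((centralizer_Vc_le hX U).trans (normalizer_le_normalizer_Js _)).trans hJ
  set N := ⨆ t : {t // Tr U t}, factor 2 H₀ (t : Subgroup (Hol (Vc X))) with hN
  have hJN : J.map f ≤ N := by
    rw [hJdef, Js, thompsonSubgroupOf_eq_sSup, map_le_iff_le_comap]
    refine sSup_le fun A hA => map_le_iff_le_comap.1 ((member_le_iSup hX U hA).trans ?_)
    exact iSup_mono fun t => le_sup_right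
  have hNM : N ≤ M.map f := iSup_le fun t => by
    obtain ⟨g, a, ha', hE, hp⟩ := exists_prefac hX U t.2
    rw [hE]
    refine sup_le ?_ (zpowers_le.2 (mem_map_of_mem f (hP _ hp ha')))
    obtain ⟨A, hA, hle, -⟩ := t.2
    exact hle.trans (map_mono (((le_thompsonSubgroupOf hA).trans le_normalizer).trans hJ))
  -- `N(J)` and the conjugates of members normalise `N`
  have hJn : (normalizer (J : Set X)).map f ≤ normalizer (N : Set (Hol (Vc X))) := by
    rintro _ ⟨n, hn, rfl⟩
    refine mem_of_map_conj_eq (Subgroup.eq_of_le_of_card_ge ?_ (CfsgLib.Base.card_map_conj _ _).ge)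
    rw [hN, Subgroup.map_iSup]
    refine iSup_le fun t => ?_
    rw [conj_factor (ffX hX) (mem_map_of_mem f (mem_top n))]
    refine le_iSup_of_le (⟨_, ?_⟩ : {t // Tr U t}) le_rfl
    obtain ⟨A, hA, hle, hc, ho⟩ := t.2
    have hAn : cj n A ∈ EA (U : Subgroup X) := by
      have h1 : A ∈ EA J := EA_Js (U : Subgroup X) ▸ hA
      have h2 : cj n A ∈ EA (cj n J) := EA_map (conj_injective n) J ▸ ⟨A, h1, rfl⟩
      rw [mem_normalizer_iff_cj.1 hn] at h2
      exact EA_Js (U : Subgroup X) ▸ h2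
    have hFF := (Tr.ffMin hX U t.2).trans.conj (g := f n)
      ((ffX hX).le_norm (mem_map_of_mem f (mem_top n)))
    refine ⟨cj n A, hAn, ?_, hFF.card_eq, ?_⟩
    · refine (map_mono hle).trans (le_of_eq ?_)
      rw [Subgroup.map_map, cj, Subgroup.map_map]
      congr 1
      refine MonoidHom.ext fun y => ?_
      show f n * f y * (f n)⁻¹ = f (n * y * n⁻¹)
      rw [map_mul, map_mul, map_inv]
    · unfold IsOff
      exact (congrArg (fun k => k * _) hFF.card_eq).trans hFF.card_fix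
  set Y := normalClosure (J : Set X) with hY
  have hYn : Y.map f ≤ normalizer (N : Set (Hol (Vc X))) := by
    rw [map_le_iff_le_comap]
    refine (closure_le _).2 fun x hx => ?_
    obtain ⟨j, hj, hjx⟩ := Group.mem_conjugatesOfSet_iff.1 hx
    obtain ⟨g, rfl⟩ := isConj_iff.1 hjx
    suffices h : J.map f ≤ (normalizer (N : Set (Hol (Vc X)))).comap (MulAut.conj (f g)).toMonoidHom by
      have := h (mem_map_of_mem f hj)
      simpa using this
    rw [hJdef, Js, thompsonSubgroupOf_eq_sSup, map_le_iff_le_comap]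
    refine sSup_le fun A hA => map_le_iff_le_comap.1 ((member_le_iSup hX U hA).trans (iSup_le fun s => ?_))
    rw [← map_le_iff_le_comap]
    have hgH : f g ∈ H₀ := mem_map_of_mem f (mem_top g)
    have hs := Tr.ffMin hX U s.2
    have hsg : FFMin 2 hb H₀ ((s : Subgroup (Hol (Vc X))).map (MulAut.conj (f g)).toMonoidHom) := ⟨ffX hX, by
      rintro _ ⟨y, hy, rfl⟩
      exact mul_mem (mul_mem hgH (hs.le hy)) (inv_mem hgH), hs.trans.conj ((ffX hX).le_norm hgH)⟩
    intro y hy
    refine mem_of_map_conj_eq ?_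
    rw [hN, Subgroup.map_iSup]
    refine iSup_congr fun t => map_conj_eq_of_mem ?_
    rcases (Tr.ffMin hX U t.2).dichotomy hsg with e | ⟨-, hc, -⟩
    · exact le_normalizer (e ▸ (le_sup_right : _ ≤ factor 2 H₀ _) hy)
    · exact centralizer_le_normalizer _ ((le_sup_right.trans
        (le_centralizer_iff.1 (commutator_eq_bot_iff_le_centralizer.1 hc))) hy)
  have hfr : ∀ g : X, ∃ y ∈ Y, ∃ n ∈ normalizer (J : Set X), g = y * n := by
    intro g
    obtain ⟨d, hd, n, hn, rfl⟩ := exists_mul_normalizer U Y g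
    refine ⟨d, hd, n, ?_, rfl⟩
    have hJY : J ≤ (U : Subgroup X) ⊓ Y := le_inf (thompsonSubgroupOf_le 2 _) fun x hx => subset_normalClosure hx
    have e : Js ((U : Subgroup X) ⊓ Y) = J := Js_congr (EA_eq_of_Js_le inf_le_left hJY)
    exact e ▸ normalizer_le_normalizer_Js _ hn
  have hYN : Y.map f ≤ N := by
    rw [map_le_iff_le_comap]
    refine (closure_le _).2 fun x hx => ?_
    obtain ⟨j, hj, hjx⟩ := Group.mem_conjugatesOfSet_iff.1 hx
    obtain ⟨g, rfl⟩ := isConj_iff.1 hjx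
    obtain ⟨y, hy, n, hn, rfl⟩ := hfr g
    show f (y * n * j * (y * n)⁻¹) ∈ N
    simp only [map_mul, map_inv, mul_inv_rev]
    have h2 : f y ∈ normalizer (N : Set (Hol (Vc X))) := hYn (mem_map_of_mem f hy)
    have h1 : f n ∈ normalizer (N : Set (Hol (Vc X))) := hJn (mem_map_of_mem f hn)
    have := conj_mem_of_mem_normalizer h2 (conj_mem_of_mem_normalizer h1 (hJN (mem_map_of_mem f hj)))
    simpa only [mul_assoc] using this
  rw [eq_top_iff]
  intro g _
  obtain ⟨y, hy, n, hn, rfl⟩ := hfr g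
  refine mul_mem ?_ (hJ hn)
  obtain ⟨m, hm, e⟩ := hNM (hYN (mem_map_of_mem f hy))
  have hk : y * m⁻¹ ∈ f.ker := by rw [MonoidHom.mem_ker, map_mul, map_inv, e, mul_inv_cancel]
  simpa using mul_mem (hCM hk) hm

end CfsgLib.LocalEven.SolvTwo
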