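import Cfsg.Agent.S2858
import Cfsg.Agent.Lib.LocalEven.SolvTwo.Fac

/-!
Two subgroups with a common Sylow subgroup of index three and no common normalised subgroup:
both are `S₄` or `C₂ × S₄`, and the shape of the common Sylow subgroup.
-/

set_option autoImplicit false
set_option linter.unusedSectionVars false
set_option linter.style.haveILetI false

namespace CfsgLib.LocalEven.SolvTwo

open Subgroup Cfsg CfsgLib.PLocal CfsgLib.Techniques

/-- One side of the amalgam. -/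
structure Side {G : Type*} [Group G] (B P : Subgroup G) : Prop where
  two : IsPGroup 2 B
  le : B ≤ P
  card : Nat.card P = 3 * Nat.card B
  nn : ¬ P ≤ normalizer (B : Set G)
  core : ∃ R : Subgroup G, R ≤ B ∧ P ≤ normalizer (R : Set G) ∧ P ⊓ centralizer (R : Set G) ≤ R
  moves : ∃ z ∈ B, z * z = 1 ∧ (∀ b ∈ B, b * z = z * b) ∧ ∃ g ∈ P, g * z ≠ z * g

variable {G : Type*} [Group G] [Finite G] {B P : Subgroup G}

theorem PreFac.side (h : PreFac B P) : Side B P :=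
  ⟨h.two, h.le, h.card, h.not_le_normalizer, h.core, h.moves⟩

theorem Side.relIndex (h : Side B P) : B.relIndex P = 3 := by
  have h1 := relIndex_mul_relIndex ⊥ B P bot_le h.le
  simp only [relIndex_bot_left] at h1
  rw [h.card, mul_comm 3] at h1
  exact Nat.eq_of_mul_eq_mul_left Nat.card_pos h1

theorem Side.sylIn (h : Side B P) : SylIn 2 B P := ⟨h.le, h.two, by rw [h.relIndex]; norm_num⟩

theorem Side.between (h : Side B P) {K : Subgroup G} (hBK : B ≤ K) (hKP : K ≤ P) : K = B ∨ K = P := by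
  have h1 := relIndex_mul_relIndex B K P hBK hKP
  rw [h.relIndex] at h1
  rcases Nat.prime_three.eq_one_or_self_of_dvd _ (Dvd.intro _ h1) with e | e
  · exact Or.inl (le_antisymm (relIndex_eq_one.1 e) hBK)
  · rw [e] at h1
    have : K.relIndex P = 1 := by omega
    exact Or.inr (le_antisymm hKP (relIndex_eq_one.1 this))

theorem Side.quotient (h : Side B P) : Nonempty (P ⧸ pCore 2 P ≃* Equiv.Perm (Fin 3)) :=
  (quotient_pCore_equiv (B.subgroupOf P) (h.two.comap_subtype) h.relIndex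
    fun hn => h.nn ((normal_subgroupOf_iff_le_normalizer h.le).1 hn)).1

theorem le_normalizer_pCoreOf' (P : Subgroup G) : P ≤ normalizer (pCoreOf 2 P : Set G) :=
  CfsgLib.Base.le_normalizer_map_pCore P

theorem le_pCoreOf {P R : Subgroup G} (hR : IsPGroup 2 R) (hRP : R ≤ P) (hn : P ≤ normalizer (R : Set G)) :
    R ≤ pCoreOf 2 P := by
  intro x hx
  haveI : (R.subgroupOf P).Normal := normal_subgroupOf_of_le_normalizer hn
  exact ⟨⟨x, hRP hx⟩, CfsgLib.Base.le_pCore (N := R.subgroupOf P) hR.comap_subtype hx, rfl⟩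

theorem isPGroup_pCoreOf' (P : Subgroup G) : IsPGroup 2 (pCoreOf 2 P) :=
  CfsgLib.Base.isPGroup_map_pCore 2 P

theorem Side.core_le (h : Side B P) : pCoreOf 2 P ≤ B := by
  haveI : Fact (Nat.Prime 2) := ⟨Nat.prime_two⟩
  exact h.sylIn.le_of_normal (isPGroup_pCoreOf' P) (map_subtype_le _) (le_normalizer_pCoreOf' P)

theorem Side.centralizer_core (h : Side B P) :
    P ⊓ centralizer (pCoreOf 2 P : Set G) ≤ pCoreOf 2 P := by
  obtain ⟨R, hRB, hPR, hC⟩ := h.core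
  have hR : R ≤ pCoreOf 2 P := le_pCoreOf (h.two.to_le hRB) (hRB.trans h.le) hPR
  exact ((inf_le_inf_left _ (centralizer_le hR)).trans hC).trans hR

theorem Side.card_core (h : Side B P) : Nat.card B = 2 * Nat.card (pCoreOf 2 P) := by
  obtain ⟨e⟩ := h.quotient
  have h1 := Subgroup.card_eq_card_quotient_mul_card_subgroup (pCore 2 P)
  rw [Nat.card_congr e.toEquiv, Nat.card_perm, Nat.card_fin, h.card,
    show Nat.factorial 3 = 6 from rfl,
    ← card_map_of_injective (K := pCore 2 P) P.subtype_injective] at h1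
  unfold Cfsg.pCoreOf
  omega

/-- The amalgam. -/
structure Amal (B P₁ P₂ : Subgroup G) : Prop where
  s₁ : Side B P₁
  s₂ : Side B P₂
  common : ∀ R : Subgroup G, R ≤ B → P₁ ≤ normalizer (R : Set G) → P₂ ≤ normalizer (R : Set G) → R = ⊥

variable {P₁ P₂ : Subgroup G}

theorem Amal.inf_eq (h : Amal B P₁ P₂) : P₁ ⊓ P₂ = B := by
  rcases h.s₁.between (le_inf h.s₁.le h.s₂.le) inf_le_left with e | e
  · exact e
  · exfalso
    have hle : P₁ ≤ P₂ := e ▸ inf_le_right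
    have heq : P₁ = P₂ := Subgroup.eq_of_le_of_card_ge hle (by rw [h.s₁.card, h.s₂.card])
    obtain ⟨z, hz, hz2, hzc, g, hg, hgz⟩ := h.s₁.moves
    obtain ⟨R, hRB, hPR, hC⟩ := h.s₁.core
    have hR := h.common R hRB hPR (heq ▸ hPR)
    subst hR
    have h1 := hC ⟨hg, mem_centralizer_iff.2 fun r hr => by rw [mem_bot.1 hr, one_mul, mul_one]⟩
    rw [mem_bot.1 h1, one_mul, mul_one] at hgz
    exact hgz rfl

theorem Amal.symm (h : Amal B P₁ P₂) : Amal B P₂ P₁ :=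
  ⟨h.s₂, h.s₁, fun R hR h2 h1 => h.common R hR h1 h2⟩

/-- The fixed normal four-group of `S₄`. -/
def kleinPerm : Subgroup (Equiv.Perm (Fin 4)) where
  carrier := {g | g * g = 1 ∧ (g = 1 ∨ ∀ i, g i ≠ i)}
  one_mem' := ⟨one_mul 1, Or.inl rfl⟩
  mul_mem' := by
    have : ∀ a b : Equiv.Perm (Fin 4), (a * a = 1 ∧ (a = 1 ∨ ∀ i, a i ≠ i)) →
        (b * b = 1 ∧ (b = 1 ∨ ∀ i, b i ≠ i)) → (a * b * (a * b) = 1 ∧ (a * b = 1 ∨ ∀ i, (a * b) i ≠ i)) := by
      decide +kernel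
    exact fun {a b} ha hb => this a b ha hb
  inv_mem' := fun {a} ha => by
    rw [Set.mem_ofPred_eq] at ha ⊢
    rw [inv_eq_of_mul_eq_one_right ha.1]; exact ha

theorem mem_kleinPerm {g : Equiv.Perm (Fin 4)} : g ∈ kleinPerm ↔ g * g = 1 ∧ (g = 1 ∨ ∀ i, g i ≠ i) := Iff.rfl

theorem perm_four_facts : (∀ g h : Equiv.Perm (Fin 4), g * g = 1 ∧ (g = 1 ∨ ∀ i, g i ≠ i) →
      h * g * h⁻¹ * (h * g * h⁻¹) = 1 ∧ (h * g * h⁻¹ = 1 ∨ ∀ i, (h * g * h⁻¹) i ≠ i)) ∧
    (∀ g h : Equiv.Perm (Fin 4), g * g = 1 ∧ (g = 1 ∨ ∀ i, g i ≠ i) →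
      h * h = 1 ∧ (h = 1 ∨ ∀ i, h i ≠ i) → g * h = h * g) ∧
    Fintype.card {g : Equiv.Perm (Fin 4) // g * g = 1 ∧ (g = 1 ∨ ∀ i, g i ≠ i)} = 4 ∧
    (∀ g : Equiv.Perm (Fin 4), (∀ h, g * h = h * g) → g = 1) := by
  refine ⟨?_, ?_, ?_, ?_⟩ <;> decide +kernel

theorem core_eq_of_model {M : Type*} [Group M] [Finite M] (h : Side B P) (e : P ≃* M) (K : Subgroup M)
    [K.Normal] (hK : IsElementaryAbelian 2 K) (hc : 6 * Nat.card K = Nat.card M) :
    IsElementaryAbelian 2 (pCoreOf 2 P) ∧ Nat.card (pCoreOf 2 P) = Nat.card K := by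
  set O := K.map e.symm.toMonoidHom
  haveI : O.Normal := Normal.map inferInstance _ e.symm.surjective
  have hO : IsElementaryAbelian 2 O := isElementaryAbelian_map _ hK
  have hle : O ≤ pCore 2 P := CfsgLib.Base.le_pCore (isPGroup_of_isElementaryAbelian hO)
  have h1 : Nat.card O = Nat.card K := CfsgLib.Base.card_map_mulEquiv _ _
  have h2 : Nat.card (pCore 2 P) = Nat.card (pCoreOf 2 P) :=
    (card_map_of_injective P.subtype_injective).symm
  have h3 := h.card_core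
  have h4 := h.card
  have h5 : Nat.card P = Nat.card M := Nat.card_congr e.toEquiv
  have heq : O = pCore 2 P := Subgroup.eq_of_le_of_card_ge hle (by omega)
  refine ⟨?_, by omega⟩
  unfold Cfsg.pCoreOf
  rw [← heq]
  exact isElementaryAbelian_map _ hO

/-- The data of one side: elementary core, and the action on four points. -/
theorem side_model (h : Side B P)
    (he : Nonempty (P ≃* Equiv.Perm (Fin 4)) ∨ Nonempty (P ≃* Multiplicative (ZMod 2) × Equiv.Perm (Fin 4))) :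
    IsElementaryAbelian 2 (pCoreOf 2 P) ∧ (Nat.card (pCoreOf 2 P) = 4 ∨ Nat.card (pCoreOf 2 P) = 8) ∧
      ∃ φ : P →* Equiv.Perm (Fin 4), Function.Surjective φ ∧
        ∀ x : P, φ x = 1 ↔ (x : G) ∈ centralizer (P : Set G) := by
  obtain ⟨hconj, hcomm, hcard, hcentre⟩ := perm_four_facts
  haveI hKn : kleinPerm.Normal := ⟨fun g hg k => hconj g k hg⟩
  have hK4 : Nat.card kleinPerm = 4 := by
    rw [Nat.card_congr (Equiv.subtypeEquivRight (fun g => mem_kleinPerm (g := g))), Nat.card_eq_fintype_card, hcard]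
  have hKel : IsElementaryAbelian 2 kleinPerm :=
    ⟨⟨⟨fun a b => Subtype.ext (hcomm _ _ a.2 b.2)⟩⟩, fun a ha => by rw [sq]; exact ha.1⟩
  have hcent : ∀ x : P, (x : G) ∈ centralizer (P : Set G) ↔ ∀ y : P, x * y = y * x := fun x =>
    ⟨fun hx y => Subtype.ext (mem_centralizer_iff.1 hx y y.2).symm,
      fun hx => mem_centralizer_iff.2 fun y hy => (congrArg Subtype.val (hx ⟨y, hy⟩)).symm⟩
  rcases he with ⟨⟨e⟩⟩ | ⟨⟨e⟩⟩
  · obtain ⟨h1, h2⟩ := core_eq_of_model h e kleinPerm hKel (by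
      rw [hK4, Nat.card_perm, Nat.card_fin]; rfl)
    refine ⟨h1, Or.inl (h2.trans hK4), e.toMonoidHom, e.surjective, fun x => ?_⟩
    rw [hcent]
    constructor
    · intro hx y
      have : x = 1 := e.injective (hx.trans (map_one e).symm)
      rw [this, one_mul, mul_one]
    · intro hx
      refine hcentre _ fun k => ?_
      obtain ⟨y, rfl⟩ := e.surjective k
      show e x * e y = e y * e x
      rw [← map_mul, ← map_mul, hx]
  · set K := (⊤ : Subgroup (Multiplicative (ZMod 2))).prod kleinPerm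
    have hKel' : IsElementaryAbelian 2 K := by
      refine ⟨⟨⟨fun a b => Subtype.ext (Prod.ext (mul_comm _ _) (hcomm _ _ a.2.2 b.2.2))⟩⟩, fun a ha => ?_⟩
      refine Prod.ext ?_ (by rw [sq]; exact ha.2.1)
      show a.1 ^ 2 = 1
      revert a
      have : ∀ u : Multiplicative (ZMod 2), u ^ 2 = 1 := by decide
      exact fun a _ => this a.1
    haveI : K.Normal := inferInstance
    have hcK : Nat.card K = 8 := by
      rw [Nat.card_congr (Subgroup.prodEquiv _ _).toEquiv, Nat.card_prod, hK4, card_top, Nat.card_eq_fintype_card]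
      rfl
    obtain ⟨h1, h2⟩ := core_eq_of_model h e K hKel' (by
      rw [hcK, Nat.card_prod, Nat.card_perm, Nat.card_fin, Nat.card_eq_fintype_card]; rfl)
    refine ⟨h1, Or.inr (h2.trans hcK), (MonoidHom.snd _ _).comp e.toMonoidHom,
      fun k => ⟨e.symm (1, k), by simp⟩, fun x => ?_⟩
    rw [hcent]
    constructor
    · intro hx y
      refine e.injective ?_
      rw [map_mul, map_mul]
      refine Prod.ext (mul_comm _ _) ?_
      have : (e x).2 = 1 := hx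
      simp [this]
    · intro hx
      refine hcentre _ fun k => ?_
      obtain ⟨y, hy⟩ := e.surjective (1, k)
      have := congrArg (fun w => (e w).2) (hx y)
      simp only [map_mul, Prod.snd_mul, hy] at this
      exact this

/-- The consequences. -/
structure Shape (B P₁ P₂ : Subgroup G) : Prop where
  el₁ : IsElementaryAbelian 2 (pCoreOf 2 P₁)
  el₂ : IsElementaryAbelian 2 (pCoreOf 2 P₂)
  cardE₁ : Nat.card (pCoreOf 2 P₁) = 2 * Nat.card ↥(pCoreOf 2 P₁ ⊓ pCoreOf 2 P₂)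
  cardE₂ : Nat.card (pCoreOf 2 P₂) = 2 * Nat.card ↥(pCoreOf 2 P₁ ⊓ pCoreOf 2 P₂)
  cardZ : Nat.card ↥(pCoreOf 2 P₁ ⊓ pCoreOf 2 P₂) = 2 ∨ Nat.card ↥(pCoreOf 2 P₁ ⊓ pCoreOf 2 P₂) = 4
  sup : pCoreOf 2 P₁ ⊔ pCoreOf 2 P₂ = B
  centre : B ⊓ centralizer (B : Set G) = pCoreOf 2 P₁ ⊓ pCoreOf 2 P₂
  noncomm : ∀ x ∈ pCoreOf 2 P₁, x ∉ pCoreOf 2 P₂ → ∀ y ∈ pCoreOf 2 P₂, y ∉ pCoreOf 2 P₁ → x * y ≠ y * x
  invol : ∀ x ∈ B, x * x = 1 → x ∈ pCoreOf 2 P₁ ∨ x ∈ pCoreOf 2 P₂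
  mem_EA : ∀ A, A ∈ EA B ↔ A = pCoreOf 2 P₁ ∨ A = pCoreOf 2 P₂
  act₁ : ∃ φ : P₁ →* Equiv.Perm (Fin 4), Function.Surjective φ ∧
    ∀ x : P₁, φ x = 1 ↔ (x : G) ∈ centralizer (P₁ : Set G)
  act₂ : ∃ φ : P₂ →* Equiv.Perm (Fin 4), Function.Surjective φ ∧
    ∀ x : P₂, φ x = 1 ↔ (x : G) ∈ centralizer (P₂ : Set G)

theorem Amal.shape (h : Amal B P₁ P₂) : Shape B P₁ P₂ := by
  haveI : Fact (Nat.Prime 2) := ⟨Nat.prime_two⟩
  -- the amalgam inside the subgroup it generates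
  set K := P₁ ⊔ P₂ with hK
  have hside : ∀ Q, Q = P₁ ∨ Q = P₂ → Side B Q ∧ Q ≤ K := by
    rintro Q (rfl | rfl)
    · exact ⟨h.s₁, le_sup_left⟩
    · exact ⟨h.s₂, le_sup_right⟩
  have hmap : ∀ {Q : Subgroup G}, Q ≤ K → pCoreOf 2 (Q.subgroupOf K) = (pCoreOf 2 Q).subgroupOf K := by
    intro Q hQ
    apply Subgroup.map_injective K.subtype_injective
    unfold Cfsg.pCoreOf
    rw [map_subgroupOf_eq_of_le ((map_subtype_le (pCore 2 Q)).trans hQ)]
    rw [Subgroup.map_map, ← CfsgLib.Base.map_pCore_mulEquiv (subgroupOfEquivOfLe hQ), Subgroup.map_map]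
    congr 1
  have hiso := Cfsg.Agent.S2858.result (G := K) (P₁.subgroupOf K) (P₂.subgroupOf K)
    (by rw [← subgroupOf_sup le_sup_left le_sup_right, subgroupOf_self]) (B.subgroupOf K)
    (by rw [← h.inf_eq]; rfl) (fun Q hQ => ?h1) (fun Q hQ => ?h2) (fun N hN hNB => ?h3)
    (fun Q hQ => ?h4) (fun Q hQ => ?h5)
  case h1 =>
    obtain ⟨Q', hQ', rfl⟩ : ∃ Q', (Q' = P₁ ∨ Q' = P₂) ∧ Q = Q'.subgroupOf K := by
      rcases hQ with rfl | rfl
      · exact ⟨P₁, Or.inl rfl, rfl⟩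
      · exact ⟨P₂, Or.inr rfl, rfl⟩
    obtain ⟨hs, hle⟩ := hside Q' hQ'
    rw [hmap hle]
    intro x hx
    refine mem_subgroupOf.2 (hs.centralizer_core ⟨mem_subgroupOf.1 hx.1, mem_centralizer_iff.2 fun y hy => ?_⟩)
    exact congrArg Subtype.val (mem_centralizer_iff.1 hx.2
      ⟨y, hle (map_subtype_le _ hy)⟩ (mem_subgroupOf.2 hy))
  case h2 =>
    obtain ⟨Q', hQ', rfl⟩ : ∃ Q', (Q' = P₁ ∨ Q' = P₂) ∧ Q = Q'.subgroupOf K := by
      rcases hQ with rfl | rfl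
      · exact ⟨P₁, Or.inl rfl, rfl⟩
      · exact ⟨P₂, Or.inr rfl, rfl⟩
    obtain ⟨hs, hle⟩ := hside Q' hQ'
    refine ⟨((hs.two.comap_subtype (K := K)).comap_subtype (K := Q'.subgroupOf K)).toSylow ?_, rfl⟩
    show ¬ 2 ∣ (B.subgroupOf K).relIndex (Q'.subgroupOf K)
    rw [relIndex_subgroupOf hle, hs.relIndex]
    norm_num
  case h3 =>
    have hn : K ≤ normalizer (N.map K.subtype : Set G) := by
      calc K = (⊤ : Subgroup K).map K.subtype := by rw [← MonoidHom.range_eq_map, range_subtype]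
        _ ≤ (normalizer (N : Set K)).map K.subtype := map_mono (le_normalizer_of_normal (H := N))
        _ ≤ _ := le_normalizer_map _
    have := h.common (N.map K.subtype)
      ((map_mono hNB).trans (map_subgroupOf_eq_of_le (h.s₁.le.trans le_sup_left)).le)
      (le_sup_left.trans hn) (le_sup_right.trans hn)
    rwa [map_eq_bot_iff_of_injective _ K.subtype_injective] at this
  case h4 =>
    obtain ⟨Q', hQ', rfl⟩ : ∃ Q', (Q' = P₁ ∨ Q' = P₂) ∧ Q = Q'.subgroupOf K := by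
      rcases hQ with rfl | rfl
      · exact ⟨P₁, Or.inl rfl, rfl⟩
      · exact ⟨P₂, Or.inr rfl, rfl⟩
    obtain ⟨hs, hle⟩ := hside Q' hQ'
    obtain ⟨q⟩ := hs.quotient
    haveI := pCore_normal 2 Q'
    haveI := pCore_normal 2 (Q'.subgroupOf K)
    exact ⟨(QuotientGroup.congr _ _ (subgroupOfEquivOfLe hle)
      (CfsgLib.Base.map_pCore_mulEquiv _)).trans q⟩
  case h5 =>
    obtain ⟨Q', hQ', rfl⟩ : ∃ Q', (Q' = P₁ ∨ Q' = P₂) ∧ Q = Q'.subgroupOf K := by
      rcases hQ with rfl | rfl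
      · exact ⟨P₁, Or.inl rfl, rfl⟩
      · exact ⟨P₂, Or.inr rfl, rfl⟩
    obtain ⟨hs, hle⟩ := hside Q' hQ'
    obtain ⟨z, hz, hz2, hzc, g, hg, hgz⟩ := hs.moves
    intro hcon
    have hzK : z ∈ K := hle (hs.le hz)
    have hzm : (⟨z, hzK⟩ : K) ∈ omegaOne 2 (B.subgroupOf K ⊓ centralizer (B.subgroupOf K : Set K)) :=
      mem_omegaOne ⟨mem_subgroupOf.2 hz, mem_centralizer_iff.2 fun b hb => Subtype.ext (hzc b hb)⟩
        (Subtype.ext (by rw [sq]; exact hz2))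
    exact hgz (congrArg Subtype.val (mem_centralizer_iff.1
      (hcon (x := ⟨g, hle hg⟩) (mem_subgroupOf.2 hg)) _ hzm)).symm
  have e₁ : P₁.subgroupOf K ≃* P₁ := subgroupOfEquivOfLe le_sup_left
  have e₂ : P₂.subgroupOf K ≃* P₂ := subgroupOfEquivOfLe le_sup_right
  have hm₁ : Nonempty (P₁ ≃* Equiv.Perm (Fin 4)) ∨
      Nonempty (P₁ ≃* Multiplicative (ZMod 2) × Equiv.Perm (Fin 4)) := by
    rcases hiso with ⟨⟨e⟩, -⟩ | ⟨⟨e⟩, -⟩
    · exact Or.inl ⟨e₁.symm.trans e⟩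
    · exact Or.inr ⟨e₁.symm.trans e⟩
  have hm₂ : Nonempty (P₂ ≃* Equiv.Perm (Fin 4)) ∨
      Nonempty (P₂ ≃* Multiplicative (ZMod 2) × Equiv.Perm (Fin 4)) := by
    rcases hiso with ⟨-, ⟨e⟩⟩ | ⟨-, ⟨e⟩⟩
    · exact Or.inl ⟨e₂.symm.trans e⟩
    · exact Or.inr ⟨e₂.symm.trans e⟩
  obtain ⟨hel₁, hc₁, hφ₁⟩ := side_model h.s₁ hm₁
  obtain ⟨hel₂, hc₂, hφ₂⟩ := side_model h.s₂ hm₂
  have hB₁ := h.s₁.card_core
  have hB₂ := h.s₂.card_core
  set E₁ := pCoreOf 2 P₁ with hE₁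
  set E₂ := pCoreOf 2 P₂ with hE₂
  have hne : E₁ ≠ E₂ := by
    intro e
    have h1 := h.common E₁ h.s₁.core_le (le_normalizer_pCoreOf' P₁) (e ▸ le_normalizer_pCoreOf' P₂)
    rw [h1, card_bot] at hc₁
    omega
  have hn1 : E₂ ≤ normalizer (E₁ : Set G) := (h.s₂.core_le.trans h.s₁.le).trans (le_normalizer_pCoreOf' P₁)
  have hsup : E₁ ⊔ E₂ = B := by
    refine Subgroup.eq_of_le_of_card_ge (sup_le h.s₁.core_le h.s₂.core_le) ?_
    have hlt : E₁ < E₁ ⊔ E₂ := by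
      refine lt_of_le_of_ne le_sup_left fun e => hne ?_
      exact (Subgroup.eq_of_le_of_card_ge (le_sup_right.trans e.ge) (by omega)).symm
    obtain ⟨c, hc⟩ := card_dvd_of_le hlt.le
    have hlt' := card_lt_of_lt hlt
    have hcpos : 2 ≤ c := by
      rcases Nat.lt_or_ge c 2 with hc2 | hc2
      · interval_cases c <;> omega
      · exact hc2
    rw [hB₁, hc, mul_comm]
    exact Nat.mul_le_mul_left _ hcpos
  have h6 := CfsgLib.PLocal.card_sup_mul_card_inf E₂ E₁ hn1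
  rw [sup_comm, hsup, inf_comm, hB₁] at h6
  have hcE : Nat.card E₁ = Nat.card E₂ := by omega
  have hpos : 0 < Nat.card E₁ := Nat.card_pos
  have hEZ : Nat.card E₁ = 2 * Nat.card ↥(E₁ ⊓ E₂) := by
    rw [← hcE] at h6
    have : Nat.card E₁ * (2 * Nat.card ↥(E₁ ⊓ E₂)) = Nat.card E₁ * Nat.card E₁ := by rw [← h6]; ring
    exact (Nat.eq_of_mul_eq_mul_left hpos this).symm
  have hcent : B ⊓ centralizer (B : Set G) = E₁ ⊓ E₂ := by
    refine le_antisymm (fun x hx => ⟨h.s₁.centralizer_core ⟨h.s₁.le hx.1,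
      centralizer_le (SetLike.coe_subset_coe.2 h.s₁.core_le) hx.2⟩, h.s₂.centralizer_core ⟨h.s₂.le hx.1,
      centralizer_le (SetLike.coe_subset_coe.2 h.s₂.core_le) hx.2⟩⟩) (fun x hx => ⟨h.s₁.core_le hx.1, ?_⟩)
    have : B ≤ centralizer ({x} : Set G) := by
      rw [← hsup]
      exact sup_le (fun y hy => mem_centralizer_singleton_iff.2 (isElementaryAbelian_comm hel₁ hy hx.1))
        fun y hy => mem_centralizer_singleton_iff.2 (isElementaryAbelian_comm hel₂ hy hx.2)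
    exact mem_centralizer_iff.2 fun y hy => mem_centralizer_singleton_iff.1 (this hy)
  have hnc : ∀ x ∈ E₁, x ∉ E₂ → ∀ y ∈ E₂, y ∉ E₁ → x * y ≠ y * x := by
    intro x hx hx2 y hy hy1 hcomm
    refine hx2 (h.s₂.centralizer_core ⟨h.s₂.le (h.s₁.core_le hx), ?_⟩)
    have hgen : (E₁ ⊓ E₂) ⊔ zpowers y = E₂ := by
      refine Subgroup.eq_of_le_of_card_ge (sup_le inf_le_right (zpowers_le.2 hy)) ?_
      have hlt : E₁ ⊓ E₂ < (E₁ ⊓ E₂) ⊔ zpowers y :=
        lt_of_le_of_ne le_sup_left fun e => hy1 (e.ge (mem_sup_right (mem_zpowers y))).1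
      obtain ⟨c, hc⟩ := card_dvd_of_le hlt.le
      have hlt' := card_lt_of_lt hlt
      have hcpos : 2 ≤ c := by
        rcases Nat.lt_or_ge c 2 with hc2 | hc2
        · interval_cases c <;> omega
        · exact hc2
      rw [← hcE, hEZ, hc, mul_comm]
      exact Nat.mul_le_mul_left _ hcpos
    have : E₂ ≤ centralizer ({x} : Set G) := by
      rw [← hgen]
      exact sup_le (fun w hw => mem_centralizer_singleton_iff.2 (isElementaryAbelian_comm hel₁ hw.1 hx))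
        (zpowers_le.2 (mem_centralizer_singleton_iff.2 hcomm.symm))
    exact mem_centralizer_iff.2 fun w hw => mem_centralizer_singleton_iff.1 (this hw)
  have hinv : ∀ x ∈ B, x * x = 1 → x ∈ E₁ ∨ x ∈ E₂ := by
    intro x hx hx2
    rw [← hsup, sup_comm] at hx
    obtain ⟨b, hb, a, ha, rfl⟩ := (CfsgLib.Coprime.mem_sup_iff_of_le_normalizer hn1).1 hx
    by_cases hb1 : b ∈ E₁
    · exact Or.inl (mul_mem hb1 ha)
    by_cases ha2 : a ∈ E₂
    · exact Or.inr (mul_mem hb ha2)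
    exfalso
    refine hnc a ha ha2 b hb hb1 ?_
    have hai := inv_of_el hel₁ ha
    have hbi := inv_of_el hel₂ hb
    calc a * b = a⁻¹ * b⁻¹ := by rw [hai, hbi]
      _ = (b * a)⁻¹ := by rw [mul_inv_rev]
      _ = b * a := inv_eq_of_mul_eq_one_right hx2
  have hEA : ∀ A, A ∈ EA B ↔ A = E₁ ∨ A = E₂ := by
    have hsub : ∀ A ≤ B, IsElementaryAbelian 2 A → A ≤ E₁ ∨ A ≤ E₂ := by
      intro A hA he
      by_contra hcon
      push Not at hcon
      obtain ⟨x, hx, hx1⟩ := SetLike.not_le_iff_exists.1 hcon.1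
      obtain ⟨y, hy, hy2⟩ := SetLike.not_le_iff_exists.1 hcon.2
      have hxE := (hinv x (hA hx) (sq_of_el he hx)).resolve_left hx1
      have hyE := (hinv y (hA hy) (sq_of_el he hy)).resolve_right hy2
      rcases hinv (x * y) (hA (mul_mem hx hy)) (sq_of_el he (mul_mem hx hy)) with hh | hh
      · exact hx1 ((E₁.mul_mem_cancel_right hyE).1 hh)
      · exact hy2 ((E₂.mul_mem_cancel_left hxE).1 hh)
    intro A
    constructor
    · intro hA
      rcases hsub A hA.1 hA.2.1 with hle | hle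
      · exact Or.inl (Subgroup.eq_of_le_of_card_ge hle (hA.2.2 E₁ h.s₁.core_le hel₁))
      · exact Or.inr (Subgroup.eq_of_le_of_card_ge hle (hA.2.2 E₂ h.s₂.core_le hel₂))
    · have hmax : ∀ C ≤ B, IsElementaryAbelian 2 C → Nat.card C ≤ Nat.card E₁ := fun C hC hCe => by
        rcases hsub C hC hCe with hle | hle
        · exact card_le_of_le hle
        · exact (card_le_of_le hle).trans hcE.ge
      rintro (rfl | rfl)
      · exact ⟨h.s₁.core_le, hel₁, hmax⟩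
      · exact ⟨h.s₂.core_le, hel₂, fun C hC hCe => (hmax C hC hCe).trans hcE.le⟩
  exact ⟨hel₁, hel₂, hEZ, hcE.symm.trans hEZ, (show Nat.card ↥(E₁ ⊓ E₂) = 2 ∨ Nat.card ↥(E₁ ⊓ E₂) = 4 by omega), hsup, hcent, hnc, hinv, hEA, hφ₁, hφ₂⟩

theorem Shape.Js_eq {B P₁ P₂ : Subgroup G} (h : Shape B P₁ P₂) : Js B = B := by
  refine le_antisymm (thompsonSubgroupOf_le 2 B) ?_
  conv_lhs => rw [← h.sup]
  exact sup_le (le_thompsonSubgroupOf ((h.mem_EA _).2 (Or.inl rfl)))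
    (le_thompsonSubgroupOf ((h.mem_EA _).2 (Or.inr rfl)))

end CfsgLib.LocalEven.SolvTwo
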