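import Cfsg.Agent.Lib.LocalEven.SolvTwo.Tops
import Cfsg.Agent.Lib.LocalEven.SolvTwo.Shape

/-!
A pair of `Fac` without common normalised subgroup, at the highest level: basic consequences.
-/

set_option autoImplicit false
set_option linter.unusedSectionVars false
set_option linter.style.haveILetI false

namespace CfsgLib.LocalEven.SolvTwo

open Subgroup Cfsg CfsgLib.PLocal CfsgLib.Techniques
open scoped commutatorElement

variable {G : Type*} [Group G] [Finite G]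

/-- Two `Fac` over `B` normalising no common nontrivial subgroup of `B`. -/
structure Pair (B P₁ P₂ : Subgroup G) : Prop where
  f₁ : Fac B P₁
  f₂ : Fac B P₂
  common : ∀ R : Subgroup G, R ≤ B → P₁ ≤ normalizer (R : Set G) → P₂ ≤ normalizer (R : Set G) → R = ⊥

theorem Pair.symm {B P₁ P₂ : Subgroup G} (hp : Pair B P₁ P₂) : Pair B P₂ P₁ :=
  ⟨hp.f₂, hp.f₁, fun R hR h2 h1 => hp.common R hR h1 h2⟩

theorem Pair.amal {B P₁ P₂ : Subgroup G} (hp : Pair B P₁ P₂) : Amal B P₁ P₂ :=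
  ⟨hp.f₁.toPreFac.side, hp.f₂.toPreFac.side, hp.common⟩

theorem mem_zpowers_invol {c x : G} (hc : c * c = 1) (hx : x ∈ zpowers c) : x = 1 ∨ x = c := by
  obtain ⟨m, rfl⟩ := mem_zpowers_iff.1 hx
  have h2 : c ^ (2 : ℤ) = 1 := by rw [zpow_two, hc]
  rcases Int.even_or_odd m with ⟨k, rfl⟩ | ⟨k, rfl⟩
  · left; rw [← two_mul, zpow_mul, h2, one_zpow]
  · right; rw [zpow_add_one, zpow_mul, h2, one_zpow, one_mul]

theorem isPGroup_zpowers_invol {c : G} (hc : c * c = 1) : IsPGroup 2 (zpowers c) := fun x => ⟨1, by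
  refine Subtype.ext ?_
  show (x : G) ^ 2 ^ 1 = 1
  rcases mem_zpowers_invol hc x.2 with e | e <;> rw [e, pow_one, sq]
  · exact one_mul 1
  · exact hc⟩

theorem Side.central_of_normal {B P : Subgroup G} (h : Side B P) {R : Subgroup G}
    (hR : R ≤ centralizer (B : Set G)) (hn : P ≤ normalizer (R : Set G)) : P ≤ centralizer (R : Set G) := by
  have hB : B ≤ P ⊓ centralizer (R : Set G) := le_inf h.le (le_centralizer_iff.1 hR)
  rcases h.between hB inf_le_left with e | e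
  · exfalso
    refine h.nn ?_
    rw [← e]
    exact CfsgLib.Coprime.le_normalizer_inf_inf le_normalizer (CfsgLib.Coprime.le_normalizer_centralizer hn)
  · exact e ▸ inf_le_right

theorem Side.fix_lt {B P : Subgroup G} (h : Side B P) :
    2 * Nat.card ↥(B ⊓ centralizer (B : Set G) ⊓ centralizer (P : Set G)) ≤
      Nat.card ↥(B ⊓ centralizer (B : Set G)) := by
  obtain ⟨z, hz, -, hzc, g, hg, hgz⟩ := h.moves
  have hlt : B ⊓ centralizer (B : Set G) ⊓ centralizer (P : Set G) < B ⊓ centralizer (B : Set G) := by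
    refine lt_of_le_of_ne inf_le_left fun e => hgz ?_
    have : z ∈ B ⊓ centralizer (B : Set G) := ⟨hz, mem_centralizer_iff.2 hzc⟩
    rw [← e] at this
    exact mem_centralizer_iff.1 this.2 g hg
  obtain ⟨c, hc⟩ := card_dvd_of_le hlt.le
  have hlt' := card_lt_of_lt hlt
  have hc2 : 2 ≤ c := by
    rcases Nat.lt_or_ge c 2 with h2 | h2
    · interval_cases c <;> omega
    · exact h2
  rw [hc, mul_comm 2]
  exact Nat.mul_le_mul_left _ hc2

theorem local_centralizer_core (h : Hyp G) {X : Subgroup G} (hX : IsTwoLocal X) :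
    X ⊓ centralizer (pCoreOf 2 X : Set G) ≤ pCoreOf 2 X := by
  intro x hx
  refine ⟨⟨x, hx.1⟩, (locData h hX).char2 (mem_centralizer_iff.2 fun y hy => Subtype.ext ?_), rfl⟩
  exact mem_centralizer_iff.1 hx.2 y ⟨y, hy, rfl⟩

theorem pCoreOf_cj (g : G) (P : Subgroup G) : pCoreOf 2 (cj g P) = cj g (pCoreOf 2 P) := by
  unfold Cfsg.pCoreOf
  rw [← CfsgLib.Base.map_pCore_mulEquiv (P.equivMapOfInjective _ (MulAut.conj g).injective), Subgroup.map_map]
  show _ = ((pCore 2 P).map P.subtype).map (MulAut.conj g).toMonoidHom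
  rw [Subgroup.map_map]
  rfl

/-- `O₂` of a local subgroup meets `B` in a subgroup normal in every `Fac` over `B` inside it. -/
theorem Fac.inf_core (h : Hyp G) {B P : Subgroup G} (hf : Fac B P) {X : Subgroup G} (hX : IsTwoLocal X)
    (hPX : P ≤ X) :
    P ≤ normalizer ((pCoreOf 2 X ⊓ B : Subgroup G) : Set G) ∧ pCoreOf 2 X ⊓ B ≤ pCoreOf 2 P ∧
      ∃ S : Sylow 2 G, B ≤ S ∧ Zc (S : Subgroup G) ≤ pCoreOf 2 X ⊓ B := by
  haveI : Fact (Nat.Prime 2) := ⟨Nat.prime_two⟩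
  set O := pCoreOf 2 X
  have hn : P ≤ normalizer ((P ⊓ O : Subgroup G) : Set G) :=
    CfsgLib.Coprime.le_normalizer_inf_inf le_normalizer (hPX.trans (le_normalizer_pCoreOf' X))
  have hOp : IsPGroup 2 ↥(P ⊓ O) := (isPGroup_pCoreOf' X).to_le inf_le_right
  have he : P ⊓ O = O ⊓ B := le_antisymm
    (le_inf inf_le_right (hf.toPreFac.sylIn.le_of_normal hOp inf_le_left hn))
    (le_inf (inf_le_right.trans hf.le) inf_le_left)
  obtain ⟨U, hU, hBU⟩ := exists_sylIn_ge hf.two (hf.le.trans hPX)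
  obtain ⟨S, hUS⟩ := hU.isPGroup.exists_le_sylow
  refine ⟨he ▸ hn, he ▸ le_pCoreOf hOp inf_le_left hn, S, hBU.trans hUS, fun x hx => ⟨?_, ?_⟩⟩
  · have hxU := Zc_le_sylIn hX hU S hUS hx
    refine local_centralizer_core h hX ⟨hU.le hxU, ?_⟩
    have hOU : O ≤ U := hU.le_of_normal (isPGroup_pCoreOf' X) (map_subtype_le _) (le_normalizer_pCoreOf' X)
    exact centralizer_le (SetLike.coe_subset_coe.2 (hOU.trans hUS)) (SolvTwo.Zc_le _ hx).2
  · exact (hf.Zc_le S (hBU.trans hUS) hx).1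

/-- No two `Fac` with different cores centralise a common involution of `Z(B)`. -/
theorem no_common_central (h : Hyp G) {B Pa Pb : Subgroup G} (ha : Fac B Pa) (hb : Fac B Pb)
    (hcore : pCoreOf 2 Pa ⊓ pCoreOf 2 Pb ≤ centralizer (B : Set G))
    (hcard : Nat.card ↥(B ⊓ centralizer (B : Set G)) ≤ 4) {c : G} (hcB : c ∈ B) (hc2 : c * c = 1)
    (hc1 : c ≠ 1) (hca : c ∈ centralizer (Pa : Set G)) (hcb : c ∈ centralizer (Pb : Set G)) : False := by
  haveI : Fact (Nat.Prime 2) := ⟨Nat.prime_two⟩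
  set X := normalizer (zpowers c : Set G) with hXdef
  have hXloc : IsTwoLocal X := ⟨_, isPGroup_zpowers_invol hc2, by rwa [Ne, zpowers_eq_bot], rfl⟩
  have hle : ∀ {P : Subgroup G}, c ∈ centralizer (P : Set G) → P ≤ X := fun {P} hc =>
    (le_centralizer_iff.1 (zpowers_le.2 hc)).trans (centralizer_le_normalizer _)
  obtain ⟨hna, hIa, S, hBS, hZS⟩ := ha.inf_core h hXloc (hle hca)
  obtain ⟨-, hIb, -⟩ := hb.inf_core h hXloc (hle hcb)
  set I := pCoreOf 2 X ⊓ B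
  have hIB : I ≤ centralizer (B : Set G) := (le_inf hIa hIb).trans hcore
  have hIC : I ≤ B ⊓ centralizer (B : Set G) ⊓ centralizer (Pa : Set G) :=
    le_inf (le_inf inf_le_right hIB) (le_centralizer_iff.1 (ha.toPreFac.side.central_of_normal hIB hna))
  have hc : zpowers c ≤ I := le_inf
    (le_pCoreOf (isPGroup_zpowers_invol hc2) le_normalizer le_rfl) (zpowers_le.2 hcB)
  have hI2 : Nat.card I ≤ 2 := by
    have := card_le_of_le hIC
    have := ha.toPreFac.side.fix_lt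
    omega
  have hI : zpowers c = I := Subgroup.eq_of_le_of_card_ge hc (by
    rw [Nat.card_zpowers]
    have : orderOf c = 2 := orderOf_eq_prime (by rw [sq, hc2]) hc1
    omega)
  exact ha.not_le_centralizer_Zc h S hBS
    ((le_centralizer_iff.1 (zpowers_le.2 hca)).trans (centralizer_le (hI ▸ hZS : Zc (S : Subgroup G) ≤ zpowers c)))

variable {B P₁ P₂ : Subgroup G}

/-- A pair lies in no local subgroup. -/
theorem Pair.not_local (h : Hyp G) (hp : Pair B P₁ P₂) {X : Subgroup G} (hX : IsTwoLocal X)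
    (h1 : P₁ ≤ X) (h2 : P₂ ≤ X) : False := by
  obtain ⟨hn1, -, S, -, hZS⟩ := hp.f₁.inf_core h hX h1
  obtain ⟨hn2, -, -⟩ := hp.f₂.inf_core h hX h2
  have := hp.common _ inf_le_right hn1 hn2
  exact Zc_ne_bot S.2 (sylow_ne_bot h S) (eq_bot_iff.2 (hZS.trans this.le))

local notation "E₁" => Cfsg.pCoreOf 2 P₁
local notation "E₂" => Cfsg.pCoreOf 2 P₂
local notation "Zz" => (Cfsg.pCoreOf 2 P₁ ⊓ Cfsg.pCoreOf 2 P₂)

theorem Shape.symm (sh : Shape B P₁ P₂) : Shape B P₂ P₁ := by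
  refine ⟨sh.el₂, sh.el₁, ?_, ?_, ?_, ?_, ?_, fun x hx hx1 y hy hy1 => (sh.noncomm y hy hy1 x hx hx1).symm,
    fun x hx h2 => (sh.invol x hx h2).symm, fun A => (sh.mem_EA A).trans or_comm, sh.act₂, sh.act₁⟩
  · rw [inf_comm]; exact sh.cardE₂
  · rw [inf_comm]; exact sh.cardE₁
  · rw [inf_comm]; exact sh.cardZ
  · rw [sup_comm]; exact sh.sup
  · rw [inf_comm (pCoreOf 2 P₂)]; exact sh.centre

theorem Shape.le₁ (sh : Shape B P₁ P₂) : E₁ ≤ B := le_of_le_of_eq le_sup_left sh.sup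
theorem Shape.le₂ (sh : Shape B P₁ P₂) : E₂ ≤ B := le_of_le_of_eq le_sup_right sh.sup

theorem Shape.ne_bot₁ (sh : Shape B P₁ P₂) : E₁ ≠ ⊥ := fun e => by
  have h1 := sh.cardE₁
  have h2 := sh.cardZ
  rw [e, card_bot] at h1
  omega

theorem Shape.exists_elt (sh : Shape B P₁ P₂) : ∃ e ∈ E₁, e ∉ E₂ := by
  by_contra hc
  push Not at hc
  have h1 := sh.cardE₁
  have h2 := sh.cardZ
  rw [inf_eq_left.2 (show E₁ ≤ E₂ from hc)] at h1 h2
  omega

theorem Shape.cases₁ (sh : Shape B P₁ P₂) {e x : G} (he : e ∈ E₁) (he2 : e ∉ E₂) (hx : x ∈ E₁) :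
    x ∈ Zz ∨ x * e ∈ Zz := by
  have hidx : (Zz).relIndex E₁ = 2 := by
    have h1 := relIndex_mul_relIndex ⊥ Zz E₁ bot_le inf_le_left
    simp only [relIndex_bot_left] at h1
    rw [sh.cardE₁, mul_comm 2] at h1
    exact Nat.eq_of_mul_eq_mul_left Nat.card_pos h1
  by_cases hxZ : x ∈ Zz
  · exact Or.inl hxZ
  refine Or.inr ?_
  have h3 := (Subgroup.mul_mem_iff_of_index_two (H := (Zz).subgroupOf E₁) hidx
    (a := ⟨x, hx⟩) (b := ⟨e, he⟩))
  exact h3.2 ⟨fun hh => absurd hh hxZ, fun hh => absurd hh fun hh' => he2 hh'.2⟩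

theorem Shape.le_normalizer₁ (sh : Shape B P₁ P₂) (hp : Pair B P₁ P₂) : B ≤ normalizer (E₁ : Set G) :=
  hp.f₁.le.trans (le_normalizer_pCoreOf' P₁)

/-- The commutator of representatives. -/
theorem Shape.comm_facts (sh : Shape B P₁ P₂) (hp : Pair B P₁ P₂) {e₁ e₂ : G} (h1 : e₁ ∈ E₁)
    (h1' : e₁ ∉ E₂) (h2 : e₂ ∈ E₂) (h2' : e₂ ∉ E₁) :
    ⁅e₁, e₂⁆ ∈ Zz ∧ ⁅e₁, e₂⁆ ≠ 1 := by
  refine ⟨mem_inf.2 ⟨?_, ?_⟩, fun e => sh.noncomm e₁ h1 h1' e₂ h2 h2' (commutatorElement_eq_one_iff_mul_comm.1 e)⟩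
  · rw [show ⁅e₁, e₂⁆ = e₁ * (e₂ * e₁⁻¹ * e₂⁻¹) by group]
    exact mul_mem h1 (conj_mem_of_mem_normalizer (sh.le_normalizer₁ hp (sh.le₂ h2)) (inv_mem h1))
  · rw [show ⁅e₁, e₂⁆ = (e₁ * e₂ * e₁⁻¹) * e₂⁻¹ by group]
    exact mul_mem (conj_mem_of_mem_normalizer (sh.symm.le_normalizer₁ hp.symm (sh.le₁ h1)) h2) (inv_mem h2)

theorem Shape.commute_Z (sh : Shape B P₁ P₂) {w b : G} (hw : w ∈ Zz) (hb : b ∈ B) : b * w = w * b :=
  mem_centralizer_iff.1 (sh.centre.ge hw).2 b hb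

/-- All commutators of the two cosets agree. -/
theorem Shape.comm_eq (sh : Shape B P₁ P₂) {e₁ e₂ a b : G} (h1 : e₁ ∈ E₁)
    (h1' : e₁ ∉ E₂) (h2 : e₂ ∈ E₂) (h2' : e₂ ∉ E₁) (ha : a ∈ E₁) (ha' : a ∉ E₂) (hb : b ∈ E₂)
    (hb' : b ∉ E₁) : ⁅a, b⁆ = ⁅e₁, e₂⁆ := by
  have hw : a * e₁ ∈ Zz := (sh.cases₁ h1 h1' ha).resolve_left fun hh => ha' hh.2
  have hv : b * e₂ ∈ Zz := inf_comm (E₂) (E₁) ▸
    (sh.symm.cases₁ h2 h2' hb).resolve_left fun hh => hb' hh.2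
  have ea : a = (a * e₁) * e₁ := by rw [mul_assoc, sq_of_el sh.el₁ h1, mul_one]
  have eb : b = (b * e₂) * e₂ := by rw [mul_assoc, sq_of_el sh.el₂ h2, mul_one]
  have hE1B := sh.le₁ h1
  have hE2B := sh.le₂ h2
  have cw1 : Commute e₁ (a * e₁) := sh.commute_Z hw hE1B
  have cw2 : Commute e₂ (a * e₁) := sh.commute_Z hw hE2B
  have cv1 : Commute e₁ (b * e₂) := sh.commute_Z hv hE1B
  have cv2 : Commute e₂ (b * e₂) := sh.commute_Z hv hE2B
  have cwv : Commute (a * e₁) (b * e₂) := sh.commute_Z hv (sh.le₁ hw.1)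
  generalize a * e₁ = w at *
  generalize b * e₂ = v at *
  subst ea eb
  calc ⁅w * e₁, v * e₂⁆ = w * e₁ * (v * e₂) * e₁⁻¹ * w⁻¹ * e₂⁻¹ * v⁻¹ := by group
    _ = v * (w * (e₁ * e₂ * e₁⁻¹) * w⁻¹ * e₂⁻¹) * v⁻¹ := by
      rw [show w * e₁ * (v * e₂) = w * (e₁ * v) * e₂ by group, cv1.eq,
        show w * (v * e₁) * e₂ = w * v * e₁ * e₂ by group, cwv.eq]; group
    _ = v * (e₁ * e₂ * e₁⁻¹ * e₂⁻¹) * v⁻¹ := by
      rw [show w * (e₁ * e₂ * e₁⁻¹) = e₁ * e₂ * e₁⁻¹ * w from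
        (((cw1.mul_left cw2).mul_left cw1.inv_left)).eq.symm]
      group
    _ = ⁅e₁, e₂⁆ := by
      rw [← (((cv1.mul_left cv2).mul_left cv1.inv_left).mul_left cv2.inv_left).eq, commutatorElement_def]
      group

/-- Elements normalising `B` permute the two cores. -/
theorem Shape.permute (sh : Shape B P₁ P₂) {x : G} (hx : x ∈ normalizer (B : Set G)) :
    (cj x E₁ = E₁ ∧ cj x E₂ = E₂) ∨ (cj x E₁ = E₂ ∧ cj x E₂ = E₁) := by
  have hmem : ∀ A, A ∈ EA B → cj x A ∈ EA B := fun A hA => by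
    have := map_mem_maxEAOf (conj_injective x) hA
    rwa [show B.map (MulAut.conj x).toMonoidHom = B from mem_normalizer_iff_cj.1 hx] at this
  have hne : E₁ ≠ E₂ := fun e => by
    obtain ⟨a, ha, ha'⟩ := sh.exists_elt
    exact ha' (e ▸ ha)
  have hinj : cj x E₁ ≠ cj x E₂ := fun e => hne (Subgroup.map_injective (conj_injective x) e)
  rcases (sh.mem_EA _).1 (hmem _ ((sh.mem_EA _).2 (Or.inl rfl))) with e | e <;>
    rcases (sh.mem_EA _).1 (hmem _ ((sh.mem_EA _).2 (Or.inr rfl))) with e' | e'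
  · exact absurd (e.trans e'.symm) hinj
  · exact Or.inl ⟨e, e'⟩
  · exact Or.inr ⟨e, e'⟩
  · exact absurd (e.trans e'.symm) hinj

/-- The commutator is fixed by the normalizer of `B`. -/
theorem Shape.fix_comm (sh : Shape B P₁ P₂) (hp : Pair B P₁ P₂) {e₁ e₂ x : G} (h1 : e₁ ∈ E₁)
    (h1' : e₁ ∉ E₂) (h2 : e₂ ∈ E₂) (h2' : e₂ ∉ E₁) (hx : x ∈ normalizer (B : Set G)) :
    x * ⁅e₁, e₂⁆ * x⁻¹ = ⁅e₁, e₂⁆ := by
  have hc : x * ⁅e₁, e₂⁆ * x⁻¹ = ⁅x * e₁ * x⁻¹, x * e₂ * x⁻¹⁆ := by group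
  rcases sh.permute hx with ⟨ha, hb⟩ | ⟨ha, hb⟩
  · rw [hc]
    exact sh.comm_eq h1 h1' h2 h2' (ha ▸ conj_mem_cj.2 h1) (hb ▸ fun hh => h1' (conj_mem_cj.1 hh))
      (hb ▸ conj_mem_cj.2 h2) (ha ▸ fun hh => h2' (conj_mem_cj.1 hh))
  · rw [hc, ← commutatorElement_inv, sh.comm_eq h1 h1' h2 h2' (hb ▸ conj_mem_cj.2 h2)
      (ha ▸ fun hh => h2' (conj_mem_cj.1 hh)) (ha ▸ conj_mem_cj.2 h1)
      (hb ▸ fun hh => h1' (conj_mem_cj.1 hh))]
    exact inv_eq_of_mul_eq_one_right (sq_of_el sh.el₁ (sh.comm_facts hp h1 h1' h2 h2').1.1)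

theorem Pair.exists_three (hp : Pair B P₁ P₂) : ∃ y ∈ P₁, y ∉ B ∧ ∀ k : ℕ, y ^ 2 ^ k ≠ 1 := by
  haveI : Fact (Nat.Prime 3) := ⟨Nat.prime_three⟩
  obtain ⟨y, hy⟩ := exists_prime_orderOf_dvd_card' (G := P₁) 3 ⟨_, hp.f₁.card⟩
  have hk : ∀ k : ℕ, (y : G) ^ 2 ^ k ≠ 1 := by
    intro k e
    have h1 := orderOf_dvd_of_pow_eq_one e
    rw [Subgroup.orderOf_coe, hy] at h1
    have := Nat.prime_three.dvd_of_dvd_pow h1
    norm_num at this
  refine ⟨y, y.2, fun hyB => ?_, hk⟩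
  obtain ⟨k, hk'⟩ := hp.f₁.two ⟨_, hyB⟩
  exact hk k (congrArg Subtype.val hk')

/-- The commutator is not centralised by `P₁`. -/
theorem Pair.comm_not_central (hp : Pair B P₁ P₂) (sh : Shape B P₁ P₂) {e₁ e₂ : G} (h1 : e₁ ∈ E₁)
    (h1' : e₁ ∉ E₂) (h2 : e₂ ∈ E₂) (h2' : e₂ ∉ E₁) : ⁅e₁, e₂⁆ ∉ centralizer (P₁ : Set G) := by
  intro hz
  set z := ⁅e₁, e₂⁆ with hzdef
  obtain ⟨hzZ, -⟩ := sh.comm_facts hp h1 h1' h2 h2'
  have hz2 := sq_of_el sh.el₁ hzZ.1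
  set W := zpowers z
  have hPW : P₁ ≤ normalizer (W : Set G) :=
    (le_centralizer_iff.1 (zpowers_le.2 hz)).trans (centralizer_le_normalizer _)
  have hPE := le_normalizer_pCoreOf' P₁
  set K := P₁ ⊓ trivQuot (E₁) W with hK
  have hBK : B ≤ K := by
    conv_lhs => rw [← sh.sup]
    refine sup_le (le_inf (sh.le₁.trans hp.f₁.le) fun a ha => ⟨hPW (hp.f₁.le (sh.le₁ ha)), fun v hv => ?_⟩)
      (le_inf (sh.le₂.trans hp.f₁.le) fun b hb => ⟨hPW (hp.f₁.le (sh.le₂ hb)), fun v hv => ?_⟩)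
    · rw [commutatorElement_eq_one_iff_mul_comm.2 (isElementaryAbelian_comm sh.el₁ hv ha)]
      exact one_mem _
    · by_cases hvZ : v ∈ E₂
      · rw [commutatorElement_eq_one_iff_mul_comm.2 (isElementaryAbelian_comm sh.el₂ hvZ hb)]
        exact one_mem _
      · by_cases hbZ : b ∈ E₁
        · rw [commutatorElement_eq_one_iff_mul_comm.2 (isElementaryAbelian_comm sh.el₁ hv hbZ)]
          exact one_mem _
        · rw [sh.comm_eq h1 h1' h2 h2' hv hvZ hb hbZ]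
          exact mem_zpowers z
  have hKn : P₁ ≤ normalizer (K : Set G) := by
    intro g hg
    refine mem_normalizer_iff_cj.2 (Subgroup.eq_of_le_of_card_ge (cj_le_iff.2 ?_) (card_cj _ _).ge)
    rintro k ⟨hk, hkW, hkc⟩
    refine mem_inf.2 ⟨mul_mem (mul_mem hg hk) (inv_mem hg), mul_mem (mul_mem (hPW hg) hkW) (inv_mem (hPW hg)),
      fun v hv => ?_⟩
    rw [show ⁅v, g * k * g⁻¹⁆ = g * ⁅g⁻¹ * v * g, k⁆ * g⁻¹ by group]
    exact conj_mem_of_mem_normalizer (hPW hg) (hkc _ (conj_mem_of_mem_normalizer' (hPE hg) hv))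
  rcases hp.amal.s₁.between hBK inf_le_left with e | e
  · exact hp.amal.s₁.nn (e ▸ hKn)
  obtain ⟨y, hy, -, hyk⟩ := hp.exists_three
  have hyK : y ∈ trivQuot (E₁) W := (e.ge hy).2
  have hyy : y * y ∈ P₁ ⊓ centralizer ((E₁ : Subgroup G) : Set G) := by
    refine ⟨mul_mem hy hy, mem_centralizer_iff.2 fun v hv => commutatorElement_eq_one_iff_mul_comm.1 ?_⟩
    have hw : ⁅v, y⁆ = 1 ∨ ⁅v, y⁆ = z := mem_zpowers_invol hz2 (hyK.2 v hv)
    have hcy : Commute y ⁅v, y⁆ := by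
      rcases hw with hw | hw <;> rw [hw]
      · exact Commute.one_right y
      · exact mem_centralizer_iff.1 hz y hy
    rw [show ⁅v, y * y⁆ = ⁅v, y⁆ * (y * ⁅v, y⁆ * y⁻¹) by group, hcy.eq, mul_inv_cancel_right]
    rcases hw with hw | hw <;> rw [hw]
    · exact one_mul 1
    · exact hz2
  obtain ⟨k, hk⟩ := hp.f₁.two ⟨_, hp.amal.s₁.core_le (hp.amal.s₁.centralizer_core hyy)⟩
  refine hyk (k + 1) ?_
  rw [pow_succ', pow_mul, sq]
  exact congrArg Subtype.val hk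

theorem Pair.card_Z (sh : Shape B P₁ P₂) : Nat.card ↥(B ⊓ centralizer (B : Set G)) ≤ 4 := by
  rw [sh.centre]
  rcases sh.cardZ with h | h <;> omega

/-- `Z(B)` meets the centralizer of `P₁` in half. -/
theorem Pair.card_fix (hp : Pair B P₁ P₂) (sh : Shape B P₁ P₂) :
    2 * Nat.card ↥(Zz ⊓ centralizer (P₁ : Set G)) = Nat.card ↥(Zz) := by
  obtain ⟨φ, hφ, hker⟩ := sh.act₁
  have h1 := φ.ker.card_mul_index
  rw [index_ker, MonoidHom.range_eq_top.2 hφ, card_top, Nat.card_perm, Nat.card_fin] at h1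
  have hk : φ.ker.map P₁.subtype = Zz ⊓ centralizer (P₁ : Set G) := by
    apply le_antisymm
    · rintro _ ⟨x, hx, rfl⟩
      have hx' := (hker x).1 (MonoidHom.mem_ker.1 hx)
      have hxE : (x : G) ∈ E₁ := hp.amal.s₁.centralizer_core
        ⟨x.2, centralizer_le (SetLike.coe_subset_coe.2 (map_subtype_le _)) hx'⟩
      exact ⟨sh.centre.le ⟨sh.le₁ hxE, centralizer_le (SetLike.coe_subset_coe.2 hp.f₁.le) hx'⟩, hx'⟩
    · intro x hx
      have hxP : x ∈ P₁ := hp.f₁.le (sh.le₁ hx.1.1)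
      exact ⟨⟨x, hxP⟩, MonoidHom.mem_ker.2 ((hker _).2 hx.2), rfl⟩
  have h2 : Nat.card φ.ker = Nat.card ↥(Zz ⊓ centralizer (P₁ : Set G)) := by
    rw [← hk, card_map_of_injective P₁.subtype_injective]
  have h3 := hp.amal.s₁.card
  have h4 := hp.amal.s₁.card_core
  have h5 := sh.cardE₁
  rw [show Nat.factorial 4 = 24 from rfl] at h1
  rw [h2] at h1
  omega

theorem Pair.fix_ne (hp : Pair B P₁ P₂) (sh : Shape B P₁ P₂) (h4 : Nat.card ↥(Zz) = 4) :
    ∃ c ∈ Zz, c ≠ 1 ∧ c ∈ centralizer (P₁ : Set G) := by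
  have := hp.card_fix sh
  have hne : Zz ⊓ centralizer (P₁ : Set G) ≠ ⊥ := fun e => by rw [e, card_bot] at this; omega
  obtain ⟨⟨c, hc⟩, hc1⟩ := (ne_bot_iff_exists_ne_one).1 hne
  exact ⟨c, hc.1, fun e => hc1 (Subtype.ext e), hc.2⟩

theorem Pair.fixes_ne (hp : Pair B P₁ P₂) (sh : Shape B P₁ P₂) {c c' : G} (hc : c ∈ Zz)
    (hc1 : c ≠ 1) (hcP : c ∈ centralizer (P₁ : Set G)) (hcP' : c' ∈ centralizer (P₂ : Set G)) : c ≠ c' := by
  rintro rfl
  have hn : ∀ {P : Subgroup G}, c ∈ centralizer (P : Set G) → P ≤ normalizer (zpowers c : Set G) := fun {P} h =>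
    (le_centralizer_iff.1 (zpowers_le.2 h)).trans (centralizer_le_normalizer _)
  exact hc1 (zpowers_eq_bot.1 (hp.common _ (zpowers_le.2 (sh.le₁ hc.1)) (hn hcP) (hn hcP')))

theorem eq_of_card_four {A : Subgroup G} (hA : Nat.card A = 4) {a b c d x : G} (ha : a ∈ A) (hb : b ∈ A)
    (hc : c ∈ A) (hd : d ∈ A) (hab : a ≠ b) (hac : a ≠ c) (had : a ≠ d) (hbc : b ≠ c) (hbd : b ≠ d)
    (hcd : c ≠ d) (hx : x ∈ A) : x = a ∨ x = b ∨ x = c ∨ x = d := by
  by_contra hno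
  push Not at hno
  let g : Fin 5 → A := ![⟨a, ha⟩, ⟨b, hb⟩, ⟨c, hc⟩, ⟨d, hd⟩, ⟨x, hx⟩]
  have hg : Function.Injective g := by
    intro i j hij
    have := congrArg Subtype.val hij
    fin_cases i <;> fin_cases j <;>
      simp [g, hab, hac, had, hbc, hbd, hcd, Ne.symm hab, Ne.symm hac, Ne.symm had, Ne.symm hbc,
        Ne.symm hbd, Ne.symm hcd, hno.1, Ne.symm hno.1, hno.2.1, Ne.symm hno.2.1, hno.2.2.1,
        Ne.symm hno.2.2.1, hno.2.2.2, Ne.symm hno.2.2.2] at this ⊢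
  have := Nat.card_le_card_of_injective g hg
  rw [Nat.card_fin, hA] at this
  omega

/-- `Z(B)` of order four consists of the commutator and the two fixed involutions. -/
theorem Pair.Z_cases (hp : Pair B P₁ P₂) (sh : Shape B P₁ P₂) (h4 : Nat.card ↥(Zz) = 4) {e₁ e₂ c₁ c₂ : G}
    (h1 : e₁ ∈ E₁) (h1' : e₁ ∉ E₂) (h2 : e₂ ∈ E₂) (h2' : e₂ ∉ E₁) (hc₁ : c₁ ∈ Zz) (hc₁1 : c₁ ≠ 1)
    (hc₁P : c₁ ∈ centralizer (P₁ : Set G)) (hc₂ : c₂ ∈ Zz) (hc₂1 : c₂ ≠ 1)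
    (hc₂P : c₂ ∈ centralizer (P₂ : Set G)) :
    (∀ x ∈ Zz, x = 1 ∨ x = ⁅e₁, e₂⁆ ∨ x = c₁ ∨ x = c₂) ∧ ⁅e₁, e₂⁆ ≠ c₁ ∧ ⁅e₁, e₂⁆ ≠ c₂ ∧ c₁ ≠ c₂ ∧
      ⁅e₁, e₂⁆ = c₁ * c₂ := by
  obtain ⟨hzZ, hz1⟩ := sh.comm_facts hp h1 h1' h2 h2'
  have hne := hp.fixes_ne sh hc₁ hc₁1 hc₁P hc₂P
  have hzc1 : ⁅e₁, e₂⁆ ≠ c₁ := fun e => hp.comm_not_central sh h1 h1' h2 h2' (e ▸ hc₁P)
  have hzc2 : ⁅e₁, e₂⁆ ≠ c₂ := by
    intro e
    refine hp.symm.comm_not_central sh.symm h2 h2' h1 h1' ?_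
    rw [← commutatorElement_inv, e]
    exact inv_mem hc₂P
  have hall : ∀ x ∈ Zz, x = 1 ∨ x = ⁅e₁, e₂⁆ ∨ x = c₁ ∨ x = c₂ := fun x hx =>
    eq_of_card_four h4 (one_mem _) hzZ hc₁ hc₂ hz1.symm hc₁1.symm hc₂1.symm hzc1 hzc2 hne hx
  refine ⟨hall, hzc1, hzc2, hne, ?_⟩
  rcases hall (c₁ * c₂) (mul_mem hc₁ hc₂) with e | e | e | e
  · exact absurd ((mul_eq_one_iff_eq_inv.1 e).trans (inv_of_el sh.el₁ hc₂.1)) hne
  · exact e.symm
  · exact absurd (mul_eq_left.1 e) hc₂1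
  · exact absurd (mul_eq_right.1 e) hc₁1

/-- The normalizer of `B` and `E₁` centralises `Z(B)`. -/
theorem Pair.fix_Z (h : Hyp G) (hp : Pair B P₁ P₂) (sh : Shape B P₁ P₂) {x : G}
    (hxB : x ∈ normalizer (B : Set G)) (hxE : x ∈ normalizer ((E₁ : Subgroup G) : Set G)) :
    ∀ w ∈ Zz, x * w * x⁻¹ = w := by
  obtain ⟨e₁, h1, h1'⟩ := sh.exists_elt
  obtain ⟨e₂, h2, h2'⟩ := sh.symm.exists_elt
  obtain ⟨hzZ, hz1⟩ := sh.comm_facts hp h1 h1' h2 h2'
  have hfix := sh.fix_comm hp h1 h1' h2 h2' hxB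
  intro w hw
  rcases sh.cardZ with h4 | h4
  · rcases eq_of_card_two h4 hw hzZ hz1 with rfl | rfl
    · group
    · exact hfix
  obtain ⟨c₁, hc₁, hc₁1, hc₁P⟩ := hp.fix_ne sh h4
  obtain ⟨c₂, hc₂, hc₂1, hc₂P⟩ : ∃ c ∈ Zz, c ≠ 1 ∧ c ∈ centralizer (P₂ : Set G) := by
    rw [inf_comm] at h4 ⊢; exact hp.symm.fix_ne sh.symm h4
  obtain ⟨hall, hn1, hn2, hne, hprod⟩ := hp.Z_cases sh h4 h1 h1' h2 h2' hc₁ hc₁1 hc₁P hc₂ hc₂1 hc₂P
  have hE1 : cj x (E₁) = E₁ := mem_normalizer_iff_cj.1 hxE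
  have hB : cj x B = B := mem_normalizer_iff_cj.1 hxB
  have hE2 : cj x (E₂) = E₂ := by
    rcases sh.permute hxB with ⟨-, e⟩ | ⟨e, -⟩
    · exact e
    · exact absurd (hE1.symm.trans e) fun e => h1' (e ▸ h1)
  have hc₁' : x * c₁ * x⁻¹ = c₁ := by
    have hm : x * c₁ * x⁻¹ ∈ Zz := ⟨hE1 ▸ conj_mem_cj.2 hc₁.1, hE2 ▸ conj_mem_cj.2 hc₁.2⟩
    rcases hall _ hm with e | e | e | e
    · exact absurd (conj_eq_one_iff.1 e) hc₁1
    · exact absurd (conj_injective x (show (MulAut.conj x).toMonoidHom c₁ = (MulAut.conj x).toMonoidHom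
        ⁅e₁, e₂⁆ from e.trans hfix.symm)).symm hn1
    · exact e
    · exfalso
      have hf : Fac B (cj x P₁) := by have := hp.f₁.cj x; rwa [hB] at this
      refine no_common_central h hf hp.f₂ ?_ (Pair.card_Z sh) (sh.le₁ hc₂.1) (sq_of_el sh.el₁ hc₂.1) hc₂1 ?_ hc₂P
      · rw [pCoreOf_cj, hE1]; exact sh.centre.ge.trans inf_le_right
      · refine mem_centralizer_iff.2 ?_
        rintro _ ⟨y, hy, rfl⟩
        show x * y * x⁻¹ * c₂ = c₂ * (x * y * x⁻¹)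
        rw [← e]
        calc x * y * x⁻¹ * (x * c₁ * x⁻¹) = x * (y * c₁) * x⁻¹ := by group
          _ = x * (c₁ * y) * x⁻¹ := by rw [mem_centralizer_iff.1 hc₁P y hy]
          _ = _ := by group
  have hc₂' : x * c₂ * x⁻¹ = c₂ := by
    have : x * (c₁ * c₂) * x⁻¹ = c₁ * c₂ := hprod ▸ hfix
    rw [show x * (c₁ * c₂) * x⁻¹ = (x * c₁ * x⁻¹) * (x * c₂ * x⁻¹) by group, hc₁'] at this
    exact mul_left_cancel this
  rcases hall w hw with rfl | rfl | rfl | rfl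
  · group
  · exact hfix
  · exact hc₁'
  · exact hc₂'

/-- No element moves `e₁` by the involution fixed by `P₁`. -/
theorem Pair.no_transvection (h : Hyp G) (hp : Pair B P₁ P₂) (sh : Shape B P₁ P₂) {x e₁ c : G}
    (hxE : x ∈ normalizer ((E₁ : Subgroup G) : Set G)) (hxZ : ∀ w ∈ Zz, x * w * x⁻¹ = w) (h1 : e₁ ∈ E₁)
    (h1' : e₁ ∉ E₂) (hc : c ∈ Zz) (hc1 : c ≠ 1) (hcP : c ∈ centralizer (P₁ : Set G))
    (hx : x * e₁ * x⁻¹ = e₁ * c) : False := by
  haveI : Fact (Nat.Prime 2) := ⟨Nat.prime_two⟩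
  set E := E₁
  have hc2 : c * c = 1 := sq_of_el sh.el₁ hc.1
  set Y := normalizer (E : Set G) ⊓ centralizer ({c} : Set G) with hY
  set W := zpowers c
  have hYW : Y ≤ normalizer (W : Set G) := fun g hg => centralizer_le_normalizer _
    (mem_centralizer_iff.2 fun v hv => by
      rcases mem_zpowers_invol hc2 hv with rfl | rfl
      · rw [one_mul, mul_one]
      · exact (mem_centralizer_singleton_iff.1 hg.2).symm)
  set K := trivQuot E W ⊓ Y with hK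
  have hPY : P₁ ≤ Y := le_inf (le_normalizer_pCoreOf' P₁) fun g hg =>
    mem_centralizer_singleton_iff.2 (mem_centralizer_iff.1 hcP g hg)
  have hBY : B ≤ Y := hp.f₁.le.trans hPY
  -- the action of `K` on `E`
  have hact : ∀ k ∈ K, ∀ v ∈ E, k * v * k⁻¹ = v ∨ k * v * k⁻¹ = v * c := by
    intro k hk v hv
    have hv' : k * v * k⁻¹ ∈ E := conj_mem_of_mem_normalizer hk.2.1 hv
    have hk' := hk.1.2 v hv
    have e : k * v * k⁻¹ = v * ⁅v, k⁆ := by
      calc k * v * k⁻¹ = (v * (k * v⁻¹ * k⁻¹))⁻¹ * v := by group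
        _ = v * (v * (k * v⁻¹ * k⁻¹))⁻¹ := by
          rw [show v * (k * v⁻¹ * k⁻¹) = v * (k * v * k⁻¹)⁻¹ by group]
          exact isElementaryAbelian_comm sh.el₁ (inv_mem (mul_mem hv (inv_mem hv'))) hv
        _ = v * ⁅v, k⁆ := by
          rw [show v * (k * v⁻¹ * k⁻¹) = ⁅v, k⁆ by group]
          rcases mem_zpowers_invol hc2 hk' with e | e <;> rw [e]
          · rw [inv_one]
          · rw [inv_eq_of_mul_eq_one_right hc2]
    rcases mem_zpowers_invol hc2 hk' with hh | hh <;> rw [e, hh]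
    · exact Or.inl (mul_one v)
    · exact Or.inr rfl
  have hfixc : ∀ k ∈ K, k * c * k⁻¹ = c := fun k hk => by
    rw [mem_centralizer_singleton_iff.1 hk.2.2, mul_inv_cancel_right]
  have hKn : Y ≤ normalizer (K : Set G) := by
    intro g hg
    refine mem_normalizer_iff_cj.2 (Subgroup.eq_of_le_of_card_ge (cj_le_iff.2 ?_) (card_cj _ _).ge)
    rintro k ⟨⟨hkW, hkc⟩, hkY⟩
    refine mem_inf.2 ⟨⟨mul_mem (mul_mem (hYW hg) hkW) (inv_mem (hYW hg)), fun v hv => ?_⟩,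
      mul_mem (mul_mem hg hkY) (inv_mem hg)⟩
    rw [show ⁅v, g * k * g⁻¹⁆ = g * ⁅g⁻¹ * v * g, k⁆ * g⁻¹ by group]
    exact conj_mem_of_mem_normalizer (hYW hg) (hkc _ (conj_mem_of_mem_normalizer' hg.1 hv))
  have hxY : x ∈ Y := ⟨hxE, mem_centralizer_singleton_iff.2 (mul_inv_eq_iff_eq_mul.1 (hxZ c hc))⟩
  have hxK : x ∈ K := by
    refine ⟨⟨hYW hxY, fun v hv => ?_⟩, hxY⟩
    rw [show ⁅v, x⁆ = v * (x * v * x⁻¹)⁻¹ by group]
    rcases sh.cases₁ h1 h1' hv with hz | hz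
    · rw [hxZ v hz, mul_inv_cancel]; exact one_mem _
    · have e : x * v * x⁻¹ = v * c := by
        calc x * v * x⁻¹ = (x * (v * e₁) * x⁻¹) * (x * e₁ * x⁻¹)⁻¹ := by group
          _ = v * e₁ * (e₁ * c)⁻¹ := by rw [hxZ _ hz, hx]
          _ = v * e₁ * (c * e₁) := by
            rw [mul_inv_rev, inv_of_el sh.el₁ hc.1, inv_of_el sh.el₁ h1]
          _ = v * (e₁ * e₁) * c := by
            rw [isElementaryAbelian_comm sh.el₁ hc.1 h1]; group
          _ = v * c := by rw [sq_of_el sh.el₁ h1, mul_one]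
      rw [e, show v * (v * c)⁻¹ = v * c⁻¹ * v⁻¹ by group, inv_eq_of_mul_eq_one_right hc2,
        isElementaryAbelian_comm sh.el₁ hv hc.1, mul_inv_cancel_right]
      exact mem_zpowers c
  -- a Sylow subgroup of `K` acts as all of `K`
  obtain ⟨U, hU, hBU⟩ := exists_sylIn_ge hp.f₁.two hBY
  obtain ⟨S, hUS⟩ := hU.isPGroup.exists_le_sylow
  have hZS : Zc (S : Subgroup G) ≤ Zz :=
    (hp.f₁.Zc_le S (hBU.trans hUS)).trans sh.centre.le
  have hUK := hU.inf_normal (N := K) inf_le_right hKn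
  have hfix : ∀ k ∈ K, ∀ v ∈ Zc (S : Subgroup G), k * v * k⁻¹ = v := by
    intro k hk v hv
    have hvE : v ∈ E := (hZS hv).1
    obtain ⟨s, m, hm, hord⟩ := Nat.exists_eq_pow_mul_and_not_dvd (orderOf_pos k).ne' 2 (by norm_num)
    have hk' : k ^ m ∈ K := pow_mem hk m
    have hp' : IsPGroup 2 (zpowers (k ^ m)) := IsPGroup.iff_card.2 (by
      rw [Nat.card_zpowers, orderOf_pow' _ (by rintro rfl; simp at hm), hord,
        Nat.gcd_eq_right (dvd_mul_left m _), Nat.mul_div_cancel _ (Nat.pos_of_ne_zero (by rintro rfl; simp at hm))]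
      exact ⟨s, rfl⟩)
    obtain ⟨a, haK, hle⟩ := hUK.exists_conj hp' (zpowers_le.2 hk')
    have hu : a * k ^ m * a⁻¹ ∈ U := (hle (conj_mem_cj.2 (mem_zpowers _))).1
    have hcomm : a * k ^ m * a⁻¹ * v = v * (a * k ^ m * a⁻¹) :=
      mem_centralizer_iff.1 (Zc_le _ hv).2 _ (hUS hu)
    rcases hact k hk v hvE with hh | hh
    · exact hh
    -- then `k ^ m` moves `v` as well
    exfalso
    have hkm : ∀ j : ℕ, k ^ j * v * (k ^ j)⁻¹ = if Even j then v else v * c := by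
      intro j
      induction j with
      | zero => simp
      | succ j ih =>
        rw [pow_succ', show k * k ^ j * v * (k * k ^ j)⁻¹ = k * (k ^ j * v * (k ^ j)⁻¹) * k⁻¹ by group, ih]
        by_cases hj : Even j
        · rw [if_pos hj, if_neg (Nat.not_even_iff_odd.2 hj.add_one)]; exact hh
        · rw [if_neg hj, if_pos (Nat.not_even_iff_odd.1 hj).add_one,
            show k * (v * c) * k⁻¹ = (k * v * k⁻¹) * (k * c * k⁻¹) by group, hh, hfixc k hk, mul_assoc,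
            hc2, mul_one]
    have hmo : ¬ Even m := fun he => hm (even_iff_two_dvd.1 he)
    have h3 := hkm m
    rw [if_neg hmo] at h3
    have hva : a⁻¹ * v * a = v ∨ a⁻¹ * v * a = v * c := by
      have := hact a⁻¹ (inv_mem haK) v hvE
      simpa using this
    have h4 : k ^ m * (a⁻¹ * v * a) * (k ^ m)⁻¹ = a⁻¹ * v * a := by
      calc k ^ m * (a⁻¹ * v * a) * (k ^ m)⁻¹ = a⁻¹ * (a * k ^ m * a⁻¹ * v) * (a * (k ^ m)⁻¹) := by group
        _ = a⁻¹ * (v * (a * k ^ m * a⁻¹)) * (a * (k ^ m)⁻¹) := by rw [hcomm]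
        _ = _ := by group
    have hcm : k ^ m * c * (k ^ m)⁻¹ = c := hfixc _ hk'
    rcases hva with e | e <;> rw [e] at h4
    · rw [h3] at h4
      exact hc1 (mul_eq_left.1 h4)
    · rw [show k ^ m * (v * c) * (k ^ m)⁻¹ = (k ^ m * v * (k ^ m)⁻¹) * (k ^ m * c * (k ^ m)⁻¹) by group,
        h3, hcm] at h4
      exact hc1 (mul_eq_left.1 h4)
  obtain ⟨y, hy, hyB, -⟩ := hp.exists_three
  refine hp.f₁.not_le_centralizer_Zc h S (hBU.trans hUS) ?_
  suffices hle : Zc (S : Subgroup G) ≤ W from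
    (le_centralizer_iff.1 (zpowers_le.2 hcP)).trans (centralizer_le hle)
  intro v hv
  have hvZ := hZS hv
  have hyK : y⁻¹ * x * y ∈ K := by
    have := conj_mem_of_mem_normalizer (hKn (inv_mem (hPY hy))) hxK
    simpa using this
  have hv' : x * (y * v * y⁻¹) * x⁻¹ = y * v * y⁻¹ := by
    have := hfix _ hyK v hv
    calc x * (y * v * y⁻¹) * x⁻¹ = y * (y⁻¹ * x * y * v * (y⁻¹ * x * y)⁻¹) * y⁻¹ := by group
      _ = _ := by rw [this]
  have hyvE : y * v * y⁻¹ ∈ E := conj_mem_of_mem_normalizer (le_normalizer_pCoreOf' P₁ hy) hvZ.1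
  have hyv : y * v * y⁻¹ ∈ Zz := by
    refine (sh.cases₁ h1 h1' hyvE).resolve_right fun hz => hc1 ?_
    have h5 := hxZ _ hz
    rw [show x * (y * v * y⁻¹ * e₁) * x⁻¹ = (x * (y * v * y⁻¹) * x⁻¹) * (x * e₁ * x⁻¹) by group,
      hv', hx, ← mul_assoc] at h5
    exact mul_eq_left.1 h5
  by_contra hvW
  -- otherwise `y` normalises `Z(B)`
  have hgenZ : Zz = W ⊔ zpowers v := by
    refine (Subgroup.eq_of_le_of_card_ge (sup_le (zpowers_le.2 hc) (zpowers_le.2 hvZ)) ?_).symm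
    have hlt : W < W ⊔ zpowers v :=
      lt_of_le_of_ne le_sup_left fun e => hvW (e.ge (mem_sup_right (mem_zpowers v)))
    obtain ⟨j, hj⟩ := card_dvd_of_le hlt.le
    have hlt' := card_lt_of_lt hlt
    have hW : Nat.card W = 2 := by
      rw [Nat.card_zpowers]; exact orderOf_eq_prime (by rw [sq, hc2]) hc1
    have h44 : Nat.card ↥(E ⊓ E₂) = 2 ∨ Nat.card ↥(E ⊓ E₂) = 4 := sh.cardZ
    rw [hW] at hj hlt'
    show Nat.card ↥(E ⊓ E₂) ≤ Nat.card ↥(W ⊔ zpowers v)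
    omega
  have hyZ : y ∈ normalizer ((Zz : Subgroup G) : Set G) := by
    refine mem_normalizer_iff_cj.2 (Subgroup.eq_of_le_of_card_ge ?_ (card_cj _ _).ge)
    conv_lhs => rw [hgenZ]
    rw [cj, Subgroup.map_sup, MonoidHom.map_zpowers, MonoidHom.map_zpowers]
    refine sup_le (zpowers_le.2 ?_) (zpowers_le.2 hyv)
    show y * c * y⁻¹ ∈ Zz
    rw [mem_centralizer_iff.1 hcP y hy, mul_inv_cancel_right]
    exact hc
  have hPZ : P₁ ≤ normalizer ((Zz : Subgroup G) : Set G) := by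
    have hBn : B ≤ normalizer ((Zz : Subgroup G) : Set G) :=
      CfsgLib.Coprime.le_normalizer_inf_inf (sh.le_normalizer₁ hp) (sh.symm.le_normalizer₁ hp.symm)
    rcases hp.amal.s₁.between (le_inf hp.f₁.le hBn) inf_le_left with e | e
    · exact absurd (e.le ⟨hy, hyZ⟩) hyB
    · exact e.ge.trans inf_le_right
  have hPC := hp.amal.s₁.central_of_normal (sh.centre.ge.trans inf_le_right) hPZ
  obtain ⟨z, hz, -, hzc, g, hg, hgz⟩ := hp.amal.s₁.moves
  exact hgz (mem_centralizer_iff.1 (hPC hg) z (sh.centre.le ⟨hz, mem_centralizer_iff.2 hzc⟩)).symm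

/-- `N(B) ⊓ N(E₁) ≤ B C(E₁)`. -/
theorem Pair.exists_mul (h : Hyp G) (hp : Pair B P₁ P₂) (sh : Shape B P₁ P₂) {x : G}
    (hxB : x ∈ normalizer (B : Set G)) (hxE : x ∈ normalizer ((E₁ : Subgroup G) : Set G)) :
    ∃ b ∈ B, b * x ∈ centralizer ((E₁ : Subgroup G) : Set G) := by
  obtain ⟨e₁, h1, h1'⟩ := sh.exists_elt
  obtain ⟨e₂, h2, h2'⟩ := sh.symm.exists_elt
  obtain ⟨hzZ, hz1⟩ := sh.comm_facts hp h1 h1' h2 h2'
  have hfix := hp.fix_Z h sh hxB hxE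
  have key : ∀ b ∈ B, b * x * e₁ * (b * x)⁻¹ = e₁ → b * x ∈ centralizer ((E₁ : Subgroup G) : Set G) := by
    intro b hb he
    refine mem_centralizer_iff.2 fun v hv => ?_
    have hZfix : ∀ w ∈ Zz, b * x * w * (b * x)⁻¹ = w := fun w hw => by
      rw [show b * x * w * (b * x)⁻¹ = b * (x * w * x⁻¹) * b⁻¹ by group, hfix w hw, sh.commute_Z hw hb,
        mul_inv_cancel_right]
    have hv2 : b * x * v * (b * x)⁻¹ = v := by
      rcases sh.cases₁ h1 h1' hv with hz | hz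
      · exact hZfix v hz
      · calc b * x * v * (b * x)⁻¹ = (b * x * (v * e₁) * (b * x)⁻¹) * (b * x * e₁ * (b * x)⁻¹)⁻¹ := by group
          _ = v * e₁ * e₁⁻¹ := by rw [hZfix _ hz, he]
          _ = v := by group
    exact (mul_inv_eq_iff_eq_mul.1 hv2).symm
  set w := e₁ * (x * e₁ * x⁻¹) with hw
  have hxe : x * e₁ * x⁻¹ = e₁ * w := by rw [hw, ← mul_assoc, sq_of_el sh.el₁ h1, one_mul]
  have hwE : w ∈ E₁ := mul_mem h1 (conj_mem_of_mem_normalizer hxE h1)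
  have hwZ : w ∈ Zz := by
    refine (sh.cases₁ h1 h1' hwE).resolve_right fun hz => h1' ?_
    have h3 : x * e₁ * x⁻¹ ∈ Zz := by
      rw [hw, isElementaryAbelian_comm sh.el₁ h1 (conj_mem_of_mem_normalizer hxE h1), mul_assoc,
        sq_of_el sh.el₁ h1, mul_one] at hz
      exact hz
    have := hfix _ h3
    have h5 : x * e₁ * x⁻¹ = e₁ := (MulAut.conj x).injective
      (show MulAut.conj x (x * e₁ * x⁻¹) = MulAut.conj x e₁ from this)
    exact (h5 ▸ h3 : e₁ ∈ Zz).2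
  set z := ⁅e₁, e₂⁆ with hz
  have he₂ : e₂ * e₁ * e₂⁻¹ = e₁ * z := by
    rw [hz, commutatorElement_def, inv_of_el sh.el₁ h1, inv_of_el sh.el₂ h2, ← mul_assoc, ← mul_assoc,
      ← mul_assoc, sq_of_el sh.el₁ h1, one_mul]
  have hmove : ∀ w' ∈ Zz, x * e₁ * x⁻¹ = e₁ * w' → e₂ * x * e₁ * (e₂ * x)⁻¹ = e₁ * (z * w') := by
    intro w' hw' e
    rw [show e₂ * x * e₁ * (e₂ * x)⁻¹ = e₂ * (x * e₁ * x⁻¹) * e₂⁻¹ by group, e,
      show e₂ * (e₁ * w') * e₂⁻¹ = (e₂ * e₁ * e₂⁻¹) * (e₂ * w' * e₂⁻¹) by group, he₂,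
      sh.commute_Z hw' (sh.le₂ h2), mul_inv_cancel_right, mul_assoc]
  by_cases hw1 : w = 1
  · exact ⟨1, one_mem _, key 1 (one_mem _) (by rw [one_mul, hxe, hw1, mul_one])⟩
  by_cases hwz : w = z
  · refine ⟨e₂, sh.le₂ h2, key e₂ (sh.le₂ h2) ?_⟩
    rw [hmove w hwZ hxe, hwz, sq_of_el sh.el₁ hzZ.1, mul_one]
  exfalso
  rcases sh.cardZ with h4 | h4
  · rcases eq_of_card_two h4 hwZ hzZ hz1 with e | e
    · exact hw1 e
    · exact hwz e
  obtain ⟨c₁, hc₁, hc₁1, hc₁P⟩ := hp.fix_ne sh h4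
  obtain ⟨c₂, hc₂, hc₂1, hc₂P⟩ : ∃ c ∈ Zz, c ≠ 1 ∧ c ∈ centralizer (P₂ : Set G) := by
    rw [inf_comm] at h4 ⊢; exact hp.symm.fix_ne sh.symm h4
  obtain ⟨hall, -, -, -, hprod⟩ := hp.Z_cases sh h4 h1 h1' h2 h2' hc₁ hc₁1 hc₁P hc₂ hc₂1 hc₂P
  rcases hall w hwZ with e | e | e | e
  · exact hw1 e
  · exact hwz e
  · exact hp.no_transvection h sh hxE hfix h1 h1' hc₁ hc₁1 hc₁P (e ▸ hxe)
  · refine hp.no_transvection h sh (mul_mem (sh.le_normalizer₁ hp (sh.le₂ h2)) hxE) (fun v hv => ?_)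
      h1 h1' hc₁ hc₁1 hc₁P (x := e₂ * x) ?_
    · rw [show e₂ * x * v * (e₂ * x)⁻¹ = e₂ * (x * v * x⁻¹) * e₂⁻¹ by group, hfix v hv,
        sh.commute_Z hv (sh.le₂ h2), mul_inv_cancel_right]
    · rw [hmove c₂ hc₂ (e ▸ hxe), show z = c₁ * c₂ from hprod, mul_assoc c₁, sq_of_el sh.el₁ hc₂.1, mul_one]

/-- At the highest level `B` is the Sylow subgroup of the normalizers of the cores. -/
theorem Pair.sylow_cores (h : Hyp G) (hp : Pair B P₁ P₂) (sh : Shape B P₁ P₂) (hg : Good G (nu B)) :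
    SylIn 2 B (normalizer ((E₁ : Subgroup G) : Set G)) ∧
      SylIn 2 B (normalizer (B : Set G) ⊓ normalizer ((E₁ : Subgroup G) : Set G)) := by
  haveI : Fact (Nat.Prime 2) := ⟨Nat.prime_two⟩
  set N := normalizer (B : Set G) ⊓ normalizer ((E₁ : Subgroup G) : Set G) with hN
  have hne : E₁ ≠ E₂ := fun e => by
    obtain ⟨a, ha, ha'⟩ := sh.exists_elt
    exact ha' (e ▸ ha)
  have hN2 : normalizer (B : Set G) ⊓ normalizer ((E₂ : Subgroup G) : Set G) = N := by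
    ext x
    constructor <;> rintro ⟨hx, hx'⟩ <;> refine ⟨hx, ?_⟩ <;>
      rcases sh.permute hx with ⟨ea, eb⟩ | ⟨ea, eb⟩
    · exact mem_normalizer_iff_cj.2 ea
    · exact absurd ((mem_normalizer_iff_cj.1 hx').symm.trans eb) hne.symm
    · exact mem_normalizer_iff_cj.2 eb
    · exact absurd ((mem_normalizer_iff_cj.1 hx').symm.trans ea) hne
  have hBN : B ≤ N := le_inf le_normalizer (sh.le_normalizer₁ hp)
  obtain ⟨T, hT, hBT⟩ := exists_sylIn_ge hp.f₁.two hBN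
  have hE₁p : IsPGroup 2 ↥(E₁) := isPGroup_of_isElementaryAbelian sh.el₁
  have hE₂p : IsPGroup 2 ↥(E₂) := isPGroup_of_isElementaryAbelian sh.el₂
  have hloc₁ : IsTwoLocal (normalizer ((E₁ : Subgroup G) : Set G)) := ⟨_, hE₁p, sh.ne_bot₁, rfl⟩
  have hloc₂ : IsTwoLocal (normalizer ((E₂ : Subgroup G) : Set G)) := ⟨_, hE₂p, sh.symm.ne_bot₁, rfl⟩
  have hn : nu (⊥ : Subgroup G) ≤ nu B := (nu_mono bot_le).1
  have hnu : nu B = nu T := by
    refine le_antisymm (nu_mono hBT).1 (not_lt.1 fun hlt => ?_)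
    obtain ⟨U₁, hU₁, hTU₁⟩ := exists_sylIn_ge hT.isPGroup (hT.le.trans inf_le_right)
    obtain ⟨U₂, hU₂, hTU₂⟩ := exists_sylIn_ge hT.isPGroup ((hT.le.trans hN2.ge).trans inf_le_right)
    obtain ⟨S₁, hS₁⟩ := hU₁.isPGroup.exists_le_sylow
    obtain ⟨S₂, hS₂⟩ := hU₂.isPGroup.exists_le_sylow
    obtain ⟨M₁, hM₁⟩ := exists_top h hg hn S₁ (lt_of_lt_of_le hlt (nu_mono (hTU₁.trans hS₁)).1)
    obtain ⟨M₂, hM₂⟩ := exists_top h hg hn S₂ (lt_of_lt_of_le hlt (nu_mono (hTU₂.trans hS₂)).1)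
    have he : M₁ = M₂ := top_eq h hg hn hM₁ hM₂
      (lt_of_lt_of_le hlt (nu_mono (le_inf (hTU₁.trans hS₁) (hTU₂.trans hS₂))).1)
    refine hp.not_local h hM₁.isLocal ?_ ?_
    · exact (le_normalizer_pCoreOf' P₁).trans
        (local_le_top h hg hn hloc₁ hU₁ hS₁ (lt_of_lt_of_le hlt (nu_mono hTU₁).1) hM₁)
    · exact he ▸ (le_normalizer_pCoreOf' P₂).trans
        (local_le_top h hg hn hloc₂ hU₂ hS₂ (lt_of_lt_of_le hlt (nu_mono hTU₂).1) hM₂)
  have hJT : Js T = B := (Js_congr ((nu_mono hBT).2 hnu)).trans sh.Js_eq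
  have hTB : normalizer (T : Set G) ≤ normalizer (B : Set G) := by
    have := normalizer_le_normalizer_Js T
    rwa [hJT] at this
  have hsyl : ∀ (E : Subgroup G), T ≤ normalizer (E : Set G) →
      normalizer (B : Set G) ⊓ normalizer (E : Set G) = N → SylIn 2 T (normalizer (E : Set G)) := by
    intro E hTE hE
    obtain ⟨U, hU, hTU⟩ := exists_sylIn_ge hT.isPGroup hTE
    rcases hTU.eq_or_lt with e | hlt
    · exact e ▸ hU
    exfalso
    have h2 := lt_inf_normalizer' hU.isPGroup hlt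
    refine h2.ne (hT.eq_of_le (hU.isPGroup.to_le inf_le_left) h2.le ?_).symm
    exact hE ▸ le_inf (inf_le_right.trans hTB) (inf_le_left.trans hU.le)
  have hT₁ := hsyl (E₁) (hT.le.trans inf_le_right) rfl
  have hT₂ := hsyl (E₂) ((hT.le.trans hN2.ge).trans inf_le_right) hN2
  -- the second amalgam
  obtain ⟨S, hTS⟩ := hT.isPGroup.exists_le_sylow
  have hside : ∀ (P P' : Subgroup G), Pair B P P' → Shape B P P' →
      SylIn 2 T (normalizer ((pCoreOf 2 P : Subgroup G) : Set G)) →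
      T ≤ normalizer (B : Set G) →
      Side T (P ⊔ (T ⊓ centralizer ((pCoreOf 2 P : Subgroup G) : Set G))) := by
    intro P P' hp' sh' hT' hTB'
    set E := pCoreOf 2 P
    set C := centralizer (E : Set G) with hC
    set R := T ⊓ C
    have hCN : C ≤ normalizer (E : Set G) := centralizer_le_normalizer _
    have hNC : normalizer (E : Set G) ≤ normalizer (C : Set G) :=
      CfsgLib.Coprime.le_normalizer_centralizer le_rfl
    have hRs : SylIn 2 R C := hT'.inf_normal hCN hNC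
    have hCR : C ≤ normalizer (R : Set G) := by
      have hTeq : (S : Subgroup G) ⊓ normalizer (E : Set G) = T := sylIn_inf S hT' hTS
      have hReq : R = (S : Subgroup G) ⊓ C := by
        show T ⊓ C = _
        rw [← hTeq, inf_assoc, inf_eq_right.2 hCN]
      rw [hReq]
      refine CfsgLib.Coprime.le_normalizer_inf_inf ?_ le_normalizer
      refine (centralizer_le ?_).trans (h.cz S)
      exact SetLike.coe_subset_coe.2 ((hp'.f₁.Zc_le S (hBT.trans hTS)).trans (sh'.centre.le.trans inf_le_left))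
    have hNR : normalizer (E : Set G) ≤ normalizer (R : Set G) := by
      intro g hg
      refine mem_normalizer_iff_cj.2 (Subgroup.eq_of_le_of_card_ge ?_ (card_cj _ _).ge)
      refine mem_le_of_normalizes hRs hCR (isPGroup_cj hRs.isPGroup) ?_
      conv_rhs => rw [← mem_normalizer_iff_cj.1 (hNC hg)]
      exact cj_mono inf_le_right
    have hPR : P ≤ normalizer (R : Set G) := (le_normalizer_pCoreOf' P).trans hNR
    have hTBR : T = B ⊔ R := by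
      refine le_antisymm (fun x hx => ?_) (sup_le hBT inf_le_left)
      obtain ⟨b, hb, hbx⟩ := hp'.exists_mul h sh' (hTB' hx) (hT'.le hx)
      rw [show x = b⁻¹ * (b * x) by group]
      exact mul_mem (mem_sup_left (inv_mem hb)) (mem_sup_right ⟨mul_mem (hBT hb) hx, hbx⟩)
    have hPinf : P ⊓ R = E := by
      refine le_antisymm (fun x hx => hp'.amal.s₁.centralizer_core ⟨hx.1, hx.2.2⟩) ?_
      exact le_inf (map_subtype_le _) (le_inf (sh'.le₁.trans hBT) (le_centralizer_self sh'.el₁))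
    have hBinf : B ⊓ R = E := by
      refine le_antisymm ((inf_le_inf_right _ hp'.f₁.le).trans hPinf.le) ?_
      exact le_inf sh'.le₁ (hPinf.ge.trans inf_le_right)
    have h1 := CfsgLib.PLocal.card_sup_mul_card_inf P R hPR
    have h2 := CfsgLib.PLocal.card_sup_mul_card_inf B R (hp'.f₁.le.trans hPR)
    rw [hPinf, hp'.f₁.card] at h1
    rw [hBinf, ← hTBR] at h2
    refine ⟨hT.isPGroup, hTBR.le.trans (sup_le_sup_right hp'.f₁.le R), ?_, fun hle => ?_,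
      ⟨R, inf_le_left, sup_le hPR le_normalizer, ?_⟩, ?_⟩
    · refine Nat.eq_of_mul_eq_mul_right (Nat.card_pos (α := E)) ?_
      rw [h1, mul_assoc 3 _ (Nat.card E), h2]; ring
    · exact hp'.amal.s₁.nn ((le_sup_left.trans hle).trans hTB)
    · rintro x ⟨hx, hxR⟩
      obtain ⟨p, hpP, r, hr, rfl⟩ := (CfsgLib.Coprime.mem_sup_iff_of_le_normalizer hPR).1 hx
      have hER : E ≤ R := hPinf.ge.trans inf_le_right
      have hpC : p ∈ C := by
        have h3 := mul_mem (centralizer_le (SetLike.coe_subset_coe.2 hER) hxR : p * r ∈ C) (inv_mem hr.2)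
        rwa [mul_inv_cancel_right] at h3
      exact mul_mem (hER (hp'.amal.s₁.centralizer_core ⟨hpP, hpC⟩)) hr
    · obtain ⟨z, hz, hz2, hzc, g, hg, hgz⟩ := hp'.amal.s₁.moves
      refine ⟨z, hBT hz, hz2, fun t ht => ?_, g, mem_sup_left hg, hgz⟩
      exact mul_inv_eq_iff_eq_mul.1
        (hp'.fix_Z h sh' (hTB' ht) (hT'.le ht) z (sh'.centre.le ⟨hz, mem_centralizer_iff.2 hzc⟩))
  have hTnB : T ≤ normalizer (B : Set G) := le_normalizer.trans hTB
  have hs₁ := hside P₁ P₂ hp sh hT₁ hTnB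
  have hs₂ := hside P₂ P₁ hp.symm sh.symm hT₂ hTnB
  have hamal : Amal T _ _ := ⟨hs₁, hs₂, fun R hR h1 h2 => by_contra fun hR1 => hp.not_local h
    ⟨R, hT.isPGroup.to_le hR, hR1, rfl⟩ (le_sup_left.trans h1) (le_sup_left.trans h2)⟩
  have hTeq : T = B := hamal.shape.Js_eq.symm.trans hJT
  exact ⟨hTeq ▸ hT₁, hTeq ▸ hT⟩

/-- The cores are self-centralising. -/
theorem Pair.centralizer_core_le (h : Hyp G) (hp : Pair B P₁ P₂) (sh : Shape B P₁ P₂) (hg : Good G (nu B)) :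
    centralizer ((E₁ : Subgroup G) : Set G) ≤ E₁ := by
  haveI : Fact (Nat.Prime 2) := ⟨Nat.prime_two⟩
  obtain ⟨hsyl, -⟩ := hp.sylow_cores h sh hg
  set X := normalizer ((E₁ : Subgroup G) : Set G) with hX
  have hloc : IsTwoLocal X := ⟨_, isPGroup_of_isElementaryAbelian sh.el₁, sh.ne_bot₁, rfl⟩
  have hPX : P₁ ≤ X := le_normalizer_pCoreOf' P₁
  have hO := hsyl.le_of_normal (isPGroup_pCoreOf' X) (map_subtype_le _) (le_normalizer_pCoreOf' X)
  have hOE : pCoreOf 2 X ≤ E₁ := le_pCoreOf (isPGroup_pCoreOf' X) (hO.trans hp.f₁.le)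
    (hPX.trans (le_normalizer_pCoreOf' X))
  exact fun x hx => hOE (local_centralizer_core h hloc ⟨centralizer_le_normalizer _ hx,
    centralizer_le (SetLike.coe_subset_coe.2 hOE) hx⟩)

end CfsgLib.LocalEven.SolvTwo
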