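import Mathlib
import Cfsg.Agent.Lib.Base.Cores

/-!
Subgroups of index three, and pairs of involutions generating `S₃` over a central kernel of odd
order.
-/

set_option autoImplicit false
set_option linter.unusedSectionVars false
set_option linter.style.haveILetI false

namespace CfsgLib.LocalEven.SolvTwo

open Subgroup Cfsg

theorem perm_three_involutions : ∀ x y : Equiv.Perm (Fin 3), x * x = 1 → y * y = 1 → x ≠ 1 → y ≠ 1 →
    x ≠ y → (x * y) * ((x * y) * (x * y)) = 1 ∧
    (∀ g : Equiv.Perm (Fin 3), g = 1 ∨ g = x ∨ g = y ∨ g = x * y ∨ g = y * x ∨ g = x * y * x) ∧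
    x * y ≠ 1 ∧ y * x ≠ 1 ∧ x * y * x ≠ 1 ∧ (x * y) * (x * y) ≠ 1 ∧ (y * x) * (y * x) ≠ 1 := by
  decide

variable {P : Type*} [Group P] [Finite P]

/-- A `2`-subgroup of index three which is not normal gives `P/O₂(P) ≅ S₃`. -/
theorem quotient_pCore_equiv (B : Subgroup P) (hB : IsPGroup 2 B) (hi : B.index = 3) (hn : ¬ B.Normal) :
    Nonempty (P ⧸ pCore 2 P ≃* Equiv.Perm (Fin 3)) ∧ pCore 2 P = B.normalCore := by
  classical
  haveI : Fact (Nat.Prime 2) := ⟨Nat.prime_two⟩
  have hc : Nat.card (P ⧸ B) = 3 := hi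
  obtain ⟨e⟩ : Nonempty (P ⧸ B ≃ Fin 3) :=
    ⟨(Finite.equivFinOfCardEq hc)⟩
  set φ : P →* Equiv.Perm (Fin 3) := e.permCongrHom.toMonoidHom.comp (MulAction.toPermHom P (P ⧸ B))
  have hker : φ.ker = B.normalCore := by
    rw [normalCore_eq_ker]
    exact MonoidHom.ker_mulEquiv_comp (MulAction.toPermHom P (P ⧸ B)) e.permCongrHom
  -- the image has order six
  have hdvd : φ.range.index * Nat.card φ.range = 6 := by
    rw [mul_comm, Subgroup.card_mul_index, Nat.card_perm, Nat.card_fin]; rfl
  have hidx : B.normalCore.index = Nat.card φ.range := by rw [← hker, index_ker]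
  have h1 := Subgroup.relIndex_mul_index (normalCore_le B)
  rw [hi, hidx] at h1
  have hne : B.normalCore.relIndex B ≠ 1 := fun h => hn (by
    rw [relIndex_eq_one] at h
    rw [le_antisymm h (normalCore_le B)]
    exact normalCore_normal B)
  have hr6 : Nat.card φ.range = 6 := by
    have hle : Nat.card φ.range ≤ 6 := Nat.le_of_dvd (by norm_num) ⟨φ.range.index, by rw [← hdvd, mul_comm]⟩
    have h0 : 0 < Nat.card φ.range := Nat.card_pos
    have hd : Nat.card φ.range ∣ 6 := ⟨φ.range.index, by rw [← hdvd, mul_comm]⟩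
    rcases Nat.lt_or_ge (B.normalCore.relIndex B) 2 with h | h
    · omega
    · omega
  have hsurj : Function.Surjective φ := by
    rw [← MonoidHom.range_eq_top, ← Subgroup.card_eq_iff_eq_top, hr6, Nat.card_perm, Nat.card_fin]; rfl
  set q := QuotientGroup.quotientKerEquivOfSurjective φ hsurj
  have hcore : pCore 2 P = φ.ker := by
    haveI := pCore_normal 2 P
    refine le_antisymm ?_ ?_
    · rw [hker]
      refine normal_le_normalCore.2 ?_
      have hp : IsPGroup 2 ↥(B ⊔ pCore 2 P) :=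
        hB.to_sup_of_normal_right (CfsgLib.Base.isPGroup_pCore 2 P)
      have h2 := Subgroup.relIndex_mul_index (le_sup_left : B ≤ B ⊔ pCore 2 P)
      rw [hi] at h2
      rcases (Nat.prime_three.eq_one_or_self_of_dvd _ (Dvd.intro _ h2)) with h | h
      · rw [relIndex_eq_one] at h
        exact le_sup_right.trans h
      · exfalso
        obtain ⟨n, hn3⟩ := hp.index (B.subgroupOf (B ⊔ pCore 2 P))
        rw [show (B.subgroupOf (B ⊔ pCore 2 P)).index = 3 from h] at hn3
        have h3 : 3 ∣ 2 := Nat.prime_three.dvd_of_dvd_pow (dvd_of_eq hn3)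
        norm_num at h3
    · haveI : φ.ker.Normal := φ.normal_ker
      exact CfsgLib.Base.le_pCore (hB.to_le (hker ▸ normalCore_le B))
  exact ⟨⟨(QuotientGroup.quotientMulEquivOfEq hcore).trans q⟩, hcore.trans hker⟩

variable {X H : Type*} [Group X] [Group H] [Finite X]

/-- Over a kernel of odd order which is central for the data, an involution conjugate under the
image meets the kernel trivially. -/
theorem pair_inf_ker (φ : X →* H) {Bh : Subgroup X} (hB : IsPGroup 2 Bh) {α α' : X} (hα : α ∈ Bh)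
    (hα2 : α * α = 1) (hα'2 : α' * α' = 1) (hodd : Odd (Nat.card φ.ker))
    (hcen : ∀ k ∈ φ.ker, ∀ y ∈ Bh ⊔ zpowers α', y * k = k * y) {E : Subgroup H} (e : E ≃* Equiv.Perm (Fin 3))
    (ha : φ α ∈ E) (ha' : φ α' ∈ E) (hne : φ α ≠ φ α') (ha1 : φ α ≠ 1) (ha'1 : φ α' ≠ 1)
    (hnorm : Bh.map φ ≤ normalizer (E : Set H)) :
    (Bh ⊔ zpowers α') ⊓ φ.ker = ⊥ ∧ (α * α') * α * (α * α')⁻¹ = α' := by
  haveI : Fact (Nat.Prime 2) := ⟨Nat.prime_two⟩
  set a : E := ⟨φ α, ha⟩
  set b : E := ⟨φ α', ha'⟩
  have ea2 : e a * e a = 1 := by rw [← map_mul, show a * a = 1 from Subtype.ext (by show φ α * φ α = 1; rw [← map_mul, hα2, map_one]), map_one]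
  have eb2 : e b * e b = 1 := by rw [← map_mul, show b * b = 1 from Subtype.ext (by show φ α' * φ α' = 1; rw [← map_mul, hα'2, map_one]), map_one]
  have ea1 : e a ≠ 1 := fun h => ha1 (congrArg Subtype.val (e.injective (h.trans (map_one e).symm)))
  have eb1 : e b ≠ 1 := fun h => ha'1 (congrArg Subtype.val (e.injective (h.trans (map_one e).symm)))
  have eab : e a ≠ e b := fun h => hne (congrArg Subtype.val (e.injective h))
  obtain ⟨hρ, hall, h1, h2, h3, h4, h5⟩ := perm_three_involutions _ _ ea2 eb2 ea1 eb1 eab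
  have img : ∀ {g : E}, e g = 1 → (g : H) = 1 := fun {g} h =>
    congrArg Subtype.val (e.injective (h.trans (map_one e).symm))
  -- odd kernel elements
  have hsq : ∀ k ∈ φ.ker, k * k = 1 → k = 1 := by
    intro k hk hk2
    have hd1 : orderOf k ∣ 2 := orderOf_dvd_of_pow_eq_one (by rw [sq, hk2])
    have hd2 : orderOf k ∣ Nat.card φ.ker := by
      have := orderOf_dvd_natCard (⟨k, hk⟩ : φ.ker)
      rwa [← Subgroup.orderOf_coe] at this
    have : orderOf k ∣ 1 := by
      have hc : Nat.gcd 2 (Nat.card φ.ker) = 1 := Nat.coprime_two_left.2 hodd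
      rw [← hc]; exact Nat.dvd_gcd hd1 hd2
    exact orderOf_eq_one_iff.1 (Nat.dvd_one.1 this)
  have hαP : α ∈ Bh ⊔ zpowers α' := mem_sup_left hα
  have hα'P : α' ∈ Bh ⊔ zpowers α' := mem_sup_right (mem_zpowers α')
  set r := α * α' with hr
  have hk3 : r * (r * r) ∈ φ.ker := by
    rw [MonoidHom.mem_ker]
    have := img (g := (a * b) * ((a * b) * (a * b))) (by simp only [map_mul]; exact hρ)
    simpa [a, b, r] using this
  have hρ3 : r * (r * r) = 1 := by
    refine hsq _ hk3 ?_
    have hinv : α * (r * (r * r)) * α⁻¹ = (r * (r * r))⁻¹ := by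
      have hαi : α⁻¹ = α := inv_eq_of_mul_eq_one_right hα2
      have hα'i : α'⁻¹ = α' := inv_eq_of_mul_eq_one_right hα'2
      simp only [hr, mul_inv_rev, hαi, hα'i, ← mul_assoc, hα2, one_mul]
    rw [hcen _ hk3 α hαP, mul_inv_cancel_right] at hinv
    exact mul_eq_one_iff_eq_inv.2 hinv
  have hαi : α⁻¹ = α := inv_eq_of_mul_eq_one_right hα2
  have hα'i : α'⁻¹ = α' := inv_eq_of_mul_eq_one_right hα'2
  have hbraid : α * α' * α = α' * α * α' := by
    have : α * α' * α = (α' * α * α')⁻¹ := by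
      refine eq_inv_of_mul_eq_one_left ?_
      calc α * α' * α * (α' * α * α') = r * (r * r) := by simp [hr, mul_assoc]
        _ = 1 := hρ3
    rw [this, mul_inv_rev, mul_inv_rev, hαi, hα'i, mul_assoc]
  refine ⟨?_, ?_⟩
  swap
  · rw [mul_inv_rev, hαi, hα'i]
    calc α * α' * α * (α' * α) = α' * α * α' * (α' * α) := by rw [hbraid]
      _ = α' * α * (α' * α') * α := by group
      _ = α' := by rw [hα'2, mul_one, mul_assoc, hα2, mul_one]
  -- the list of elements
  set L : List X := [1, α, α', α * α', α' * α, α * α' * α] with hL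
  set D := closure ({α, α'} : Set X) with hD
  have hαD : α ∈ D := subset_closure (by simp)
  have hα'D : α' ∈ D := subset_closure (by simp)
  have hDL : ∀ d ∈ D, d ∈ L := by
    intro d hd
    induction hd using closure_induction_left with
    | one => simp [hL]
    | mul_left x hx y _ ih =>
      simp only [hL, List.mem_cons, List.not_mem_nil, or_false] at ih ⊢
      rcases hx with rfl | rfl <;> rcases ih with rfl | rfl | rfl | rfl | rfl | rfl <;>
        simp [← mul_assoc, hα2, hα'2, hbraid] <;> simp [mul_assoc, hα2, hα'2]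
    | inv_mul_cancel x hx y _ ih =>
      simp only [hL, List.mem_cons, List.not_mem_nil, or_false] at ih ⊢
      rcases hx with rfl | rfl <;> rcases ih with rfl | rfl | rfl | rfl | rfl | rfl <;>
        simp [← mul_assoc, hαi, hα'i, hα2, hα'2, hbraid] <;> simp [mul_assoc, hα2, hα'2]
  have hLk : ∀ d ∈ D, φ d = 1 → d = 1 := by
    intro d hd h
    have hd' := hDL d hd
    simp only [hL, List.mem_cons, List.not_mem_nil, or_false] at hd'
    rcases hd' with rfl | rfl | rfl | rfl | rfl | rfl
    · rfl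
    · exact absurd h ha1
    · exact absurd h ha'1
    · exact absurd (show e (a * b) = 1 by
        rw [show a * b = 1 from Subtype.ext (by simpa [a, b] using h), map_one]) (by rw [map_mul]; exact h1)
    · exact absurd (show e (b * a) = 1 by
        rw [show b * a = 1 from Subtype.ext (by simpa [a, b] using h), map_one]) (by rw [map_mul]; exact h2)
    · exact absurd (show e (a * b * a) = 1 by
        rw [show a * b * a = 1 from Subtype.ext (by simpa [a, b] using h), map_one])
        (by rw [map_mul, map_mul]; exact h3)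
  -- `Bh` normalises `D`
  have hconj : ∀ β ∈ Bh, ∀ x ∈ ({α, α'} : Set X), β * x * β⁻¹ ∈ D := by
    intro β hβ x hx
    have hxP : x ∈ Bh ⊔ zpowers α' ∧ x * x = 1 ∧ φ x ∈ E ∧ φ x ≠ 1 := by
      rcases hx with rfl | rfl
      · exact ⟨hαP, hα2, ha, ha1⟩
      · exact ⟨hα'P, hα'2, ha', ha'1⟩
    obtain ⟨hxP, hx2, hxE, hx1⟩ := hxP
    have hy2 : β * x * β⁻¹ * (β * x * β⁻¹) = 1 := by
      rw [show β * x * β⁻¹ * (β * x * β⁻¹) = β * (x * x) * β⁻¹ by group, hx2]; group
    have hyE : φ (β * x * β⁻¹) ∈ E := by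
      rw [map_mul, map_mul, map_inv]
      exact (mem_normalizer_iff.1 (hnorm (mem_map_of_mem φ hβ)) _).1 hxE
    have hy1 : φ (β * x * β⁻¹) ≠ 1 := fun h => hx1 ((conj_eq_one_iff (a := φ β)).1 (by rw [← map_inv, ← map_mul, ← map_mul]; exact h))
    set g : E := ⟨_, hyE⟩
    have eg2 : e g * e g = 1 := by
      rw [← map_mul, show g * g = 1 from Subtype.ext (by
        show φ (β * x * β⁻¹) * φ (β * x * β⁻¹) = 1
        rw [← map_mul, hy2, map_one]), map_one]
    have eg1 : e g ≠ 1 := fun h => hy1 (img h)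
    obtain ⟨l, hlD, hl2, hl⟩ : ∃ l ∈ D, l * l = 1 ∧ φ l = φ (β * x * β⁻¹) := by
      rcases hall (e g) with h | h | h | h | h | h
      · exact absurd h eg1
      · exact ⟨α, hαD, hα2, (congrArg Subtype.val (e.injective h)).symm⟩
      · exact ⟨α', hα'D, hα'2, (congrArg Subtype.val (e.injective h)).symm⟩
      · exact absurd (h ▸ eg2) h4
      · exact absurd (h ▸ eg2) h5
      · refine ⟨α * α' * α, mul_mem (mul_mem hαD hα'D) hαD, ?_, ?_⟩
        · simp [mul_assoc, ← mul_assoc α α, hα2, ← mul_assoc α' α', hα'2]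
        · rw [← map_mul e, ← map_mul e] at h
          simpa [a, b, g] using (congrArg Subtype.val (e.injective h)).symm
    set c := β * x * β⁻¹ * l⁻¹ with hc
    have hck : c ∈ φ.ker := by rw [MonoidHom.mem_ker, hc, map_mul, map_inv, hl, mul_inv_cancel]
    have hyP : β * x * β⁻¹ ∈ Bh ⊔ zpowers α' :=
      mul_mem (mul_mem (mem_sup_left hβ) hxP) (inv_mem (mem_sup_left hβ))
    have hy : β * x * β⁻¹ = c * l := by rw [hc, inv_mul_cancel_right]
    have hc1 : c = 1 := by
      refine hsq c hck ?_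
      have hcy := hcen c hck _ hyP
      have hli : l⁻¹ = l := inv_eq_of_mul_eq_one_right hl2
      have hcl : Commute c l := by
        have : Commute c (c * l) := hy ▸ (show Commute c (β * x * β⁻¹) from hcy.symm)
        have h' := (Commute.refl c).inv_right.mul_right this
        rwa [inv_mul_cancel_left] at h'
      calc c * c = c * c * (l * l) := by rw [hl2, mul_one]
        _ = c * l * (c * l) := by rw [mul_assoc c l, ← mul_assoc l c, ← hcl.eq]; group
        _ = 1 := by rw [← hy, hy2]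
    rw [hy, hc1, one_mul]; exact hlD
  have hBD : Bh ≤ normalizer (D : Set X) := by
    intro β hβ
    refine mem_normalizer_iff.2 fun y => ⟨fun hy => ?_, fun hy => ?_⟩
    · induction hy using closure_induction with
      | mem z hz => exact hconj β hβ z hz
      | one => simp [one_mem]
      | mul u v _ _ hu hv => rw [show β * (u * v) * β⁻¹ = (β * u * β⁻¹) * (β * v * β⁻¹) by group]; exact mul_mem hu hv
      | inv u _ hu => rw [show β * u⁻¹ * β⁻¹ = (β * u * β⁻¹)⁻¹ by group]; exact inv_mem hu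
    · have key : ∀ w ∈ D, β⁻¹ * w * β ∈ D := by
        intro w hw
        induction hw using closure_induction with
        | mem z hz => simpa using hconj β⁻¹ (inv_mem hβ) z hz
        | one => simp [one_mem]
        | mul u v _ _ hu hv => rw [show β⁻¹ * (u * v) * β = (β⁻¹ * u * β) * (β⁻¹ * v * β) by group]; exact mul_mem hu hv
        | inv u _ hu => rw [show β⁻¹ * u⁻¹ * β = (β⁻¹ * u * β)⁻¹ by group]; exact inv_mem hu
      have := key _ hy
      rwa [show β⁻¹ * (β * y * β⁻¹) * β = y by group] at this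
  have hle : Bh ⊔ zpowers α' ≤ Bh ⊔ D := sup_le le_sup_left (le_sup_of_le_right (zpowers_le.2 hα'D))
  rw [eq_bot_iff]
  rintro y ⟨hy, hyk⟩
  have hy' := hle hy
  rw [← SetLike.mem_coe, Subgroup.coe_mul_of_left_le_normalizer_right _ _ hBD] at hy'
  obtain ⟨β, hβ, d, hd, rfl⟩ := hy'
  change β * d ∈ φ.ker at hyk
  change β * d ∈ (⊥ : Subgroup X)
  rw [MonoidHom.mem_ker, map_mul] at hyk
  -- the image of `d` is in the image of the `2`-group and in `E`
  have hdE : φ d ∈ E := by
    have hmap : D ≤ E.comap φ := (closure_le _).2 (by rintro z (rfl | rfl) <;> assumption)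
    exact hmap hd
  set Bi := Bh.map φ ⊓ E with hBi
  have hdB : φ d ∈ Bi := ⟨⟨β⁻¹, inv_mem hβ, by rw [map_inv]; exact (mul_eq_one_iff_inv_eq.1 hyk)⟩, hdE⟩
  have hαBi : φ α ∈ Bi := ⟨mem_map_of_mem φ hα, ha⟩
  have hBiP : IsPGroup 2 Bi := (hB.map φ).to_le inf_le_left
  haveI : Finite E := Finite.of_equiv _ e.symm.toEquiv
  haveI : Finite Bi := Finite.of_injective _ (Subgroup.inclusion_injective (inf_le_right : Bi ≤ E))
  have hBi2 : Nat.card Bi ≤ 2 := by
    obtain ⟨k, hk⟩ := IsPGroup.iff_card.1 hBiP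
    have hd : Nat.card Bi ∣ 6 := by
      have := Subgroup.card_dvd_of_le (inf_le_right : Bi ≤ E)
      rwa [Nat.card_congr e.toEquiv, Nat.card_perm, Nat.card_fin] at this
    rw [hk] at hd ⊢
    have : (2 ^ k).Coprime 3 := Nat.Coprime.pow_left k (by norm_num)
    exact Nat.le_of_dvd (by norm_num) (this.dvd_of_dvd_mul_right (show 2 ^ k ∣ 2 * 3 by simpa using hd))
  have hdcases : φ d = 1 ∨ φ d = φ α := by
    by_contra hno
    push Not at hno
    let g : Fin 3 → Bi := ![1, ⟨φ α, hαBi⟩, ⟨φ d, hdB⟩]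
    have hg : Function.Injective g := by
      intro i j hij
      have := congrArg Subtype.val hij
      fin_cases i <;> fin_cases j <;>
        simp [g, ha1, Ne.symm ha1, hno.1, Ne.symm hno.1, hno.2, Ne.symm hno.2] at this ⊢
    have : 3 ≤ Nat.card Bi := by simpa using Nat.card_le_card_of_injective g hg
    omega
  have hyB : β * d ∈ Bh := by
    rcases hdcases with h | h
    · rw [hLk d hd h, mul_one]; exact hβ
    · have : d * α⁻¹ = 1 := hLk _ (mul_mem hd (inv_mem hαD)) (by rw [map_mul, map_inv, h, mul_inv_cancel])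
      rw [mul_inv_eq_one.1 this]
      exact mul_mem hβ hα
  rw [mem_bot]
  have hk : β * d ∈ φ.ker := by rw [MonoidHom.mem_ker, map_mul]; exact hyk
  have hinf : Bh ⊓ φ.ker = ⊥ := CfsgLib.Base.inf_eq_bot_of_isPGroup_of_coprime hB
    (Nat.coprime_two_right.2 hodd)
  exact mem_bot.1 (hinf ▸ mem_inf.2 ⟨hyB, hk⟩)

end CfsgLib.LocalEven.SolvTwo
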