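import Cfsg.Agent.Lib.PLocal.AbelianFailure
import Cfsg.Agent.Lib.LocalEven.SolvTwo.Basic
import Cfsg.Agent.Lib.LocalEven.SolvTwo.SThree

/-!
A solvable group of characteristic two in which the centraliser of `Ω₁(Z(U))` normalises `U`:
the normal elementary abelian subgroup `N₀ ⊇ Zi U`, and generation by `N(J(U))` and subgroups
`P` with Sylow subgroup `U ⊓ C(Zi U)` of index three.
-/

set_option autoImplicit false
set_option linter.unusedSectionVars false
set_option linter.style.haveILetI false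

namespace CfsgLib.LocalEven.SolvTwo

open Subgroup Cfsg CfsgLib.PLocal CfsgLib.Techniques
open scoped commutatorElement

/-- `P` has the `2`-subgroup `B` of index three and is generated by it and a conjugate of an element
of a member of `EA B` outside `B`. -/
structure PreFac {G : Type*} [Group G] (B P : Subgroup G) : Prop where
  two : IsPGroup 2 B
  le : B ≤ P
  card : Nat.card P = 3 * Nat.card B
  core : ∃ R : Subgroup G, R ≤ B ∧ P ≤ normalizer (R : Set G) ∧ P ⊓ centralizer (R : Set G) ≤ R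
  moves : ∃ z ∈ B, z * z = 1 ∧ (∀ b ∈ B, b * z = z * b) ∧ ∃ g ∈ P, g * z ≠ z * g
  gen : ∃ h ∈ P, ∃ A ∈ EA B, ∃ a ∈ A, h * a * h⁻¹ ∉ B ∧ P = B ⊔ zpowers (h * a * h⁻¹)

theorem PreFac.map {G G' : Type*} [Group G] [Group G'] [Finite G] {f : G →* G'}
    (hf : Function.Injective f) {B P : Subgroup G} (h : PreFac B P) : PreFac (B.map f) (P.map f) := by
  obtain ⟨R, hRB, hPR, hC⟩ := h.core
  obtain ⟨z, hz, hz2, hzc, g, hg, hgz⟩ := h.moves
  obtain ⟨k, hk, A, hA, a, ha, hnot, hP⟩ := h.gen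
  refine ⟨h.two.map f, map_mono h.le, ?_, ⟨R.map f, map_mono hRB, ?_, ?_⟩,
    ⟨f z, mem_map_of_mem f hz, by rw [← map_mul, hz2, map_one], ?_, f g, mem_map_of_mem f hg, ?_⟩,
    ⟨f k, mem_map_of_mem f hk, A.map f, EA_map hf B ▸ ⟨A, hA, rfl⟩, f a, mem_map_of_mem f ha, ?_, ?_⟩⟩
  · rw [card_map_of_injective hf, card_map_of_injective hf, h.card]
  · exact (map_mono hPR).trans (le_normalizer_map f)
  · rintro _ ⟨⟨x, hx, rfl⟩, hc⟩
    refine mem_map_of_mem f (hC ⟨hx, mem_centralizer_iff.2 fun r hr => hf ?_⟩)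
    rw [map_mul, map_mul, mem_centralizer_iff.1 hc _ (mem_map_of_mem f hr)]
  · rintro _ ⟨b, hb, rfl⟩
    rw [← map_mul, ← map_mul, hzc b hb]
  · rw [← map_mul, ← map_mul]; exact fun e => hgz (hf e)
  · rw [← map_inv, ← map_mul, ← map_mul]
    rintro ⟨y, hy, e⟩
    exact hnot (hf e ▸ hy)
  · rw [← map_inv, ← map_mul, ← map_mul, hP, Subgroup.map_sup, MonoidHom.map_zpowers]

/-- The hypotheses on the local subgroups, inside one of them. -/
structure LocData (X : Type*) [Group X] : Prop where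
  solv : Group.IsSolvable X
  char2 : IsOfCharacteristicTwo X
  cz : ∀ U : Sylow 2 X, centralizer (Zc (U : Subgroup X) : Set X) ≤ normalizer ((U : Subgroup X) : Set X)

variable {X : Type*} [Group X] [Finite X]

theorem normal_omega (Q : Subgroup X) [Q.Normal] : (Zc Q).Normal := by
  refine ⟨fun x hx g => ?_⟩
  have hmap : (Zc Q).map (MulAut.conj g).toMonoidHom ≤ Zc Q := by
    rw [Zc, CfsgLib.PLocal.map_omegaOne (conj_injective g)]
    refine omegaOne_mono ?_
    rintro _ ⟨y, ⟨hy, hyc⟩, rfl⟩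
    refine ⟨Normal.conj_mem ‹_› y hy g, mem_centralizer_iff.2 fun q hq => ?_⟩
    have := mem_centralizer_iff.1 hyc (g⁻¹ * q * g) (by simpa using Normal.conj_mem ‹_› q hq g⁻¹)
    show q * (g * y * g⁻¹) = g * y * g⁻¹ * q
    calc q * (g * y * g⁻¹) = g * ((g⁻¹ * q * g) * y) * g⁻¹ := by group
      _ = g * (y * (g⁻¹ * q * g)) * g⁻¹ := by rw [this]
      _ = _ := by group
  exact hmap (mem_map_of_mem _ hx)

/-- Notation: `O₂(X)` and `Ω₁(Z(O₂(X)))`. -/
abbrev Qc (X : Type*) [Group X] : Subgroup X := pCore 2 X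

/-- `Ω₁(Z(O₂(X)))`. -/
abbrev Vc (X : Type*) [Group X] : Subgroup X := Zc (pCore 2 X)

instance Qc_normal : (Qc X).Normal := pCore_normal 2 X

instance Vc_normal : (Vc X).Normal := normal_omega (pCore 2 X)

theorem el_Vc : IsElementaryAbelian 2 (Vc X) := el_Zc _

theorem Vc_le : Vc X ≤ Qc X := (Zc_le _).trans inf_le_left

theorem Qc_le_centralizer : Qc X ≤ centralizer (Vc X : Set X) :=
  le_centralizer_iff.1 ((Zc_le _).trans inf_le_right)

theorem mem_le_of_normalizes {T H V : Subgroup X} [Fact (Nat.Prime 2)] (h : SylIn 2 T H)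
    (hn : H ≤ normalizer (T : Set X)) (hV : IsPGroup 2 V) (hVH : V ≤ H) : V ≤ T := by
  obtain ⟨k, hk, hle⟩ := h.exists_conj hV hVH
  intro v hv
  have h1 := hle (conj_mem_cj.2 hv)
  exact (mem_normalizer_iff.1 (hn hk) v).2 h1

variable (hX : LocData X) (U : Sylow 2 X)

include hX

theorem centralizer_Vc_le : centralizer (Vc X : Set X) ≤ normalizer ((U : Subgroup X) : Set X) := by
  refine le_trans (centralizer_le ?_) (hX.cz U)
  intro x hx
  refine (closure_le _).2 ?_ hx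
  rintro y ⟨⟨hyU, hyc⟩, hy2⟩
  have hyQ : y ∈ centralizer (pCore 2 X : Set X) :=
    centralizer_le (SetLike.coe_subset_coe.2 (CfsgLib.Base.pCore_le_sylow U)) hyc
  exact mem_omegaOne ⟨hX.char2 hyQ, hyQ⟩ hy2

theorem U_inf_centralizer : (U : Subgroup X) ⊓ centralizer (Vc X : Set X) = Qc X := by
  haveI : Fact (Nat.Prime 2) := ⟨Nat.prime_two⟩
  set C := centralizer (Vc X : Set X)
  haveI : C.Normal := inferInstance
  refine le_antisymm ?_ (le_inf (CfsgLib.Base.pCore_le_sylow U) Qc_le_centralizer)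
  have hs : SylIn 2 ((U : Subgroup X) ⊓ C) C :=
    (sylIn_top U).inf_normal le_top (le_normalizer_of_normal (H := C))
  have hn : C ≤ normalizer (((U : Subgroup X) ⊓ C : Subgroup X) : Set X) :=
    CfsgLib.Coprime.le_normalizer_inf_inf (centralizer_Vc_le hX U) le_normalizer
  haveI : ((U : Subgroup X) ⊓ C).Normal := by
    refine ⟨fun x hx g => ?_⟩
    exact mem_le_of_normalizes hs hn (isPGroup_cj (g := g) hs.isPGroup)
      (fun y hy => by
        obtain ⟨z, hz, rfl⟩ := hy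
        exact Normal.conj_mem ‹C.Normal› z hz.2 g) (mem_map_of_mem _ hx)
  exact CfsgLib.Base.le_pCore hs.isPGroup

theorem pCore_quotient_Vc : pCore 2 (X ⧸ centralizer (Vc X : Set X)) = ⊥ := by
  haveI : Fact (Nat.Prime 2) := ⟨Nat.prime_two⟩
  set C := centralizer (Vc X : Set X) with hC
  haveI : (pCore 2 (X ⧸ C)).Normal := pCore_normal 2 _
  set D := (pCore 2 (X ⧸ C)).comap (QuotientGroup.mk' C) with hD
  haveI : D.Normal := Normal.comap inferInstance _
  obtain ⟨U⟩ := (inferInstance : Nonempty (Sylow 2 X))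
  have hCD : C ≤ D := le_comap_mk' _ _
  obtain ⟨n, hn⟩ := CfsgLib.Base.pCore_eq_pow_card 2 (X ⧸ C)
  have hk : C.relIndex D = 2 ^ n := by
    rw [← card_map_mk'_eq_relIndex, hD, CfsgLib.Base.map_mk'_comap, hn]
  have hsup := eq_sup_sylow_inf U hCD hk
  have hs : SylIn 2 ((U : Subgroup X) ⊓ D) D :=
    (sylIn_top U).inf_normal le_top (le_normalizer_of_normal (H := D))
  have hn' : D ≤ normalizer (((U : Subgroup X) ⊓ D : Subgroup X) : Set X) := by
    conv_lhs => rw [← hsup]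
    refine sup_le (CfsgLib.Coprime.le_normalizer_inf_inf (centralizer_Vc_le hX U)
      (le_normalizer_of_normal (H := D))) le_normalizer
  haveI : ((U : Subgroup X) ⊓ D).Normal := by
    refine ⟨fun x hx g => ?_⟩
    exact mem_le_of_normalizes hs hn' (isPGroup_cj (g := g) hs.isPGroup)
      (fun y hy => by
        obtain ⟨z, hz, rfl⟩ := hy
        exact Normal.conj_mem ‹D.Normal› z hz.2 g) (mem_map_of_mem _ hx)
  have hDC : D ≤ C := by
    rw [← hsup]
    exact sup_le le_rfl ((CfsgLib.Base.le_pCore hs.isPGroup).trans Qc_le_centralizer)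
  rw [← CfsgLib.Base.map_mk'_comap C (pCore 2 (X ⧸ C))]
  exact CfsgLib.Base.map_mk'_eq_bot_iff.2 hDC

theorem ffX : FFGroup 2 (holBase (Vc X)) ((⊤ : Subgroup X).map (toHol (Vc X))) := by
  haveI := hX.solv
  exact ffGroup_map_normal el_Vc (pCore_quotient_Vc hX) ⊤

theorem Vc_le_U : Vc X ≤ (U : Subgroup X) := Vc_le.trans (CfsgLib.Base.pCore_le_sylow U)

theorem member_offender {A : Subgroup X} (hA : A ∈ EA (U : Subgroup X)) :
    IsBestOffenderOn 2 (holBase (Vc X)) (A.map (toHol (Vc X))) := by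
  haveI : Fact (Nat.Prime 2) := ⟨Nat.prime_two⟩
  exact isBestOffenderOn_map (isBestOffenderOn_of_maxEAOf el_Vc (Vc_le_U hX U) hA)

/-- `(A ⊓ C(V)) V` is again a member. -/
theorem member_replace {A : Subgroup X} (hA : A ∈ EA (U : Subgroup X)) :
    (A ⊓ centralizer (Vc X : Set X)) ⊔ Vc X ∈ EA (U : Subgroup X) ∧
      (A ⊓ centralizer (Vc X : Set X)) ⊔ Vc X ≤ Qc X := by
  haveI : Fact (Nat.Prime 2) := ⟨Nat.prime_two⟩
  set C := centralizer (Vc X : Set X)
  have hVU := Vc_le_U hX U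
  have hAQ : A ⊓ C ≤ Qc X := (inf_le_inf_right _ hA.1).trans (U_inf_centralizer hX U).le
  have he : IsElementaryAbelian 2 ((A ⊓ C) ⊔ Vc X) :=
    isElementaryAbelian_sup (isElementaryAbelian_of_le hA.2.1 inf_le_left) el_Vc inf_le_right
  have h1 := (ffX hX).isOff (map_mono le_top) (member_offender hX U hA)
  rw [IsOff, card_fix_holBase, card_holBase, inf_centralizer_eq_inf_of_max el_Vc hVU hA] at h1
  have h2 := CfsgLib.PLocal.card_sup_mul_card_inf (A ⊓ C) (Vc X) (le_normalizer_of_normal)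
  have hVC : Vc X ≤ C := Vc_le.trans Qc_le_centralizer
  rw [inf_assoc, inf_eq_right.2 hVC] at h2
  have h3 : Nat.card A ≤ Nat.card ↥((A ⊓ C) ⊔ Vc X) := by
    refine Nat.le_of_mul_le_mul_right ?_ (Nat.card_pos (α := ↥(A ⊓ Vc X)))
    rw [h2, card_map_toHol (V := Vc X) A, ← h1]
    exact le_of_eq (by ring)
  exact ⟨⟨sup_le (inf_le_left.trans hA.1) hVU, he, fun B hB hBe => (hA.2.2 B hB hBe).trans h3⟩,
    sup_le hAQ Vc_le⟩

theorem EA_Qc : EA (Qc X) = {B | B ∈ EA (U : Subgroup X) ∧ B ≤ Qc X} := by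
  obtain ⟨A, hA⟩ := maxEAOf_nonempty 2 (U : Subgroup X)
  obtain ⟨h1, h2⟩ := member_replace hX U hA
  exact maxEAOf_mono (CfsgLib.Base.pCore_le_sylow U) h1 h2

theorem Zi_le_Zi_Qc : Zi (U : Subgroup X) ≤ Zi (Qc X) := by
  intro x hx
  refine mem_Zi.2 fun A hA => ?_
  rw [EA_Qc hX U] at hA
  exact mem_Zi.1 hx A hA.1

theorem Vc_le_Zi_Qc : Vc X ≤ Zi (Qc X) := Zc_le_Zi _

/-- Commutators of `Zi(O₂(X))` with conjugates of members are commutators with `V`. -/
theorem commutator_Zi_Qc {A : Subgroup X} (hA : A ∈ EA (U : Subgroup X)) {a : X} (ha : a ∈ A) (g : X)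
    {d : X} (hd : d ∈ Zi (Qc X)) : ∃ v ∈ Vc X, ⁅d, g * a * g⁻¹⁆ = ⁅v, g * a * g⁻¹⁆ := by
  have hd' : g⁻¹ * d * g ∈ Zi (Qc X) := by
    have hn : g⁻¹ ∈ normalizer (Zi (Qc X) : Set X) :=
      normalizer_Js_le_normalizer_Zi _ (normalizer_le_normalizer_Js _
        (le_normalizer_of_normal (H := Qc X) (mem_top _)))
    simpa using conj_mem_of_mem_normalizer hn hd
  obtain ⟨h1, h2⟩ := member_replace hX U hA
  have hmem : g⁻¹ * d * g ∈ (A ⊓ centralizer (Vc X : Set X)) ⊔ Vc X :=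
    mem_Zi.1 hd' _ (by rw [EA_Qc hX U]; exact ⟨h1, h2⟩)
  obtain ⟨c, hc, v, hv, e⟩ :=
    (CfsgLib.Coprime.mem_sup_iff_of_le_normalizer (le_normalizer_of_normal)).1 hmem
  refine ⟨g * v * g⁻¹, Vc_normal.conj_mem v hv g, ?_⟩
  have hca : c * a = a * c := isElementaryAbelian_comm hA.2.1 hc.1 ha
  have hva : ⁅v, a⁆ ∈ Vc X := comm_mem_of_mem_normalizer (le_normalizer_of_normal (mem_top a)) hv
  have hcv : ⁅v, a⁆ * c = c * ⁅v, a⁆ := mem_centralizer_iff.1 hc.2 _ hva
  have he : ⁅c * v, a⁆ = ⁅v, a⁆ := by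
    rw [show ⁅c * v, a⁆ = c * ⁅v, a⁆ * c⁻¹ * ⁅c, a⁆ by group,
      (commutatorElement_eq_one_iff_mul_comm).2 hca, mul_one, ← hcv, mul_inv_cancel_right]
  calc ⁅d, g * a * g⁻¹⁆ = g * ⁅g⁻¹ * d * g, a⁆ * g⁻¹ := by group
    _ = g * ⁅v, a⁆ * g⁻¹ := by rw [← e, he]
    _ = _ := by group

omit hX

/-- A transvection group inside the image of a member. -/
def Tr (t : Subgroup (Hol (Vc X))) : Prop :=
  ∃ A ∈ EA (U : Subgroup X), t ≤ A.map (toHol (Vc X)) ∧ Nat.card t = 2 ∧ IsOff (holBase (Vc X)) t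

include hX

theorem Tr.ffMin {t : Subgroup (Hol (Vc X))} (ht : Tr U t) :
    FFMin 2 (holBase (Vc X)) ((⊤ : Subgroup X).map (toHol (Vc X))) t := by
  obtain ⟨A, -, hle, hc, ho⟩ := ht
  have hle' := hle.trans (map_mono (le_top : A ≤ ⊤))
  exact ⟨ffX hX, hle', IsTransvectionGroup.of_isOff (hle'.trans (ffX hX).le_norm) hc ho⟩

omit hX in
theorem Tr.le_map {t : Subgroup (Hol (Vc X))} (ht : Tr U t) :
    t ≤ (U : Subgroup X).map (toHol (Vc X)) := by
  obtain ⟨A, hA, hle, -⟩ := ht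
  exact hle.trans (map_mono hA.1)

/-- The subgroup generated by the transvection groups inside the images of members. -/
theorem member_le_iSup {A : Subgroup X} (hA : A ∈ EA (U : Subgroup X)) :
    A.map (toHol (Vc X)) ≤ ⨆ t : {t // Tr U t}, (t : Subgroup (Hol (Vc X))) := by
  haveI : Fact (Nat.Prime 2) := ⟨Nat.prime_two⟩
  obtain ⟨k, F, hF, -, hsup⟩ := (ffX hX).decomposition (map_mono (le_top : A ≤ ⊤)) (member_offender hX U hA)
  rw [← hsup]
  exact iSup_le fun i => le_iSup_of_le (⟨F i, A, hA, (hF i).2.1, (hF i).1, (hF i).2.2⟩ :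
    {t // Tr U t}) le_rfl

theorem transvection_fix {t t₁ : Subgroup (Hol (Vc X))} (ht : Tr U t) (ht₁ : Tr U t₁) :
    t₁ ≤ centralizer ((⁅holBase (Vc X), t⁆ : Subgroup (Hol (Vc X))) : Set (Hol (Vc X))) := by
  haveI : Fact (Nat.Prime 2) := ⟨Nat.prime_two⟩
  have hm := Tr.ffMin hX U ht
  have hm₁ := Tr.ffMin hX U ht₁
  obtain ⟨-, hfix⟩ := hm.trans.card_commutator hm.grp.elem
  rcases hm.dichotomy hm₁ with e | ⟨-, -, -, h⟩
  · have hP := hm.isPlane_factor
    have hle : t ⊔ t₁ ≤ factor 2 ((⊤ : Subgroup X).map (toHol (Vc X))) t :=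
      sup_le le_sup_right ((le_sup_right : t₁ ≤ factor 2 ((⊤ : Subgroup X).map (toHol (Vc X))) t₁).trans e.le)
    have hp : IsPGroup 2 ↥(t ⊔ t₁) :=
      (U.2.map (toHol (Vc X))).to_le (sup_le ht.le_map ht₁.le_map)
    obtain ⟨k, hk⟩ := IsPGroup.iff_card.1 hp
    have hd := card_dvd_of_le hle
    have h6 : Nat.card ↥(factor 2 ((⊤ : Subgroup X).map (toHol (Vc X))) t) = 6 := by
      rcases hP.card_eq_or with ⟨-, h⟩ | ⟨h, -⟩
      · exact h
      · norm_num at h
    rw [h6, hk] at hd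
    have h2 : 2 ^ k ≤ 2 := by
      have : (2 ^ k).Coprime 3 := Nat.Coprime.pow_left k (by norm_num)
      exact Nat.le_of_dvd (by norm_num) (this.dvd_of_dvd_mul_right (show 2 ^ k ∣ 2 * 3 by simpa using hd))
    have et : t = t ⊔ t₁ := Subgroup.eq_of_le_of_card_ge le_sup_left (by rw [hk, hm.trans.card_eq]; exact h2)
    exact le_centralizer_iff.1 ((hfix.trans inf_le_right).trans (centralizer_le (SetLike.coe_subset_coe.2 ((le_sup_right : t₁ ≤ t ⊔ t₁).trans et.ge))))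
  · exact (le_sup_right : t₁ ≤ factor 2 _ t₁).trans
      (le_centralizer_iff.1 ((commutator_mono le_rfl le_sup_right).trans h))

/-- The elements of `V` fixed by all members, inside the holomorph. -/
theorem member_trivQuot {A : Subgroup X} (hA : A ∈ EA (U : Subgroup X)) :
    ⁅holBase (Vc X), A.map (toHol (Vc X))⁆ ≤ holBase (Vc X) ⊓
      centralizer (((⨆ t : {t // Tr U t}, (t : Subgroup (Hol (Vc X)))) : Subgroup (Hol (Vc X))) :
        Set (Hol (Vc X))) := by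
  haveI : Fact (Nat.Prime 2) := ⟨Nat.prime_two⟩
  set Ts := ⨆ t : {t // Tr U t}, (t : Subgroup (Hol (Vc X))) with hTs
  have hTsV : Ts ≤ normalizer (holBase (Vc X) : Set (Hol (Vc X))) := iSup_le fun t =>
    (Tr.ffMin hX U t.2).trans.le_norm
  have hn : Ts ≤ normalizer ((holBase (Vc X) ⊓ centralizer (Ts : Set (Hol (Vc X))) :
      Subgroup (Hol (Vc X))) : Set (Hol (Vc X))) :=
    CfsgLib.Coprime.le_normalizer_inf_inf hTsV
      (CfsgLib.Coprime.le_normalizer_centralizer le_normalizer)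
  refine commutator_le_of_le_trivQuot ((member_le_iSup hX U hA).trans (iSup_le fun t => ?_))
  refine le_trivQuot ((le_iSup (fun t : {t // Tr U t} => (t : Subgroup (Hol (Vc X)))) t).trans hn)
    (le_inf ?_ (le_centralizer_iff.1 (iSup_le fun t₁ => transvection_fix hX U t.2 t₁.2)))
  exact commutator_le_of_le_normalizer (Tr.ffMin hX U t.2).trans.le_norm

/-- An element of `V` whose image is fixed by all members lies in `Zi U`. -/
theorem mem_Zi_of_fix {w : Vc X} (hw : (SemidirectProduct.inl w : Hol (Vc X)) ∈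
      centralizer (((⨆ t : {t // Tr U t}, (t : Subgroup (Hol (Vc X)))) : Subgroup (Hol (Vc X))) :
        Set (Hol (Vc X)))) : (w : X) ∈ Zi (U : Subgroup X) :=
  mem_Zi_of (Vc_le_U hX U w.2) (sq_of_el el_Vc w.2) fun A hA a ha =>
    (inl_comm_iff a w).1 (mem_centralizer_iff.1 hw _ (member_le_iSup hX U hA (mem_map_of_mem _ ha)))

theorem commutator_Vc_mem {A : Subgroup X} (hA : A ∈ EA (U : Subgroup X)) {v a : X} (hv : v ∈ Vc X)
    (ha : a ∈ A) : ⁅v, a⁆ ∈ Zi (U : Subgroup X) := by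
  have h := inl_commutator (V := Vc X) a ⟨v, hv⟩
  exact mem_Zi_of_fix hX U (w := ⟨⁅v, a⁆, _⟩)
    (h ▸ (member_trivQuot hX U hA (commutator_mem_commutator ⟨_, rfl⟩ (mem_map_of_mem _ ha))).2)

omit hX

/-- The subgroup `Zi(U) Ω₁(Z(O₂(X)))`. -/
def Nz : Subgroup X := Zi (U : Subgroup X) ⊔ Vc X

include hX

theorem Nz_le : Nz U ≤ Zi (Qc X) := sup_le (Zi_le_Zi_Qc hX U) (Vc_le_Zi_Qc hX)

theorem el_Nz : IsElementaryAbelian 2 (Nz U) := isElementaryAbelian_of_le (el_Zi _) (Nz_le hX U)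

theorem Nz_normal : (Nz U).Normal := by
  haveI : Fact (Nat.Prime 2) := ⟨Nat.prime_two⟩
  rw [← normalizer_eq_top_iff, eq_top_iff]
  set J := Js (U : Subgroup X) with hJ
  set Y := normalClosure (J : Set X) with hY
  have hN : normalizer (J : Set X) ≤ normalizer (Nz U : Set X) :=
    CfsgLib.Coprime.le_normalizer_sup_sup (normalizer_Js_le_normalizer_Zi _)
      (le_top.trans (le_normalizer_of_normal (H := Vc X)))
  have hYN : Y ≤ normalizer (Nz U : Set X) := by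
    refine (closure_le _).2 fun x hx => ?_
    obtain ⟨j, hj, hjx⟩ := Group.mem_conjugatesOfSet_iff.1 hx
    obtain ⟨g, rfl⟩ := isConj_iff.1 hjx
    suffices h : J ≤ (normalizer (Nz U : Set X)).comap (MulAut.conj g).toMonoidHom from h hj
    rw [hJ, Js, thompsonSubgroupOf_eq_sSup]
    refine sSup_le fun A hA a ha => ?_
    show g * a * g⁻¹ ∈ normalizer (Nz U : Set X)
    have hk : ∀ n ∈ Nz U, (g * a * g⁻¹) * n * (g * a * g⁻¹)⁻¹ ∈ Nz U := by
      intro n hn
      obtain ⟨v, hv, e⟩ := commutator_Zi_Qc hX U hA ha g (Nz_le hX U hn)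
      have h1 : ⁅n, g * a * g⁻¹⁆ ∈ Nz U :=
        e ▸ mem_sup_right (comm_mem_of_mem_normalizer (le_normalizer_of_normal (mem_top _)) hv)
      rw [show (g * a * g⁻¹) * n * (g * a * g⁻¹)⁻¹ = (n⁻¹ * ⁅n, g * a * g⁻¹⁆)⁻¹ by group]
      exact inv_mem (mul_mem (inv_mem hn) h1)
    refine mem_normalizer_iff_cj.2 (Subgroup.eq_of_le_of_card_ge (cj_le_iff.2 hk) (card_cj _ _).ge)
  intro g _
  obtain ⟨d, hd, n, hn, rfl⟩ := exists_mul_normalizer U Y g
  refine mul_mem (hYN hd) (hN ?_)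
  have hJY : J ≤ (U : Subgroup X) ⊓ Y := le_inf (thompsonSubgroupOf_le 2 _) fun x hx => subset_normalClosure hx
  have e : Js ((U : Subgroup X) ⊓ Y) = J := Js_congr (EA_eq_of_Js_le inf_le_left hJY)
  exact e ▸ normalizer_le_normalizer_Js _ hn

/-- The normal elementary abelian subgroup over `Zi U`. -/
theorem exists_normal : ∃ N : Subgroup X, N.Normal ∧ IsElementaryAbelian 2 N ∧
    Zi (U : Subgroup X) ≤ N ∧
    ∀ n ∈ N, ∀ A ∈ EA (U : Subgroup X), ∀ a ∈ A, ⁅n, a⁆ ∈ Zi (U : Subgroup X) := by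
  refine ⟨Nz U, Nz_normal hX U, el_Nz hX U, le_sup_left, fun n hn A hA a ha => ?_⟩
  obtain ⟨z, hz, v, hv, rfl⟩ := (CfsgLib.Coprime.mem_sup_iff_of_le_normalizer
    (le_top.trans (le_normalizer_of_normal (H := Vc X)))).1 hn
  rw [show ⁅z * v, a⁆ = z * ⁅v, a⁆ * z⁻¹ * ⁅z, a⁆ by group,
    (commutatorElement_eq_one_iff_mul_comm).2 (comm_Zi hA hz ha).symm, mul_one]
  exact mul_mem (mul_mem hz (commutator_Vc_mem hX U hA hv ha)) (inv_mem hz)

end CfsgLib.LocalEven.SolvTwo
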