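import Cfsg.Agent.Lib.LocalEven.SolvTwo.Fac
import Cfsg.Prelude.Def_Involutions

/-!
Largest local subgroups over Sylow subgroups above the level where two `Fac` over one subgroup
have no common normalised subgroup; strongly embedded subgroups.
-/

set_option autoImplicit false
set_option linter.unusedSectionVars false
set_option linter.style.haveILetI false

namespace CfsgLib.LocalEven.SolvTwo

open Subgroup Cfsg CfsgLib.PLocal CfsgLib.Techniques
open scoped commutatorElement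

variable {G : Type*} [Group G] [Finite G]

/-- Any two `Fac` over a subgroup above level `n` normalise a common subgroup of it. -/
def Good (G : Type*) [Group G] (n : ℕ) : Prop :=
  ∀ B P P' : Subgroup G, Fac B P → Fac B P' → n < nu B →
    ∃ R : Subgroup G, R ≠ ⊥ ∧ R ≤ B ∧ P ≤ normalizer (R : Set G) ∧ P' ≤ normalizer (R : Set G)

/-- `M` is the largest local subgroup over `S`. -/
structure Top (S : Sylow 2 G) (M : Subgroup G) : Prop where
  isLocal : IsTwoLocal M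
  le : (S : Subgroup G) ≤ M
  greatest : ∀ N, IsTwoLocal N → (S : Subgroup G) ≤ N → N ≤ M

theorem Top.unique {S : Sylow 2 G} {M M' : Subgroup G} (h : Top S M) (h' : Top S M') : M = M' :=
  le_antisymm (h'.greatest M h.isLocal h.le) (h.greatest M' h'.isLocal h'.le)

theorem isTwoLocal_cj {N : Subgroup G} (h : IsTwoLocal N) (g : G) : IsTwoLocal (cj g N) := by
  obtain ⟨T, hT, hT1, rfl⟩ := h
  exact ⟨cj g T, hT.map _, fun h => hT1 (cj_eq_bot_iff.1 h), cj_normalizer g T⟩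

theorem coe_smul_sylow (g : G) (S : Sylow 2 G) :
    ((g • S : Sylow 2 G) : Subgroup G) = cj g (S : Subgroup G) := by
  rw [Sylow.coe_subgroup_smul, ← Base.map_conj_eq_smul]

theorem Top.cj {S : Sylow 2 G} {M : Subgroup G} (h : Top S M) (g : G) : Top (g • S) (cj g M) := by
  have hS := coe_smul_sylow g S
  refine ⟨isTwoLocal_cj h.isLocal g, hS ▸ cj_mono h.le, fun N hN hle => ?_⟩
  rw [← cj_cj_inv g N]
  refine cj_mono (h.greatest _ (isTwoLocal_cj hN _) ?_)
  rw [← cj_inv_cj g (S : Subgroup G)]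
  exact cj_mono (hS ▸ hle)

theorem nu_cj (g : G) (U : Subgroup G) : nu (cj g U) = nu U := by
  obtain ⟨A, hA⟩ := maxEAOf_nonempty 2 U
  have hA' : cj g A ∈ EA (cj g U) := EA_map (conj_injective g) U ▸ ⟨A, hA, rfl⟩
  rw [nu_eq hA, nu_eq hA', card_cj, ← Js_map (conj_injective g)]
  congr 1
  exact card_cj g (Js U)

theorem nu_le_sylow {U : Subgroup G} (hU : IsPGroup 2 U) (S : Sylow 2 G) : nu U ≤ nu (S : Subgroup G) := by
  haveI : Fact (Nat.Prime 2) := ⟨Nat.prime_two⟩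
  obtain ⟨S', hS'⟩ := hU.exists_le_sylow
  obtain ⟨g, rfl⟩ := MulAction.exists_smul_eq G S S'
  rw [coe_smul_sylow] at hS'
  exact ((nu_mono hS').1).trans (nu_cj g _).le

theorem mem_sylow_of_normalizes {S : Sylow 2 G} {r : G} (hr : r * r = 1)
    (hn : r ∈ normalizer ((S : Subgroup G) : Set G)) : r ∈ (S : Subgroup G) := by
  haveI : Fact (Nat.Prime 2) := ⟨Nat.prime_two⟩
  have hp : IsPGroup 2 (zpowers r) := fun x => ⟨1, Subtype.ext (by
    obtain ⟨m, hm⟩ := mem_zpowers_iff.1 x.2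
    show (x : G) ^ 2 ^ 1 = 1
    rw [pow_one, ← hm, ← zpow_natCast, zpow_comm, zpow_natCast, sq, hr, one_zpow])⟩
  have h1 : IsPGroup 2 ↥((S : Subgroup G) ⊔ zpowers r) :=
    S.2.to_sup_of_normal_left' hp (zpowers_le.2 hn)
  exact (S.3 h1 le_sup_left) ▸ mem_sup_right (mem_zpowers r)

theorem Zi_le_Bm (U : Subgroup G) : Zi U ≤ Bm U := fun _ hx => by
  obtain ⟨A, hA⟩ := maxEAOf_nonempty 2 U
  exact mem_Bm_of_mem hA (Zi_le_of_mem hA hx)

/-- A `PreFac` over the full `Bm S` of a Sylow subgroup is a `Fac`. -/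
theorem Fac.of_sylow (h : Hyp G) (S : Sylow 2 G) {P : Subgroup G} (hP : PreFac (Bm (S : Subgroup G)) P) :
    Fac (Bm (S : Subgroup G)) P := by
  refine ⟨hP, fun r hr hc => ?_⟩
  have hrS : r ∈ (S : Subgroup G) := mem_sylow_of_normalizes hr (h.cz S (mem_centralizer_iff.2 fun x hx =>
    hc x (le_Bm_of_centralizes hx)))
  exact ⟨hrS, mem_centralizer_iff.2 fun z hz => hc z (Zi_le_Bm _ hz)⟩

/-! ### The subgroup `W` -/

/-- The subgroup generated by the conjugates of `Zi B` under `P`. -/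
def Dcl (B P : Subgroup G) : Subgroup G := ⨆ g : P, cj (g : G) (Zi B)

theorem Zi_le_Dcl (B P : Subgroup G) : Zi B ≤ Dcl B P :=
  le_iSup_of_le (1 : P) (by rw [OneMemClass.coe_one, cj_one])

theorem le_normalizer_Dcl (B P : Subgroup G) : P ≤ normalizer (Dcl B P : Set G) := by
  intro g hg
  refine mem_normalizer_iff_cj.2 (Subgroup.eq_of_le_of_card_ge ?_ (card_cj _ _).ge)
  rw [Dcl, cj, Subgroup.map_iSup]
  exact iSup_le fun k => le_iSup_of_le (⟨g * k, mul_mem hg k.2⟩ : P) (le_of_eq (cj_mul g k _).symm)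

theorem cj_Dcl (g : G) (B P : Subgroup G) : cj g (Dcl B P) ≤ Dcl (cj g B) (cj g P) := by
  rw [Dcl, cj, Subgroup.map_iSup]
  refine iSup_le fun k => le_iSup_of_le (⟨g * k * g⁻¹, conj_mem_cj.2 k.2⟩ : cj g P) (le_of_eq ?_)
  show cj g (cj (k : G) (Zi B)) = cj (g * k * g⁻¹) (Zi (cj g B))
  rw [show Zi (cj g B) = cj g (Zi B) from (Zi_map (conj_injective g) B).symm, ← cj_mul, ← cj_mul,
    inv_mul_cancel_right]

/-- Two `Fac` over `B` in a local subgroup with the same `EA`. -/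
theorem W_lemma (h : Hyp G) {X U B P P' : Subgroup G} (hX : IsTwoLocal X) (hU : SylIn 2 U X)
    (hEA : EA U = EA B) (hP : PreFac B P) (hP' : PreFac B P') (hPX : P ≤ X) (hP'X : P' ≤ X) :
    Dcl B P ≤ centralizer (Dcl B P' : Set G) ∧ IsElementaryAbelian 2 (Dcl B P) ∧
      P' ≤ normalizer ((Dcl B P ⊔ Dcl B P' : Subgroup G) : Set G) := by
  obtain ⟨N, hXN, hel, hZN, hcomm⟩ := local_normal h hX hU
  rw [Zi_congr hEA] at hZN hcomm
  have hle : ∀ {Q : Subgroup G}, Q ≤ X → Dcl B Q ≤ N := fun {Q} hQ => iSup_le fun g => by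
    conv_rhs => rw [← mem_normalizer_iff_cj.1 (hXN (hQ g.2))]
    exact cj_mono hZN
  have h1 := hle hPX
  have h2 := hle hP'X
  refine ⟨h1.trans ((le_centralizer_self hel).trans (centralizer_le h2)), isElementaryAbelian_of_le hel h1, ?_⟩
  obtain ⟨k, hk, A, hA, a, ha, -, hgen⟩ := hP'.gen
  refine hgen.le.trans (sup_le ?_ (zpowers_le.2 ?_))
  · exact CfsgLib.Coprime.le_normalizer_sup_sup (hP.le.trans (le_normalizer_Dcl B P))
      (hP'.le.trans (le_normalizer_Dcl B P'))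
  · set c := k * a * k⁻¹
    have hcN : Dcl B P ⊔ Dcl B P' ≤ N := sup_le h1 h2
    have key : ∀ d ∈ Dcl B P ⊔ Dcl B P', c * d * c⁻¹ ∈ Dcl B P ⊔ Dcl B P' := by
      intro d hd
      have hd' : k⁻¹ * d * k ∈ N := by
        have := conj_mem_of_mem_normalizer (inv_mem (hXN (hP'X hk))) (hcN hd)
        simpa using this
      have h3 : k * ⁅k⁻¹ * d * k, a⁆ * k⁻¹ ∈ Dcl B P' :=
        le_iSup (fun g : P' => cj (g : G) (Zi B)) ⟨k, hk⟩
          (conj_mem_cj.2 (hcomm _ hd' A (hEA ▸ hA) a ha))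
      rw [show c * d * c⁻¹ = (k * ⁅k⁻¹ * d * k, a⁆⁻¹ * k⁻¹) * d by simp only [c]; group]
      refine mul_mem (mem_sup_right ?_) hd
      rw [show k * ⁅k⁻¹ * d * k, a⁆⁻¹ * k⁻¹ = (k * ⁅k⁻¹ * d * k, a⁆ * k⁻¹)⁻¹ by group]
      exact inv_mem h3
    exact mem_normalizer_iff_cj.2 (Subgroup.eq_of_le_of_card_ge (cj_le_iff.2 key) (card_cj _ _).ge)

/-- The join of the `Dcl`. -/
def Wcl (B : Subgroup G) (F : Set (Subgroup G)) : Subgroup G := Zi B ⊔ ⨆ P : F, Dcl B (P : Subgroup G)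

theorem Wcl_facts (B : Subgroup G) (F : Set (Subgroup G))
    (hW : ∀ P ∈ F, ∀ P' ∈ F, Dcl B P ≤ centralizer (Dcl B P' : Set G) ∧ IsElementaryAbelian 2 (Dcl B P) ∧
      P' ≤ normalizer ((Dcl B P ⊔ Dcl B P' : Subgroup G) : Set G)) :
    IsElementaryAbelian 2 (Wcl B F) ∧ (∀ P ∈ F, P ≤ normalizer (Wcl B F : Set G)) ∧
      ∀ g, cj g B = B → (∀ P ∈ F, cj g P ∈ F) → g ∈ normalizer (Wcl B F : Set G) := by
  have hle : ∀ {P : Subgroup G}, P ∈ F → Dcl B P ≤ Wcl B F := fun {P} hP =>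
    le_sup_of_le_right (le_iSup (fun P : F => Dcl B (P : Subgroup G)) ⟨P, hP⟩)
  refine ⟨?_, fun P hP g hg => ?_, fun g hg hF => ?_⟩
  · set s : Set G := (Zi B : Set G) ∪ ⋃ P : F, (Dcl B (P : Subgroup G) : Set G)
    have hs : Wcl B F ≤ closure s := sup_le (fun x hx => subset_closure (Or.inl hx))
      (iSup_le fun P x hx => subset_closure (Or.inr (Set.mem_iUnion.2 ⟨P, hx⟩)))
    refine isElementaryAbelian_of_le (isElementaryAbelian_closure ?_ ?_) hs
    · have hz : ∀ x ∈ Zi B, ∀ (P : F), ∀ y ∈ Dcl B (P : Subgroup G), x * y = y * x := fun x hx P y hy =>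
        isElementaryAbelian_comm (hW _ P.2 _ P.2).2.1 (Zi_le_Dcl B _ hx) hy
      rintro x (hx | hx) y (hy | hy)
      · exact isElementaryAbelian_comm (el_Zi B) hx hy
      · obtain ⟨P, hy⟩ := Set.mem_iUnion.1 hy
        exact hz x hx P y hy
      · obtain ⟨P, hx⟩ := Set.mem_iUnion.1 hx
        exact (hz y hy P x hx).symm
      · obtain ⟨P, hx⟩ := Set.mem_iUnion.1 hx
        obtain ⟨Q, hy⟩ := Set.mem_iUnion.1 hy
        exact (mem_centralizer_iff.1 ((hW _ P.2 _ Q.2).1 hx) y hy).symm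
    · rintro x (hx | hx)
      · exact (el_Zi B).2 x hx
      · obtain ⟨P, hx⟩ := Set.mem_iUnion.1 hx
        exact (hW _ P.2 _ P.2).2.1.2 x hx
  · refine mem_normalizer_iff_cj.2 (Subgroup.eq_of_le_of_card_ge ?_ (card_cj _ _).ge)
    rw [Wcl, cj, Subgroup.map_sup, Subgroup.map_iSup]
    refine sup_le ?_ (iSup_le fun Q => ?_)
    · refine le_trans ?_ (hle hP)
      conv_rhs => rw [← mem_normalizer_iff_cj.1 (le_normalizer_Dcl B P hg)]
      exact cj_mono (Zi_le_Dcl B P)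
    · refine le_trans ?_ (sup_le (hle Q.2) (hle hP))
      conv_rhs => rw [← mem_normalizer_iff_cj.1 ((hW _ Q.2 _ hP).2.2 hg)]
      exact cj_mono le_sup_left
  · refine mem_normalizer_iff_cj.2 (Subgroup.eq_of_le_of_card_ge ?_ (card_cj _ _).ge)
    rw [Wcl, cj, Subgroup.map_sup, Subgroup.map_iSup]
    refine sup_le (le_sup_of_le_left (le_of_eq ?_)) (iSup_le fun Q => ?_)
    · rw [Zi_map (conj_injective g), ← cj, hg]
    · refine le_trans (cj_Dcl g B Q) ?_
      rw [hg]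
      exact hle (hF _ Q.2)

theorem Wcl_ne_bot {B P : Subgroup G} (hP : PreFac B P) (F : Set (Subgroup G)) : Wcl B F ≠ ⊥ := fun e =>
  Zc_ne_bot hP.two hP.ne_bot (eq_bot_iff.2 (((Zc_le_Zi B).trans le_sup_left).trans e.le))

theorem Wcl_ne_bot' {B : Subgroup G} (hB : IsPGroup 2 B) (hB1 : B ≠ ⊥) (F : Set (Subgroup G)) :
    Wcl B F ≠ ⊥ := fun e =>
  Zc_ne_bot hB hB1 (eq_bot_iff.2 (((Zc_le_Zi B).trans le_sup_left).trans e.le))

variable {n : ℕ}

theorem ne_bot_of_nu (hn : nu (⊥ : Subgroup G) ≤ n) {U : Subgroup G} (h : n < nu U) : U ≠ ⊥ := by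
  rintro rfl; omega

theorem exists_top (h : Hyp G) (hg : Good G n) (hn : nu (⊥ : Subgroup G) ≤ n) (S : Sylow 2 G)
    (hS : n < nu (S : Subgroup G)) : ∃ M, Top S M := by
  haveI : Fact (Nat.Prime 2) := ⟨Nat.prime_two⟩
  set B := Bm (S : Subgroup G) with hB
  set F : Set (Subgroup G) := {P | Fac B P} with hF
  have hBp : IsPGroup 2 B := S.2.to_le (Bm_le _)
  have hB1 : B ≠ ⊥ := ne_bot_of_nu hn (by rw [hB, nu_Bm]; exact hS)
  have hW : ∀ P ∈ F, ∀ P' ∈ F, Dcl B P ≤ centralizer (Dcl B P' : Set G) ∧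
      IsElementaryAbelian 2 (Dcl B P) ∧ P' ≤ normalizer ((Dcl B P ⊔ Dcl B P' : Subgroup G) : Set G) := by
    intro P hP P' hP'
    obtain ⟨R, hR1, hRB, hPR, hP'R⟩ := hg B P P' hP hP' (by rw [hB, nu_Bm]; exact hS)
    obtain ⟨U, hU, hBU⟩ := exists_sylIn_ge hBp ((hP.le).trans hPR)
    have hnu : nu U = nu B := le_antisymm ((nu_le_sylow hU.isPGroup S).trans (nu_Bm _).ge) (nu_mono hBU).1
    exact W_lemma h ⟨R, hBp.to_le hRB, hR1, rfl⟩ hU ((nu_mono hBU).2 hnu.symm) hP.toPreFac hP'.toPreFac hPR hP'R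
  obtain ⟨hel, hPn, hperm⟩ := Wcl_facts B F hW
  have hlocal : IsTwoLocal (normalizer (Wcl B F : Set G)) :=
    ⟨_, isPGroup_of_isElementaryAbelian hel, Wcl_ne_bot' hBp hB1 F, rfl⟩
  have hgreat : ∀ X, IsTwoLocal X → (S : Subgroup G) ≤ X → X ≤ normalizer (Wcl B F : Set G) := by
    intro X hX hSX
    refine local_gen h hX (sylIn_of_le S hSX) _ (fun y hy => ?_) fun P _ hP => hPn P (Fac.of_sylow h S hP)
    have hyB : cj y B = B := mem_normalizer_iff_cj.1 (normalizer_Js_le_Bm h hX (sylIn_of_le S hSX) hy)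
    refine hperm y hyB fun P hP => ?_
    have := Fac.cj (show Fac B P from hP) y
    rwa [hyB] at this
  refine ⟨_, hlocal, ?_, hgreat⟩
  exact le_normalizer.trans (hgreat _ ⟨S, S.2, sylow_ne_bot h S, rfl⟩ le_normalizer)

theorem levels (h : Hyp G) (hg : Good G n) (hn : nu (⊥ : Subgroup G) ≤ n) :
    ∀ d m : ℕ, (Nat.card G + 1) * (Nat.card G + 1) * (Nat.card G + 1) + 1 ≤ m + d →
    (∀ (X U : Subgroup G) (S : Sylow 2 G) (M : Subgroup G), IsTwoLocal X → SylIn 2 U X → U ≤ S →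
      m ≤ mu U → n < nu U → Top S M → X ≤ M) ∧
    (∀ (S₁ S₂ : Sylow 2 G) (M₁ M₂ : Subgroup G), Top S₁ M₁ → Top S₂ M₂ →
      m ≤ mu ((S₁ : Subgroup G) ⊓ S₂) → n < nu ((S₁ : Subgroup G) ⊓ S₂) → M₁ = M₂) := by
  haveI : Fact (Nat.Prime 2) := ⟨Nat.prime_two⟩
  intro d
  induction d with
  | zero =>
    intro m hm
    refine ⟨fun X U S M _ _ _ hmU => ?_, fun S₁ S₂ M₁ M₂ _ _ hmU => ?_⟩
    · have := mu_le U; omega
    · have := mu_le ((S₁ : Subgroup G) ⊓ S₂); omega
  | succ d ihd =>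
    intro m hm
    obtain ⟨ihA, ihE⟩ := ihd (m + 1) (by omega)
    -- a local subgroup containing a larger part of `M`
    have key : ∀ (X V : Subgroup G) (S : Sylow 2 G) (M : Subgroup G), IsTwoLocal X → IsPGroup 2 V →
        V ≤ X → V ≤ M → m < mu V → n < nu V → Top S M → X ≤ M := by
      intro X V S M hX hV hVX hVM hmV hnV hM
      obtain ⟨k, hk, hle⟩ := (sylIn_of_le S hM.le).exists_conj hV hVM
      have hM' : Top (k⁻¹ • S) M := by
        have := hM.cj k⁻¹
        rwa [cj_eq_self_of_mem (inv_mem hk)] at this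
      have hVS : V ≤ ((k⁻¹ • S : Sylow 2 G) : Subgroup G) := by
        rw [coe_smul_sylow, ← cj_inv_cj k V]; exact cj_mono hle
      obtain ⟨U, hU, hVU⟩ := exists_sylIn_ge hV hVX
      obtain ⟨S', hUS'⟩ := hU.isPGroup.exists_le_sylow
      obtain ⟨M', hM''⟩ := exists_top h hg hn S' (lt_of_lt_of_le hnV (nu_mono (hVU.trans hUS')).1)
      have he : M' = M := by
        have hint : V ≤ (S' : Subgroup G) ⊓ (k⁻¹ • S : Sylow 2 G) := le_inf (hVU.trans hUS') hVS
        exact ihE S' (k⁻¹ • S) M' M hM'' hM' (Nat.succ_le_of_lt (lt_of_lt_of_le hmV (mu_mono hint)))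
          (lt_of_lt_of_le hnV (nu_mono hint).1)
      exact he ▸ ihA X U S' M' hX hU hUS' (Nat.succ_le_of_lt (lt_of_lt_of_le hmV (mu_mono hVU)))
        (lt_of_lt_of_le hnV (nu_mono hVU).1) hM''
    have hA : ∀ (X U : Subgroup G) (S : Sylow 2 G) (M : Subgroup G), IsTwoLocal X → SylIn 2 U X → U ≤ S →
        m ≤ mu U → n < nu U → Top S M → X ≤ M := by
      intro X U S M hX hU hUS hmU hnU hM
      rcases hUS.eq_or_lt with e | hlt
      · exact hM.greatest X hX (e ▸ hU.le)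
      set B := Bm U with hB
      have hnB : nu B = nu U := nu_Bm U
      have hU1 := ne_bot_of_nu hn hnU
      set V₀ := (S : Subgroup G) ⊓ normalizer (U : Set G) with hV₀
      have hlt' : U < V₀ := lt_inf_normalizer' S.2 hlt
      have hmV₀ : m < mu V₀ := lt_of_le_of_lt hmU (mu_lt_of_lt hlt')
      have hnV₀ : n < nu V₀ := lt_of_lt_of_le hnU (nu_mono hlt'.le).1
      have hV₀M : V₀ ≤ M := inf_le_left.trans hM.le
      have hV₀p : IsPGroup 2 V₀ := S.2.to_le inf_le_left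
      -- `N(J(U)) ≤ M`
      have hJM : normalizer (Js U : Set G) ≤ M := by
        refine key _ V₀ S M ⟨Js U, hU.isPGroup.to_le (thompsonSubgroupOf_le 2 U), fun e => ?_, rfl⟩ hV₀p
          (inf_le_right.trans (normalizer_le_normalizer_Js U)) hV₀M hmV₀ hnV₀ hM
        obtain ⟨A, hA⟩ := maxEAOf_nonempty 2 U
        exact Zc_ne_bot hU.isPGroup hU1 (eq_bot_iff.2 (((Zc_le_of_mem hA).trans
          (le_thompsonSubgroupOf hA)).trans e.le))
      have hBp : IsPGroup 2 B := hU.isPGroup.to_le (Bm_le U)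
      have hBM : B ≤ M := ((Bm_le U).trans hlt'.le).trans hV₀M
      set F : Set (Subgroup G) := {P | Fac B P ∧ ¬ P ≤ M} with hF
      refine local_gen h hX hU M (inf_le_right.trans hJM) fun P _ hP => ?_
      by_contra hPM
      -- `P` is a `Fac`
      have hsat : Fac B P := by
        refine ⟨hP, fun r hr hc => ?_⟩
        by_contra hrB
        have hrS : r ∈ (S : Subgroup G) := mem_sylow_of_normalizes hr (h.cz S (mem_centralizer_iff.2
          fun x hx => hc x (le_Bm_of_centralizes (Zc_le_Zc hX hU S hUS hx))))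
        obtain ⟨R, hRB, hR1, hPR⟩ := hP.inf_centralizer_le
        set V := B ⊔ zpowers r with hV
        have hBV : B ≤ V := le_sup_left
        have hVS : V ≤ (S : Subgroup G) := sup_le ((Bm_le U).trans hUS) (zpowers_le.2 hrS)
        have hnV : nu B < nu V := by
          refine lt_of_le_of_ne (nu_mono hBV).1 fun e => ?_
          obtain ⟨A, hA⟩ := maxEAOf_nonempty 2 B
          have hA' : A ∈ EA V := (nu_mono hBV).2 e ▸ hA
          exact hrB (hA.1 (mem_of_max_of_commute hA' (mem_sup_right (mem_zpowers r)) (by rw [sq, hr])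
            fun a ha => hc a (hA.1 ha)))
        refine hPM (hPR.trans (key _ V S M ⟨R, hBp.to_le hRB, hR1, rfl⟩ (S.2.to_le hVS) ?_
          (hVS.trans hM.le) (lt_of_le_of_lt hmU (mu_lt (Or.inl (hnB ▸ hnV)))) (by omega) hM))
        refine sup_le (hP.le.trans hPR) (zpowers_le.2 (centralizer_le_normalizer _
          (mem_centralizer_iff.2 fun x hx => hc x (hRB hx))))
      have hW : ∀ P ∈ F, ∀ P' ∈ F, Dcl B P ≤ centralizer (Dcl B P' : Set G) ∧
          IsElementaryAbelian 2 (Dcl B P) ∧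
            P' ≤ normalizer ((Dcl B P ⊔ Dcl B P' : Subgroup G) : Set G) := by
        rintro P ⟨hP, hPM⟩ P' ⟨hP', -⟩
        obtain ⟨R, hR1, hRB, hPR, hP'R⟩ := hg B P P' hP hP' (by rw [hnB]; exact hnU)
        have hX' : IsTwoLocal (normalizer (R : Set G)) := ⟨R, hBp.to_le hRB, hR1, rfl⟩
        obtain ⟨U', hU', hBU'⟩ := exists_sylIn_ge hBp (hP.le.trans hPR)
        set V := U' ⊓ M with hV
        have hBV : B ≤ V := le_inf hBU' hBM
        have heq : nu B = nu V := by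
          refine le_antisymm (nu_mono hBV).1 (not_lt.1 fun hlt2 => hPM (hPR.trans ?_))
          exact key _ V S M hX' (hU'.isPGroup.to_le inf_le_left) (inf_le_left.trans hU'.le) inf_le_right
            (lt_of_le_of_lt hmU (mu_lt (Or.inl (hnB ▸ hlt2)))) (by omega) hM
        have hEAV : EA V = EA B := (nu_mono hBV).2 heq
        have hU'V : U' = V := by
          by_contra hne
          have hVlt : V < U' := lt_of_le_of_ne inf_le_left (Ne.symm hne)
          have h2 := lt_inf_normalizer' hU'.isPGroup hVlt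
          have hJ : Js V = Js U := Js_congr (hEAV.trans (EA_Bm U))
          exact h2.not_ge (le_inf inf_le_left ((inf_le_right.trans (normalizer_le_normalizer_Js V)).trans
            (hJ ▸ hJM)))
        exact W_lemma h hX' hU' (hU'V ▸ hEAV) hP.toPreFac hP'.toPreFac hPR hP'R
      obtain ⟨hel, hPn, hperm⟩ := Wcl_facts B F hW
      refine hPM ((hPn P ⟨hsat, hPM⟩).trans ?_)
      refine key _ V₀ S M ⟨_, isPGroup_of_isElementaryAbelian hel, Wcl_ne_bot hP F, rfl⟩ hV₀p ?_ hV₀M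
        hmV₀ hnV₀ hM
      intro y hy
      have hyB : cj y B = B := mem_normalizer_iff_cj.1 (normalizer_le_normalizer_Bm U hy.2)
      refine hperm y hyB fun Q hQ => ⟨?_, fun hle => hQ.2 ?_⟩
      · have := hQ.1.cj y
        rwa [hyB] at this
      · rw [← cj_inv_cj y Q, ← cj_eq_self_of_mem (inv_mem (hV₀M hy))]
        exact cj_mono hle
    refine ⟨hA, fun S₁ S₂ M₁ M₂ h₁ h₂ hmI hnI => ?_⟩
    by_cases hlt : m < mu ((S₁ : Subgroup G) ⊓ S₂)
    · exact ihE S₁ S₂ M₁ M₂ h₁ h₂ hlt hnI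
    by_cases heq : S₁ = S₂
    · subst heq; exact h₁.unique h₂
    set T := (S₁ : Subgroup G) ⊓ S₂ with hT
    have hTlt₁ : T < (S₁ : Subgroup G) := lt_of_le_of_ne inf_le_left fun e => heq
      (Sylow.ext ((S₁.3 S₂.2 (e.ge.trans inf_le_right)).symm))
    have hTlt₂ : T < (S₂ : Subgroup G) := lt_of_le_of_ne inf_le_right fun e => heq
      (Sylow.ext (S₂.3 S₁.2 (e.ge.trans inf_le_left)))
    set R₁ := (S₁ : Subgroup G) ⊓ normalizer (T : Set G)
    set R₂ := (S₂ : Subgroup G) ⊓ normalizer (T : Set G)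
    have hR₁ := lt_inf_normalizer' S₁.2 hTlt₁
    have hR₂ := lt_inf_normalizer' S₂.2 hTlt₂
    have hNloc : IsTwoLocal (normalizer (T : Set G)) :=
      ⟨T, S₁.2.to_le inf_le_left, ne_bot_of_nu hn hnI, rfl⟩
    have e1 : normalizer (T : Set G) ≤ M₁ := key _ R₁ S₁ M₁ hNloc (S₁.2.to_le inf_le_left) inf_le_right
      (inf_le_left.trans h₁.le) (lt_of_le_of_lt hmI (mu_lt_of_lt hR₁))
      (lt_of_lt_of_le hnI (nu_mono hR₁.le).1) h₁
    -- `R₂` lies in a Sylow subgroup of `M₁`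
    obtain ⟨k, hk, hle⟩ := (sylIn_of_le S₁ h₁.le).exists_conj (S₂.2.to_le (inf_le_left : R₂ ≤ _))
      (inf_le_right.trans e1)
    have hM' : Top (k⁻¹ • S₁) M₁ := by
      have := h₁.cj k⁻¹
      rwa [cj_eq_self_of_mem (inv_mem hk)] at this
    have hint : R₂ ≤ (S₂ : Subgroup G) ⊓ (k⁻¹ • S₁ : Sylow 2 G) := le_inf inf_le_left (by
      rw [coe_smul_sylow, ← cj_inv_cj k R₂]; exact cj_mono hle)
    exact (ihE S₂ (k⁻¹ • S₁) M₂ M₁ h₂ hM'
      (Nat.succ_le_of_lt (lt_of_le_of_lt hmI (lt_of_lt_of_le (mu_lt_of_lt hR₂) (mu_mono hint))))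
      (lt_of_lt_of_le hnI ((nu_mono hR₂.le).1.trans (nu_mono hint).1))).symm

theorem local_le_top (h : Hyp G) (hg : Good G n) (hn : nu (⊥ : Subgroup G) ≤ n) {X U : Subgroup G}
    {S : Sylow 2 G} {M : Subgroup G} (hX : IsTwoLocal X) (hU : SylIn 2 U X) (hUS : U ≤ S) (hnU : n < nu U)
    (hM : Top S M) : X ≤ M :=
  (levels h hg hn ((Nat.card G + 1) * (Nat.card G + 1) * (Nat.card G + 1) + 1) 0 (by omega)).1 X U S M hX hU hUS (Nat.zero_le _) hnU hM

theorem top_eq (h : Hyp G) (hg : Good G n) (hn : nu (⊥ : Subgroup G) ≤ n) {S₁ S₂ : Sylow 2 G}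
    {M₁ M₂ : Subgroup G} (h₁ : Top S₁ M₁) (h₂ : Top S₂ M₂)
    (hnI : n < nu ((S₁ : Subgroup G) ⊓ S₂)) : M₁ = M₂ :=
  (levels h hg hn ((Nat.card G + 1) * (Nat.card G + 1) * (Nat.card G + 1) + 1) 0 (by omega)).2 S₁ S₂ M₁ M₂ h₁ h₂ (Nat.zero_le _) hnI

/-- Without a bad pair there is a strongly embedded subgroup. -/
theorem exists_stronglyEmbedded (h : Hyp G) (hO : pCore 2 G = ⊥) (hg : Good G (nu (⊥ : Subgroup G))) :
    ∃ K : Subgroup G, IsStronglyEmbedded K := by
  haveI : Fact (Nat.Prime 2) := ⟨Nat.prime_two⟩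
  obtain ⟨S⟩ := (inferInstance : Nonempty (Sylow 2 G))
  have hS1 := sylow_ne_bot h S
  obtain ⟨M, hM⟩ := exists_top h hg le_rfl S (nu_bot_lt S.2 hS1)
  obtain ⟨T, hT, hT1, hMT⟩ := hM.isLocal
  refine ⟨M, fun htop => ?_, ?_, fun g hg' => ?_⟩
  · haveI : T.Normal := normalizer_eq_top_iff.1 (hMT ▸ htop)
    exact hT1 (eq_bot_iff.2 (hO ▸ Base.le_pCore hT))
  · rw [even_iff_two_dvd]
    obtain ⟨j, hj⟩ := IsPGroup.iff_card.1 S.2
    have hj0 : j ≠ 0 := fun h0 => hS1 (Subgroup.card_eq_one.1 (by rw [hj, h0, pow_zero]))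
    exact (hj ▸ dvd_pow_self 2 hj0).trans (Subgroup.card_dvd_of_le hM.le)
  · by_contra hodd
    rw [Nat.not_odd_iff_even, even_iff_two_dvd] at hodd
    obtain ⟨t, ht⟩ := exists_prime_orderOf_dvd_card' 2 hodd
    set t₀ : G := (t : G)
    have ht0 : orderOf t₀ = 2 := by rw [Subgroup.orderOf_coe, ht]
    have htp : IsPGroup 2 (zpowers t₀) := IsPGroup.iff_card.2 ⟨1, by rw [Nat.card_zpowers, ht0, pow_one]⟩
    obtain ⟨k, hk, hk1⟩ := (sylIn_of_le S hM.le).exists_conj htp (zpowers_le.2 t.2.1)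
    have hMg : Top (g • S) (cj g M) := hM.cj g
    obtain ⟨k', hk', hk2⟩ := (sylIn_of_le (g • S) hMg.le).exists_conj htp (zpowers_le.2 t.2.2)
    have h1 : Top (k⁻¹ • S) M := by
      have := hM.cj k⁻¹
      rwa [cj_eq_self_of_mem (inv_mem hk)] at this
    have h2 : Top (k'⁻¹ • g • S) (cj g M) := by
      have := hMg.cj k'⁻¹
      rwa [cj_eq_self_of_mem (inv_mem hk')] at this
    have hint : zpowers t₀ ≤ ((k⁻¹ • S : Sylow 2 G) : Subgroup G) ⊓ (k'⁻¹ • g • S : Sylow 2 G) := by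
      refine le_inf ?_ ?_
      · rw [coe_smul_sylow, ← cj_inv_cj k (zpowers t₀)]; exact cj_mono hk1
      · rw [coe_smul_sylow, ← cj_inv_cj k' (zpowers t₀)]; exact cj_mono hk2
    have heq : M = cj g M := top_eq h hg le_rfl h1 h2 (lt_of_lt_of_le (nu_bot_lt htp fun e => by
      rw [zpowers_eq_bot] at e; rw [e, orderOf_one] at ht0; norm_num at ht0) (nu_mono hint).1)
    have hgN : g ∈ normalizer (M : Set G) := mem_normalizer_iff_cj.2 heq.symm
    -- `M` is its own normalizer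
    set P := (pCore 2 M).map M.subtype with hP
    have hTP : T ≤ P := by
      intro x hx
      have hxM : x ∈ M := hMT ▸ le_normalizer hx
      refine ⟨⟨x, hxM⟩, ?_, rfl⟩
      haveI : (T.subgroupOf M).Normal :=
        normal_subgroupOf_of_le_normalizer (hMT.le)
      exact Base.le_pCore (N := T.subgroupOf M) (hT.comap_of_injective M.subtype M.subtype_injective) hx
    have hP1 : P ≠ ⊥ := fun e => hT1 (eq_bot_iff.2 (hTP.trans e.le))
    have hPn : normalizer (M : Set G) ≤ normalizer (P : Set G) := by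
      intro y hy
      rw [mem_normalizer_iff_cj]
      have hyM := mem_normalizer_iff_cj.1 hy
      let e : M ≃* M := (M.equivMapOfInjective _ (MulAut.conj y).injective).trans
        (MulEquiv.subgroupCongr hyM)
      conv_rhs => rw [hP, ← Base.map_pCore_mulEquiv e]
      rw [hP, Subgroup.map_map, cj, Subgroup.map_map]
      rfl
    exact hg' (hM.greatest _ ⟨P, (Base.isPGroup_pCore 2 M).map _, hP1, rfl⟩
      ((hM.le.trans le_normalizer).trans hPn) (hPn hgN))

end CfsgLib.LocalEven.SolvTwo
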