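import Cfsg.Agent.Lib.LocalEven.SolvTwo.Extremal
import Cfsg.Agent.Lib.Transfer.TransferFixed

/-!
The fixed involution is not in the subgroup generated by the elements of odd order.
-/

set_option autoImplicit false
set_option linter.unusedSectionVars false
set_option linter.unusedVariables false
set_option linter.style.haveILetI false

namespace CfsgLib.LocalEven.SolvTwo

open Subgroup Cfsg CfsgLib.PLocal CfsgLib.Techniques
open scoped commutatorElement

/-- A function invariant under a `2`-group, with values of square one and constant on fixed points. -/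
theorem prod_invariant {K X A : Type*} [Group K] [Finite K] [MulAction K X] [Fintype X] [CommGroup A]
    (hK : IsPGroup 2 K) (f : X → A) (hinv : ∀ (k : K) x, f (k • x) = f x) (hsq : ∀ x, f x * f x = 1)
    {v : A} (hv : ∀ x ∈ MulAction.fixedPoints K X, f x = v) (hodd : Odd (Nat.card X)) : ∏ x, f x = v := by
  classical
  haveI : Fact (Nat.Prime 2) := ⟨Nat.prime_two⟩
  have hfix : ∀ u : A, (Finset.univ.filter fun x => f x = u).card ≡
      Nat.card {x : X // f x = u ∧ x ∈ MulAction.fixedPoints K X} [MOD 2] := by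
    intro u
    let Y : SubMulAction K X :=
      { carrier := {x | f x = u}
        smul_mem' := fun k x hx => (hinv k x).trans hx }
    have h1 := hK.card_modEq_card_fixedPoints Y
    have e1 : Nat.card Y = (Finset.univ.filter fun x => f x = u).card := by
      show Nat.card {x : X // f x = u} = _
      rw [Nat.card_eq_fintype_card, Fintype.card_subtype]
    have e2 : Nat.card (MulAction.fixedPoints K Y) =
        Nat.card {x : X // f x = u ∧ x ∈ MulAction.fixedPoints K X} := Nat.card_congr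
      { toFun := fun y => ⟨y.1.1, y.1.2, fun k => congrArg Subtype.val (y.2 k)⟩
        invFun := fun x => ⟨⟨x.1, x.2.1⟩, fun k => Subtype.ext (x.2.2 k)⟩
        left_inv := fun _ => rfl
        right_inv := fun _ => rfl }
    rwa [e1, e2] at h1
  have hpow : ∀ (u : A) (n : ℕ), u * u = 1 → u ^ n = if Even n then 1 else u := by
    intro u n hu
    rcases Nat.even_or_odd n with ⟨k, rfl⟩ | ⟨k, rfl⟩
    · rw [if_pos (Even.add_self k), ← two_mul, pow_mul, sq, hu, one_pow]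
    · rw [if_neg (Nat.not_even_iff_odd.2 ⟨k, rfl⟩), pow_succ, pow_mul, sq, hu, one_pow, one_mul]
  have hX : Odd (Nat.card (MulAction.fixedPoints K X)) := by
    rw [Nat.odd_iff] at hodd ⊢
    have := hK.card_modEq_card_fixedPoints X
    unfold Nat.ModEq at this
    omega
  obtain ⟨x₀, hx₀⟩ : (MulAction.fixedPoints K X).Nonempty := Set.nonempty_coe_sort.1
    (Nat.card_pos_iff.1 hX.pos).1
  have hcomp := Finset.prod_comp (s := (Finset.univ : Finset X)) (id : A → A) f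
  simp only [id_eq] at hcomp
  rw [hcomp, ← Finset.prod_subset (s₁ := {v}) ?_ fun u hu huv => ?_]
  · rw [Finset.prod_singleton, hpow v _ (hv x₀ hx₀ ▸ hsq x₀), if_neg]
    rw [Nat.even_iff, hfix v]
    have : Nat.card {x : X // f x = v ∧ x ∈ MulAction.fixedPoints K X} =
        Nat.card (MulAction.fixedPoints K X) :=
      Nat.card_congr (Equiv.subtypeEquivRight fun x => ⟨fun h => h.2, fun h => ⟨hv x h, h⟩⟩)
    rw [this, Nat.odd_iff.1 hX]
    exact one_ne_zero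
  · intro u hu
    rw [Finset.mem_singleton] at hu
    subst hu
    exact Finset.mem_image.2 ⟨x₀, Finset.mem_univ _, hv x₀ hx₀⟩
  · obtain ⟨x, -, hx⟩ := Finset.mem_image.1 hu
    rw [hpow u _ (hx ▸ hsq x), if_pos]
    rw [Nat.even_iff, hfix u]
    have : Nat.card {x : X // f x = u ∧ x ∈ MulAction.fixedPoints K X} = 0 := by
      rw [Nat.card_eq_zero]
      exact Or.inl ⟨fun y => huv (Finset.mem_singleton.2 (y.2.1.symm.trans (hv y.1 y.2.2)))⟩
    rw [this]

variable {G : Type*} [Group G] [Finite G] {B P₁ P₂ : Subgroup G} {c : G}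

local notation "E₁" => Cfsg.pCoreOf 2 P₁
local notation "E₂" => Cfsg.pCoreOf 2 P₂
local notation "Zz" => (Cfsg.pCoreOf 2 P₁ ⊓ Cfsg.pCoreOf 2 P₂)

/-- A normal subgroup of a Sylow subgroup with abelian quotient missing `c`. -/
theorem Four.exists_kernel (h : Hyp G) (d : Four B P₁ P₂ c) (S : Sylow 2 G) (hBS : B ≤ S) :
    ∃ D : Subgroup G, D ≤ B ∧ c ∉ D ∧ (S : Subgroup G) ≤ normalizer (D : Set G) ∧
      (∀ s ∈ (S : Subgroup G), ∀ t ∈ (S : Subgroup G), ⁅s, t⁆ ∈ D) ∧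
      ∀ e₁ e₂, e₁ ∈ E₁ → e₁ ∉ E₂ → e₂ ∈ E₂ → e₂ ∉ E₁ → ⁅e₁, e₂⁆ ∈ D := by
  haveI : Fact (Nat.Prime 2) := ⟨Nat.prime_two⟩
  have hSB := d.normal_sylow h S hBS
  have hstab : ∀ s ∈ (S : Subgroup G), cj s (E₁) = E₁ → s ∈ B := fun s hs e =>
    d.inf_stab h S.2 hBS ▸ ⟨hs, hSB hs, mem_normalizer_iff_cj.2 e⟩
  obtain ⟨f₁, f₂, c₂, hf1, hf1', hf2, hf2', hc₂Z, -, -, hall, hn1, hn2, hne, hprod⟩ := d.elems
  set z := ⁅f₁, f₂⁆ with hz
  obtain ⟨hzZ, hz1⟩ := d.sh.comm_facts d.hp hf1 hf1' hf2 hf2'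
  have hz2 : z * z = 1 := sq_of_el d.sh.el₁ hzZ.1
  -- the second generator
  obtain ⟨a₁, a₂, ha1, ha1', ha2, ha2', hswap⟩ : ∃ a₁ a₂, a₁ ∈ E₁ ∧ a₁ ∉ E₂ ∧ a₂ ∈ E₂ ∧ a₂ ∉ E₁ ∧
      ∀ s ∈ (S : Subgroup G), s ∉ B → ∃ b ∈ B, ∃ b' ∈ B,
        s * a₁ * s⁻¹ = b * a₂ * b⁻¹ ∧ s * a₂ * s⁻¹ = b' * a₁ * b'⁻¹ := by
    by_cases hall' : ∀ y ∈ (S : Subgroup G), y ∈ B
    · exact ⟨f₁, f₂, hf1, hf1', hf2, hf2', fun s hs hsB => absurd (hall' s hs) hsB⟩
    push Not at hall'
    obtain ⟨y, hy, hyB⟩ := hall'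
    have hsw : ∀ s ∈ (S : Subgroup G), s ∉ B → cj s (E₁) = E₂ ∧ cj s (E₂) = E₁ := fun s hs hsB =>
      (d.sh.permute (hSB hs)).resolve_left fun hh => hsB (hstab s hs hh.1)
    obtain ⟨ea, eb⟩ := hsw y hy hyB
    refine ⟨f₁, y * f₁ * y⁻¹, hf1, hf1', ea ▸ conj_mem_cj.2 hf1, eb ▸ fun hh => hf1' (conj_mem_cj.1 hh), ?_⟩
    intro s hs hsB
    obtain ⟨sa, sb⟩ := hsw s hs hsB
    refine ⟨s * y⁻¹, hstab _ (mul_mem hs (inv_mem hy)) ?_, s * y, hstab _ (mul_mem hs hy) ?_,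
      by group, by group⟩
    · rw [cj_mul]
      conv_lhs => rw [show E₁ = cj y (E₂) from eb.symm, cj_inv_cj, sb]
    · rw [cj_mul, ea, sb]
  have hza : ⁅a₁, a₂⁆ = z := d.sh.comm_eq hf1 hf1' hf2 hf2' ha1 ha1' ha2 ha2'
  have hswapz : a₂ * a₁ * a₂⁻¹ = a₁ * z := by
    rw [← hza, commutatorElement_def, inv_of_el d.sh.el₁ ha1, inv_of_el d.sh.el₂ ha2, ← mul_assoc,
      ← mul_assoc, ← mul_assoc, sq_of_el d.sh.el₁ ha1, one_mul]
  set D₁ := zpowers z ⊔ zpowers a₁ with hD₁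
  set D := D₁ ⊔ zpowers a₂ with hD
  have hzD : z ∈ D := mem_sup_left (mem_sup_left (mem_zpowers z))
  have ha1D : a₁ ∈ D := mem_sup_left (mem_sup_right (mem_zpowers a₁))
  have ha2D : a₂ ∈ D := mem_sup_right (mem_zpowers a₂)
  have hDB : D ≤ B := sup_le (sup_le (zpowers_le.2 (d.sh.le₁ hzZ.1)) (zpowers_le.2 (d.sh.le₁ ha1)))
    (zpowers_le.2 (d.sh.le₂ ha2))
  -- conjugation by elements of `B`
  have hconj₁ : ∀ b ∈ B, b * a₁ * b⁻¹ = a₁ ∨ b * a₁ * b⁻¹ = a₁ * z := by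
    intro b hb
    rw [← d.sh.sup, sup_comm] at hb
    obtain ⟨q, hq, p, hp', rfl⟩ := (CfsgLib.Coprime.mem_sup_iff_of_le_normalizer
      ((d.sh.le₂).trans (d.sh.le_normalizer₁ d.hp))).1 hb
    have e : q * p * a₁ * (q * p)⁻¹ = q * a₁ * q⁻¹ := by
      rw [show q * p * a₁ * (q * p)⁻¹ = q * (p * a₁ * p⁻¹) * q⁻¹ by group,
        isElementaryAbelian_comm d.sh.el₁ hp' ha1, mul_inv_cancel_right]
    rw [e]
    by_cases hq1 : q ∈ E₁
    · left; rw [isElementaryAbelian_comm d.sh.el₁ hq1 ha1, mul_inv_cancel_right]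
    · right
      have hqa : q * a₂ ∈ Zz := inf_comm (E₂) (E₁) ▸
        (d.sh.symm.cases₁ ha2 ha2' hq).resolve_left fun hh => hq1 hh.2
      have eq : q = (q * a₂) * a₂ := by rw [mul_assoc, sq_of_el d.sh.el₂ ha2, mul_one]
      rw [eq, show q * a₂ * a₂ * a₁ * (q * a₂ * a₂)⁻¹ = (q * a₂) * (a₂ * a₁ * a₂⁻¹) * (q * a₂)⁻¹ by group,
        hswapz, ← d.sh.commute_Z hqa (mul_mem (d.sh.le₁ ha1) (d.sh.le₁ hzZ.1)), mul_inv_cancel_right]
  have hconj₂ : ∀ b ∈ B, b * a₂ * b⁻¹ = a₂ ∨ b * a₂ * b⁻¹ = a₂ * z := by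
    intro b hb
    rw [← d.sh.sup] at hb
    obtain ⟨p, hp', q, hq, rfl⟩ := (CfsgLib.Coprime.mem_sup_iff_of_le_normalizer
      ((d.sh.le₁).trans (d.sh.symm.le_normalizer₁ d.hp.symm))).1 hb
    have e : p * q * a₂ * (p * q)⁻¹ = p * a₂ * p⁻¹ := by
      rw [show p * q * a₂ * (p * q)⁻¹ = p * (q * a₂ * q⁻¹) * p⁻¹ by group,
        isElementaryAbelian_comm d.sh.el₂ hq ha2, mul_inv_cancel_right]
    rw [e]
    by_cases hp2 : p ∈ E₂
    · left; rw [isElementaryAbelian_comm d.sh.el₂ hp2 ha2, mul_inv_cancel_right]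
    · right
      have hcm : ⁅p, a₂⁆ = z := d.sh.comm_eq hf1 hf1' hf2 hf2' hp' hp2 ha2 ha2'
      rw [show p * a₂ * p⁻¹ = ⁅p, a₂⁆ * a₂ by group, hcm]
      exact (d.sh.commute_Z hzZ (d.sh.le₂ ha2)).symm
  have hnorm : (S : Subgroup G) ≤ normalizer (D : Set G) := by
    intro s hs
    refine mem_normalizer_iff_cj.2 (Subgroup.eq_of_le_of_card_ge ?_ (card_cj _ _).ge)
    rw [hD, hD₁, cj, Subgroup.map_sup, Subgroup.map_sup, MonoidHom.map_zpowers, MonoidHom.map_zpowers,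
      MonoidHom.map_zpowers]
    have hzfix : s * z * s⁻¹ = z := d.sh.fix_comm d.hp hf1 hf1' hf2 hf2' (hSB hs)
    have h1 : ∀ b ∈ B, b * a₁ * b⁻¹ ∈ D := fun b hb => by
      rcases hconj₁ b hb with e | e <;> rw [e]
      · exact ha1D
      · exact mul_mem ha1D hzD
    have h2 : ∀ b ∈ B, b * a₂ * b⁻¹ ∈ D := fun b hb => by
      rcases hconj₂ b hb with e | e <;> rw [e]
      · exact ha2D
      · exact mul_mem ha2D hzD
    refine sup_le (sup_le (zpowers_le.2 ?_) (zpowers_le.2 ?_)) (zpowers_le.2 ?_)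
    · show s * z * s⁻¹ ∈ _
      rw [hzfix]; exact hzD
    · show s * a₁ * s⁻¹ ∈ D
      by_cases hsB : s ∈ B
      · exact h1 s hsB
      · obtain ⟨b, hb, b', hb', e, e'⟩ := hswap s hs hsB
        rw [e]; exact h2 b hb
    · show s * a₂ * s⁻¹ ∈ D
      by_cases hsB : s ∈ B
      · exact h2 s hsB
      · obtain ⟨b, hb, b', hb', e, e'⟩ := hswap s hs hsB
        rw [e']; exact h1 b' hb'
  have hcD : c ∉ D := by
    intro hc
    have hn : zpowers a₂ ≤ normalizer (D₁ : Set G) := by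
      rw [zpowers_le]
      refine mem_normalizer_iff_cj.2 (Subgroup.eq_of_le_of_card_ge ?_ (card_cj _ _).ge)
      rw [hD₁, cj, Subgroup.map_sup, MonoidHom.map_zpowers, MonoidHom.map_zpowers]
      refine sup_le (zpowers_le.2 ?_) (zpowers_le.2 ?_)
      · show a₂ * z * a₂⁻¹ ∈ _
        rw [d.sh.commute_Z hzZ (d.sh.le₂ ha2), mul_inv_cancel_right]
        exact mem_sup_left (mem_zpowers z)
      · show a₂ * a₁ * a₂⁻¹ ∈ _
        rw [hswapz]
        exact mul_mem (mem_sup_right (mem_zpowers a₁)) (mem_sup_left (mem_zpowers z))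
    rw [hD, sup_comm] at hc
    obtain ⟨q, hq, r, hr, e⟩ := (CfsgLib.Coprime.mem_sup_iff_of_le_normalizer hn).1 hc
    have hr1 : r ∈ E₁ := (sup_le (zpowers_le.2 hzZ.1) (zpowers_le.2 ha1) : D₁ ≤ E₁) hr
    rcases mem_zpowers_invol (sq_of_el d.sh.el₂ ha2) hq with rfl | rfl
    · have hn' : zpowers a₁ ≤ normalizer (zpowers z : Set G) := by
        rw [zpowers_le]
        refine centralizer_le_normalizer _ (mem_centralizer_iff.2 fun v hv => ?_)
        exact isElementaryAbelian_comm d.sh.el₁ (zpowers_le.2 hzZ.1 hv) ha1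
      rw [hD₁, sup_comm] at hr
      obtain ⟨q', hq', w, hw, e'⟩ := (CfsgLib.Coprime.mem_sup_iff_of_le_normalizer hn').1 hr
      rw [one_mul] at e
      subst e e'
      have hwE : w ∈ Zz := (zpowers_le.2 hzZ : zpowers z ≤ Zz) hw
      rcases mem_zpowers_invol (sq_of_el d.sh.el₁ ha1) hq' with rfl | rfl
      · rw [one_mul] at hn1
        rcases mem_zpowers_invol hz2 hw with rfl | rfl
        · exact d.ne_one (one_mul 1)
        · exact hn1 rfl
      · exact ha1' (((Cfsg.pCoreOf 2 P₂).mul_mem_cancel_right hwE.2).1 d.mem.2)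
    · exact ha2' (((Cfsg.pCoreOf 2 P₁).mul_mem_cancel_right hr1).1 (e ▸ d.mem.1))
  -- `B` is `D` and `D c`
  have hBD : B ≤ D ⊔ zpowers c := by
    rw [← d.sh.sup]
    have hZle : Zz ≤ D ⊔ zpowers c := fun w hw => by
      rcases hall w hw with e | e | e | e <;> rw [e]
      · exact one_mem _
      · exact mem_sup_left hzD
      · exact mem_sup_right (mem_zpowers c)
      · rw [show c₂ = c * z by rw [hprod, ← mul_assoc, d.sq, one_mul]]
        exact mul_mem (mem_sup_right (mem_zpowers c)) (mem_sup_left hzD)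
    refine sup_le (fun v hv => ?_) fun v hv => ?_
    · rcases d.sh.cases₁ ha1 ha1' hv with hh | hh
      · exact hZle hh
      · have := mul_mem (hZle hh) (inv_mem (mem_sup_left ha1D : a₁ ∈ D ⊔ zpowers c))
        rwa [mul_inv_cancel_right] at this
    · rcases d.sh.symm.cases₁ ha2 ha2' hv with hh | hh
      · exact hZle (inf_comm (E₂) (E₁) ▸ hh)
      · have := mul_mem (hZle (inf_comm (E₂) (E₁) ▸ hh)) (inv_mem (mem_sup_left ha2D : a₂ ∈ D ⊔ zpowers c))
        rwa [mul_inv_cancel_right] at this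
  have hsc : ∀ s ∈ (S : Subgroup G), ⁅s, c⁆ ∈ D := by
    intro s hs
    by_cases hsB : s ∈ B
    · rw [commutatorElement_eq_one_iff_mul_comm.2 (d.sh.commute_Z d.mem hsB)]
      exact one_mem _
    · have he := d.swap h hf1 hf1' hf2 hf2' hall hn1 (hSB hs) fun e => hsB (hstab s hs e)
      rw [show ⁅s, c⁆ = (s * c * s⁻¹) * c⁻¹ by group, he, inv_of_el d.sh.el₁ d.mem.1,
        isElementaryAbelian_comm d.sh.el₁ hc₂Z.1 d.mem.1, ← hprod]
      exact hzD
  have hcn : zpowers c ≤ normalizer (D : Set G) := zpowers_le.2 (hnorm (hBS (d.sh.le₁ d.mem.1)))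
  have hSb : ∀ s ∈ (S : Subgroup G), ∀ b ∈ B, ⁅s, b⁆ ∈ D := by
    intro s hs b hb
    have hb' := hBD hb
    rw [sup_comm] at hb'
    obtain ⟨q, hq, r, hr, rfl⟩ := (CfsgLib.Coprime.mem_sup_iff_of_le_normalizer hcn).1 hb'
    have hsr : ⁅s, r⁆ ∈ D := by
      rw [show ⁅s, r⁆ = (s * r * s⁻¹) * r⁻¹ by group]
      exact mul_mem (conj_mem_of_mem_normalizer (hnorm hs) hr) (inv_mem hr)
    rw [show ⁅s, q * r⁆ = ⁅s, q⁆ * (q * ⁅s, r⁆ * q⁻¹) by group]
    refine mul_mem ?_ (conj_mem_of_mem_normalizer (hcn hq) hsr)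
    rcases mem_zpowers_invol d.sq hq with rfl | rfl
    · simp
    · exact hsc s hs
  refine ⟨D, hDB, hcD, hnorm, fun s hs t ht => ?_, fun e₁ e₂ h1 h1' h2 h2' => ?_⟩
  · by_cases htB : t ∈ B
    · exact hSb s hs t htB
    by_cases hsB : s ∈ B
    · rw [← commutatorElement_inv]
      exact inv_mem (hSb t ht s hsB)
    have hb : t * s⁻¹ ∈ B := hstab _ (mul_mem ht (inv_mem hs)) (by
      rw [cj_mul]
      have es := (d.sh.permute (hSB hs)).resolve_left fun hh => hsB (hstab s hs hh.1)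
      have et := (d.sh.permute (hSB ht)).resolve_left fun hh => htB (hstab t ht hh.1)
      conv_lhs => rw [← es.2, cj_inv_cj]
      rw [et.2])
    rw [show ⁅s, t⁆ = ⁅s, t * s⁻¹⁆ by group]
    exact hSb s hs _ hb
  · rw [d.sh.comm_eq hf1 hf1' hf2 hf2' h1 h1' h2 h2']
    exact hzD

/-- Transfer: `c` is not in the subgroup generated by the elements of odd order. -/
theorem Four.not_mem_odd (h : Hyp G) (d : Four B P₁ P₂ c) :
    c ∉ closure {g : G | Odd (orderOf g)} := by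
  classical
  haveI : Fact (Nat.Prime 2) := ⟨Nat.prime_two⟩
  obtain ⟨S, hBS⟩ := d.hp.f₁.two.exists_le_sylow
  obtain ⟨D, hDB, hcD, hSD, hcomm, hzD⟩ := d.exists_kernel h S hBS
  obtain ⟨e₁, e₂, c₂, h1, h1', h2, h2', hc₂Z, -, -, hall, hn1, -, -, hprod⟩ := d.elems
  have hzD' := hzD e₁ e₂ h1 h1' h2 h2'
  haveI hDn : (D.subgroupOf (S : Subgroup G)).Normal := normal_subgroupOf_of_le_normalizer hSD
  let A := ↥(S : Subgroup G) ⧸ D.subgroupOf (S : Subgroup G)
  letI : CommGroup A := { (inferInstance : Group A) with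
    mul_comm := fun a b => by
      obtain ⟨s, rfl⟩ := QuotientGroup.mk'_surjective _ a
      obtain ⟨t, rfl⟩ := QuotientGroup.mk'_surjective _ b
      rw [← commutatorElement_eq_one_iff_mul_comm, ← map_commutatorElement, QuotientGroup.mk'_apply,
        QuotientGroup.eq_one_iff, mem_subgroupOf]
      exact hcomm s s.2 t t.2 }
  set ϕ : ↥(S : Subgroup G) →* A := QuotientGroup.mk' (D.subgroupOf (S : Subgroup G)) with hϕ
  haveI : (S : Subgroup G).FiniteIndex := inferInstance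
  set V := MonoidHom.transfer ϕ with hV
  have hodd : closure {g : G | Odd (orderOf g)} ≤ V.ker := by
    refine (closure_le _).2 fun g hg => ?_
    have hA : IsPGroup 2 A := S.2.to_quotient _
    obtain ⟨k, hk⟩ := hA (V g)
    have hd1 : orderOf (V g) ∣ 2 ^ k := orderOf_dvd_of_pow_eq_one hk
    have hd2 : orderOf (V g) ∣ orderOf g := orderOf_map_dvd V g
    have hcop : (2 ^ k).Coprime (orderOf g) := Nat.Coprime.pow_left k (Nat.coprime_two_left.2 hg)
    exact MonoidHom.mem_ker.2 (orderOf_eq_one_iff.1 (Nat.eq_one_of_dvd_coprimes hcop hd1 hd2))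
  intro hc
  have hVc : V c = 1 := MonoidHom.mem_ker.1 (hodd hc)
  haveI : Fintype (G ⧸ (S : Subgroup G)) := Fintype.ofFinite _
  rw [hV, CfsgLib.Transfer.transfer_eq_prod_fixedVal ϕ c] at hVc
  swap
  · intro k hk hkd g hg
    have h2 : orderOf c = 2 := orderOf_eq_prime (by rw [pow_two]; exact d.sq) d.ne_one
    rw [h2] at hkd
    have : k = 2 := le_antisymm (Nat.le_of_dvd (by norm_num) hkd) hk
    subst this
    rw [show (⟨g⁻¹ * c ^ 2 * g, hg⟩ : ↥(S : Subgroup G)) = 1 from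
      Subtype.ext (by show g⁻¹ * c ^ 2 * g = 1; rw [pow_two, d.sq]; group), map_one]
  have hcS : c ∈ (S : Subgroup G) := hBS (d.sh.le₁ d.mem.1)
  set v := ϕ ⟨c, hcS⟩ with hv
  have hv1 : v ≠ 1 := fun e => hcD (by
    rw [hv, hϕ, QuotientGroup.mk'_apply, QuotientGroup.eq_one_iff, mem_subgroupOf] at e
    exact e)
  have hval : ∀ (q : G ⧸ (S : Subgroup G)), ∀ g : G, (g : G ⧸ (S : Subgroup G)) = q →
      (∀ b ∈ B, g⁻¹ * b * g ∈ (S : Subgroup G)) → CfsgLib.Transfer.fixedVal ϕ c q = v := by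
    rintro _ g rfl hg
    have hm : g⁻¹ * c * g ∈ (S : Subgroup G) := hg c (d.sh.le₁ d.mem.1)
    rw [CfsgLib.Transfer.fixedVal_of_mem ϕ c hm, hv]
    rcases d.fixed_value h S hBS hg h1 h1' h2 h2' hall hn1 with e | e
    · congr 1; exact Subtype.ext e
    · refine (QuotientGroup.eq).2 (mem_subgroupOf.2 ?_)
      show (g⁻¹ * c * g)⁻¹ * c ∈ D
      rw [e, inv_of_el d.sh.el₁ hc₂Z.1, isElementaryAbelian_comm d.sh.el₁ hc₂Z.1 d.mem.1, ← hprod]
      exact hzD'
  rw [prod_invariant (K := B) d.hp.f₁.two (fun q => CfsgLib.Transfer.fixedVal ϕ c q) ?_ ?_ ?_ ?_] at hVc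
  · exact hv1 hVc
  · intro b q
    obtain ⟨g, rfl⟩ := QuotientGroup.mk_surjective q
    have hbc : (b : G) * c = c * b := d.sh.commute_Z d.mem b.2
    have he : ((b : G) * g)⁻¹ * c * ((b : G) * g) = g⁻¹ * c * g := by
      calc ((b : G) * g)⁻¹ * c * ((b : G) * g) = g⁻¹ * (b : G)⁻¹ * (c * b) * g := by group
        _ = g⁻¹ * (b : G)⁻¹ * (b * c) * g := by rw [hbc]
        _ = _ := by group
    show CfsgLib.Transfer.fixedVal ϕ c ((((b : G) * g : G)) : G ⧸ (S : Subgroup G)) = _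
    by_cases hm : g⁻¹ * c * g ∈ (S : Subgroup G)
    · rw [CfsgLib.Transfer.fixedVal_of_mem ϕ c hm, CfsgLib.Transfer.fixedVal_of_mem ϕ c (he.symm ▸ hm)]
      congr 1; exact Subtype.ext he
    · rw [CfsgLib.Transfer.fixedVal_of_ne ϕ c, CfsgLib.Transfer.fixedVal_of_ne ϕ c]
      · exact fun e => hm ((CfsgLib.Transfer.mem_iff_smul_eq c g).2 e)
      · exact fun e => hm (he ▸ (CfsgLib.Transfer.mem_iff_smul_eq c _).2 e)
  · intro q
    obtain ⟨g, rfl⟩ := QuotientGroup.mk_surjective q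
    by_cases hm : g⁻¹ * c * g ∈ (S : Subgroup G)
    · rw [CfsgLib.Transfer.fixedVal_of_mem ϕ c hm, ← map_mul]
      rw [show (⟨g⁻¹ * c * g, hm⟩ : ↥(S : Subgroup G)) * ⟨g⁻¹ * c * g, hm⟩ = 1 from Subtype.ext (by
        show g⁻¹ * c * g * (g⁻¹ * c * g) = 1
        rw [show g⁻¹ * c * g * (g⁻¹ * c * g) = g⁻¹ * (c * c) * g by group, d.sq]; group), map_one]
    · rw [CfsgLib.Transfer.fixedVal_of_ne ϕ c, one_mul]
      exact fun e => hm ((CfsgLib.Transfer.mem_iff_smul_eq c g).2 e)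
  · intro q hq
    refine hval q q.out (QuotientGroup.out_eq' q) fun b hb => ?_
    rw [CfsgLib.Transfer.mem_iff_smul_eq, QuotientGroup.out_eq']
    exact hq ⟨b, hb⟩
  · have h1 := S.not_dvd_index
    rw [Subgroup.index] at h1
    rw [Nat.odd_iff]
    omega

end CfsgLib.LocalEven.SolvTwo
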